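import Mathlib
import Cfsg.Prelude.Def_Local
import Cfsg.Agent.Lib.Helper69.CyclicSylow
import Cfsg.Agent.Lib.Helper75.ItoSolv

/-!
# Finite solvable groups are `p`-solvable
-/

set_option autoImplicit false

namespace Cfsg.Agent.Lib.Helper79

universe u

theorem isPSolvable_of_isSolvable_aux (p : ℕ) [Fact p.Prime] :
    ∀ (n : ℕ) (G : Type u) [Group G] [Finite G], Nat.card G = n → Group.IsSolvable G →
      Cfsg.IsPSolvable p G := by
  intro n
  induction n using Nat.strong_induction_on with
  | _ n ih =>
  intro G _ _ hcard hsolv
  have hp : p.Prime := Fact.out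
  rcases subsingleton_or_nontrivial G with hsub | hnt
  · exact ⟨0, fun _ => ⊥, rfl, Subsingleton.elim _ _, fun _ _ _ => le_refl _,
      fun _ => inferInstance, fun i => i.elim0⟩
  · obtain ⟨A, hAn, hAne, hAab⟩ := Cfsg.Agent.Lib.Helper75.exists_normal_abelian_ne_bot hsolv
    have hstep : ∀ (N : Subgroup G) [N.Normal], N ≠ ⊥ →
        ((∃ m : ℕ, Nat.card N = p ^ m) ∨ (Nat.card N).Coprime p) → Cfsg.IsPSolvable p G := by
      intro N _ hNne hN
      have hlt : Nat.card (G ⧸ N) < n := by
        rw [← hcard, ← Subgroup.index_eq_card, ← Subgroup.index_mul_card N]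
        have h1 : 1 < Nat.card N := (Subgroup.one_lt_card_iff_ne_bot N).mpr hNne
        have h2 : 0 < N.index := Nat.pos_of_ne_zero Subgroup.index_ne_zero_of_finite
        nlinarith
      exact Cfsg.Agent.Lib.Helper69.isPSolvable_of_quotient p N hN
        (ih _ hlt (G ⧸ N) rfl inferInstance)
    let Q : Sylow p A := default
    have hQn : (Q : Subgroup A).Normal := by
      constructor
      intro a ha b
      have h1 : b * a * b⁻¹ = a := by
        apply Subtype.ext
        have h2 := hAab b b.2 a a.2
        simp only [Subgroup.coe_mul, Subgroup.coe_inv]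
        rw [h2]
        group
      rw [h1]
      exact ha
    have hQc : (Q : Subgroup A).Characteristic := Sylow.characteristic_of_normal Q hQn
    have hNn : ((Q : Subgroup A).map A.subtype).Normal :=
      ConjAct.normal_of_characteristic_of_normal
    have hcardN : Nat.card ((Q : Subgroup A).map A.subtype) = Nat.card (Q : Subgroup A) :=
      Subgroup.card_map_of_injective A.subtype_injective
    by_cases hN : (Q : Subgroup A).map A.subtype = ⊥
    · have hQ1 : Nat.card (Q : Subgroup A) = 1 := by
        rw [← hcardN, hN]
        exact Subgroup.card_bot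
      have hcop : (Nat.card A).Coprime p := by
        rw [Nat.coprime_comm, Nat.Prime.coprime_iff_not_dvd hp]
        intro hdvd
        have h3 := Sylow.card_eq_multiplicity Q
        rw [hQ1] at h3
        have hfac : (Nat.card A).factorization p = 0 := by
          by_contra hne
          exact absurd h3.symm (Nat.one_lt_pow hne hp.one_lt).ne'
        rcases (Nat.factorization_eq_zero_iff _ _).mp hfac with h | h | h
        · exact h hp
        · exact h hdvd
        · exact Nat.card_pos.ne' h
      exact hstep A hAne (Or.inr hcop)
    · have hpg : ∃ m : ℕ, Nat.card ((Q : Subgroup A).map A.subtype) = p ^ m := by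
        rw [hcardN]
        exact ⟨_, Sylow.card_eq_multiplicity Q⟩
      exact hstep _ hN (Or.inl hpg)

/-- A finite solvable group is `p`-solvable. -/
theorem isPSolvable_of_isSolvable {G : Type u} [Group G] [Finite G] (p : ℕ) [Fact p.Prime]
    (h : Group.IsSolvable G) : Cfsg.IsPSolvable p G :=
  isPSolvable_of_isSolvable_aux p _ G rfl h

end Cfsg.Agent.Lib.Helper79
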