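import Mathlib

/-!
# A weighted fixed-point congruence for `p`-group actions
-/

set_option autoImplicit false

namespace Cfsg.Agent.Lib.Helper79

/-- If a `p`-group acts on a finite type and `f` is an invariant weight, the total weight is
congruent modulo `p` to the weight of the fixed points. -/
theorem sum_modEq_sum_fixed {S α : Type*} [Group S] [MulAction S α] [Fintype α]
    (p : ℕ) [Fact p.Prime] (hS : IsPGroup p S) (f : α → ℕ)
    (hf : ∀ (s : S) (a : α), f (s • a) = f a) (F : Finset α)
    (hF : ∀ a, a ∈ F ↔ ∀ s : S, s • a = a) :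
    (∑ a, f a) ≡ (∑ a ∈ F, f a) [MOD p] := by
  classical
  let β := {x : α × ℕ // x.2 < f x.1}
  letI inst : MulAction S β :=
    { smul := fun s x => ⟨(s • x.1.1, x.1.2), by rw [hf]; exact x.2⟩
      one_smul := fun x => Subtype.ext (Prod.ext (one_smul S x.1.1) rfl)
      mul_smul := fun s t x => Subtype.ext (Prod.ext (mul_smul s t x.1.1) rfl) }
  have hsmul : ∀ (s : S) (x : β), ((s • x : β) : α × ℕ) = (s • x.1.1, x.1.2) := fun _ _ => rfl
  let e : β ≃ Σ a : α, Fin (f a) :=
    { toFun := fun x => ⟨x.1.1, ⟨x.1.2, x.2⟩⟩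
      invFun := fun y => ⟨(y.1, y.2.1), y.2.2⟩
      left_inv := fun x => rfl
      right_inv := fun y => rfl }
  haveI : Finite β := Finite.of_equiv _ e.symm
  have h1 : Nat.card β = ∑ a, f a := by
    rw [Nat.card_congr e, Nat.card_sigma]
    simp
  let e' : MulAction.fixedPoints S β ≃ Σ a : {a // a ∈ F}, Fin (f a.1) :=
    { toFun := fun x => ⟨⟨x.1.1.1, (hF _).mpr (fun s => by
        have := congrArg (fun y : β => y.1.1) (x.2 s)
        simpa [hsmul] using this)⟩, ⟨x.1.1.2, x.1.2⟩⟩
      invFun := fun y => ⟨⟨(y.1.1, y.2.1), y.2.2⟩, fun s => by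
        apply Subtype.ext
        rw [hsmul]
        exact Prod.ext ((hF _).mp y.1.2 s) rfl⟩
      left_inv := fun x => rfl
      right_inv := fun y => rfl }
  have h2 : Nat.card (MulAction.fixedPoints S β) = ∑ a ∈ F, f a := by
    rw [Nat.card_congr e', Nat.card_sigma]
    simp only [Nat.card_eq_fintype_card, Fintype.card_fin]
    exact Finset.sum_coe_sort F f
  have h3 := hS.card_modEq_card_fixedPoints β
  rw [h1, h2] at h3
  exact h3

end Cfsg.Agent.Lib.Helper79
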