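import Mathlib
import Cfsg.Prelude.Def_Blocks
import Cfsg.Prelude.Def_Transfer
import Cfsg.Prelude.Def_CharExt
import Cfsg.Agent.Lib.Helper16.Cover
import Cfsg.Agent.Lib.Helper16.PRegular
import Cfsg.Agent.Lib.Helper16.LocalRing
import Cfsg.Agent.Lib.Helper75.CentExt7
import Cfsg.Agent.Lib.Helper77.BlockIdem
import Cfsg.Agent.Lib.Helper77.Defect
import Cfsg.Agent.Lib.Helper80.PrimeCodeg
import Cfsg.Agent.Lib.Helper34.PComplement
import Cfsg.Agent.Lib.Helper79.FixedSum
import Cfsg.Agent.Lib.Helper79.ClassMult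
import Cfsg.Agent.Lib.Helper79.CharSum

/-!
# The Isaacs–Smith criterion for a normal `p`-complement

If every irreducible character of degree prime to `p` in the principal `p`-block is linear,
the group has a normal `p`-complement.
-/

set_option autoImplicit false

namespace Cfsg.Agent.Lib.Helper79

open Cfsg Cfsg.Agent.Lib.Helper16

universe u

/-- The subgroup generated by the `p`-regular elements. -/
def pRes (p : ℕ) (G : Type u) [Group G] : Subgroup G :=
  Subgroup.normalClosure {g : G | Cfsg.IsPRegular p g}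

instance pRes_normal (p : ℕ) (G : Type u) [Group G] : (pRes p G).Normal :=
  Subgroup.normalClosure_normal

theorem mem_pRes_of_pRegular {p : ℕ} {G : Type u} [Group G] {g : G}
    (hg : Cfsg.IsPRegular p g) : g ∈ pRes p G :=
  Subgroup.subset_normalClosure hg

/-- A homomorphism from `pRes p G` to `ℂˣ` of `p`-power exponent is trivial. -/
theorem hom_eq_one_of_pow {p : ℕ} [Fact p.Prime] {G : Type u} [Group G] [Finite G]
    (f : ↥(pRes p G) →* ℂˣ) (k : ℕ) (hf : ∀ n, f n ^ (p ^ k) = 1) : ∀ n, f n = 1 := by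
  have hp : p.Prime := Fact.out
  have hle : Subgroup.closure (Group.conjugatesOfSet {g : G | Cfsg.IsPRegular p g}) ≤
      (f.ker).map (pRes p G).subtype := by
    rw [Subgroup.closure_le]
    intro c hc
    obtain ⟨a, ha, hconj⟩ := Group.mem_conjugatesOfSet_iff.mp hc
    have hcN : c ∈ pRes p G := Subgroup.conjugatesOfSet_subset_normalClosure hc
    have hreg : Cfsg.IsPRegular p c := by
      obtain ⟨x, hx⟩ := isConj_iff.mp hconj
      have h1 : orderOf (x * a * x⁻¹) = orderOf a :=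
        (SemiconjBy.orderOf_eq x (show SemiconjBy x a (x * a * x⁻¹) by
          unfold SemiconjBy; group)).symm
      unfold Cfsg.IsPRegular
      rw [← hx, h1]
      exact ha
    refine ⟨⟨c, hcN⟩, ?_, rfl⟩
    rw [SetLike.mem_coe, MonoidHom.mem_ker]
    have h1 : f ⟨c, hcN⟩ ^ orderOf c = 1 := by
      rw [← map_pow]
      have : (⟨c, hcN⟩ : ↥(pRes p G)) ^ orderOf c = 1 := by
        apply Subtype.ext
        simp [pow_orderOf_eq_one]
      rw [this, map_one]
    have h2 := pow_gcd_eq_one.mpr ⟨h1, hf ⟨c, hcN⟩⟩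
    have hcop : Nat.Coprime (orderOf c) (p ^ k) :=
      Nat.Coprime.pow_right k ((Nat.Prime.coprime_iff_not_dvd hp).mpr hreg).symm
    rw [Nat.Coprime] at hcop
    rwa [hcop, pow_one] at h2
  intro n
  obtain ⟨m, hm, hmn⟩ := hle (show (n : G) ∈ Subgroup.closure _ from n.2)
  have : m = n := Subtype.ext hmn
  rw [← this]
  exact MonoidHom.mem_ker.mp hm

/-- The quotient by `pRes p G` is a `p`-group. -/
theorem isPGroup_quotient_pRes (p : ℕ) [Fact p.Prime] (G : Type u) [Group G] [Finite G] :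
    IsPGroup p (G ⧸ pRes p G) := by
  have hp : p.Prime := Fact.out
  apply Cfsg.Agent.Lib.Helper34.isPGroup_quotient_of_coprime_mem p (pRes p G)
  intro g hg
  exact mem_pRes_of_pRegular ((Nat.Prime.coprime_iff_not_dvd hp).mp hg.symm)

/-- If every homomorphism of `p`-power exponent from the finite group `N` to `ℂˣ` is trivial,
determinantal orders on `N` are prime to `p`. -/
theorem not_dvd_detOrder_of_hom {p : ℕ} [Fact p.Prime] {N : Type u} [Group N] [Finite N]
    (hhom : ∀ (f : N →* ℂˣ) (k : ℕ), (∀ n, f n ^ (p ^ k) = 1) → ∀ n, f n = 1)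
    (θ : N → ℂ) : ¬ p ∣ Cfsg.detOrder θ := by
  have hp : p.Prime := Fact.out
  have hpos : Nat.card N ≠ 0 := Nat.card_pos.ne'
  obtain ⟨a, m, hm, hcard⟩ := Nat.exists_eq_pow_mul_and_not_dvd hpos p hp.ne_one
  set f := Cfsg.Agent.Lib.Helper15.detCharHom θ with hf
  have h1 : ∀ n, (f ^ m) n ^ (p ^ a) = 1 := by
    intro n
    rw [MonoidHom.pow_apply, ← pow_mul, mul_comm, ← hcard, ← map_pow, pow_card_eq_one', map_one]
  have h2 := hhom (f ^ m) a h1
  have h3 : Cfsg.detChar θ ^ m = 1 := by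
    funext n
    have := h2 n
    rw [MonoidHom.pow_apply] at this
    have h4 := congrArg (fun u : ℂˣ => (u : ℂ)) this
    simp only [Units.val_pow_eq_pow_val, Units.val_one] at h4
    rw [hf, Cfsg.Agent.Lib.Helper15.detCharHom_apply] at h4
    rw [Pi.pow_apply, Pi.one_apply]
    exact h4
  intro hdvd
  exact hm (dvd_trans hdvd (orderOf_dvd_of_pow_eq_one h3))

/-- If the normal subgroup `N` contains all `p`-regular elements, every irreducible character of
`G` lying over a member of the principal block of `N` lies in the principal block of `G`. -/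
theorem mem_principalBlock_of_over {G : Type u} [Group G] [Fintype G] {p : ℕ} [Fact p.Prime]
    {M : Ideal Cfsg.AlgInt} (hM : Cfsg.IsPModular p M) (N : Subgroup G) [N.Normal] [Fintype N]
    (hreg : ∀ g : G, ¬ p ∣ orderOf g → g ∈ N) (χ : Cfsg.IrrCharacter G)
    (θ : Cfsg.IrrCharacter N) (hθ : θ ∈ Cfsg.principalBlock M N)
    (hcon : Cfsg.classInner (fun n : N => (χ : G → ℂ) n) (θ : N → ℂ) ≠ 0) :
    χ ∈ Cfsg.principalBlock M G := by
  classical
  have hMp := isPrime_of_isPModular hM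
  have hb := Cfsg.Agent.Lib.Helper77.isPBlock_principalBlock (G := N) M
  have ht := Cfsg.Agent.Lib.Helper77.trivIrr_mem_principalBlock (G := N) hMp
  show Cfsg.SameBlock M (Cfsg.Agent.Lib.Helper77.trivIrr G : G → ℂ) (χ : G → ℂ)
  apply sameBlock_of_pRegular hM
  intro g hg
  have h1 := congr_of_cover N hMp hb χ hθ hcon ht ⟨g, hreg g hg⟩
  have hcon1 : Cfsg.classInner (fun n : N => (Cfsg.Agent.Lib.Helper77.trivIrr G : G → ℂ) n)
      (Cfsg.Agent.Lib.Helper77.trivIrr N : N → ℂ) ≠ 0 := by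
    have : (fun n : N => (Cfsg.Agent.Lib.Helper77.trivIrr G : G → ℂ) n) =
        (Cfsg.Agent.Lib.Helper77.trivIrr N : N → ℂ) := rfl
    rw [this, Cfsg.Agent.Lib.Helper3.classInner_irr_self (Cfsg.Agent.Lib.Helper77.trivIrr N).2]
    exact one_ne_zero
  have h2 := congr_of_cover N hMp hb (Cfsg.Agent.Lib.Helper77.trivIrr G) ht hcon1 ht
    ⟨g, hreg g hg⟩
  have := memLocalIdeal_sub hMp h2 h1
  simpa using this

/-- The sum of the squares of the degrees of the characters of a block is divisible by `p`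
when the group order is. -/
theorem dvd_sum_degree_sq {H : Type u} [Group H] [Fintype H] {p : ℕ} [Fact p.Prime]
    {M : Ideal Cfsg.AlgInt} (hM : Cfsg.IsPModular p M) (B : Set (Cfsg.IrrCharacter H))
    (hB : Cfsg.IsPBlock M B) [Fintype {θ : Cfsg.IrrCharacter H // θ ∈ B}]
    (hp : p ∣ Nat.card H) :
    p ∣ ∑ θ : {θ : Cfsg.IrrCharacter H // θ ∈ B}, Cfsg.charDegree (θ.1 : H → ℂ) ^ 2 := by
  classical
  let _ : Fintype (Cfsg.IrrCharacter H) := Fintype.ofFinite _
  have hMp := isPrime_of_isPModular hM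
  have h1 := Cfsg.Agent.Lib.Helper77.memLocalRing_blockCoeff hMp B hB (1 : H)
  have hcard : (Nat.card H : ℂ) ≠ 0 := by exact_mod_cast Nat.card_pos.ne'
  have h2 : (Nat.card H : ℂ) * Cfsg.blockCoeff B 1 =
      ((∑ θ : {θ : Cfsg.IrrCharacter H // θ ∈ B}, Cfsg.charDegree (θ.1 : H → ℂ) ^ 2 : ℕ) : ℂ) := by
    unfold Cfsg.blockCoeff
    rw [finsum_mem_eq_sum_ite, ← mul_assoc, mul_inv_cancel₀ hcard, one_mul, ← Finset.sum_filter,
      Finset.sum_subtype (p := fun θ : Cfsg.IrrCharacter H => θ ∈ B)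
        (Finset.univ.filter (· ∈ B)) (fun x => by simp) _]
    push_cast
    apply Finset.sum_congr rfl
    intro θ _
    rw [(irr_charDegree θ.1.2).1]
    simp
    ring
  have h3 : MemLocalIdeal M ((Nat.card H : ℂ) * Cfsg.blockCoeff B 1) :=
    memLocalIdeal_mul_right hMp ((memLocalIdeal_natCast_iff hM _).mpr hp) h1
  rw [h2] at h3
  exact (memLocalIdeal_natCast_iff hM _).mp h3

/-- Under the hypothesis that the `p'`-degree characters of the principal block of `G` are
linear, a `G`-invariant `p'`-degree character in the principal block of a normal subgroup `N`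
of `p`-power index without `p`-quotients is linear. -/
theorem charDegree_eq_one_of_invariant {G : Type u} [Group G] [Fintype G] {p : ℕ}
    [Fact p.Prime] {M : Ideal Cfsg.AlgInt} (hM : Cfsg.IsPModular p M)
    (N : Subgroup G) [N.Normal]
    (hreg : ∀ g : G, ¬ p ∣ orderOf g → g ∈ N)
    (hhom : ∀ (f : N →* ℂˣ) (k : ℕ), (∀ n, f n ^ (p ^ k) = 1) → ∀ n, f n = 1)
    (hlin : ∀ χ : Cfsg.IrrCharacter G, χ ∈ Cfsg.principalBlock M G →
      ¬ p ∣ Cfsg.charDegree (χ : G → ℂ) → Cfsg.charDegree (χ : G → ℂ) = 1)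
    (θ : Cfsg.IrrCharacter N) (hθ : θ ∈ Cfsg.principalBlock M N)
    (hdeg : ¬ p ∣ Cfsg.charDegree (θ : N → ℂ))
    (hinv : ∀ (g : G) (n : N), (θ : N → ℂ) (MulAut.conjNormal g n) = (θ : N → ℂ) n) :
    Cfsg.charDegree (θ : N → ℂ) = 1 := by
  classical
  have hp : p.Prime := Fact.out
  let _ : Fintype N := Fintype.ofFinite _
  obtain ⟨d, Y, hY, hYθ⟩ := θ.2
  haveI := hY
  obtain ⟨hθ1, hdpos, -⟩ := irr_charDegree θ.2
  have hd : d = Cfsg.charDegree (θ : N → ℂ) := by
    have h1 := Cfsg.Agent.Lib.Helper80.char_one_fin Y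
    rw [hYθ, hθ1] at h1
    exact_mod_cast h1.symm
  have hQ : IsPGroup p (G ⧸ N) := by
    apply Cfsg.Agent.Lib.Helper34.isPGroup_quotient_of_coprime_mem p N
    intro g hg
    exact hreg g ((Nat.Prime.coprime_iff_not_dvd hp).mp hg.symm)
  obtain ⟨k, hk⟩ := IsPGroup.iff_card.mp hQ
  have hidx : N.index = p ^ k := by rw [Subgroup.index_eq_card]; exact hk
  have hcop : Nat.Coprime N.index (Cfsg.detOrder Y.character * d) := by
    rw [hidx]
    apply Nat.Coprime.pow_left
    apply Nat.Coprime.mul_right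
    · exact (Nat.Prime.coprime_iff_not_dvd hp).mpr (not_dvd_detOrder_of_hom hhom _)
    · rw [hd]; exact (Nat.Prime.coprime_iff_not_dvd hp).mpr hdeg
  obtain ⟨χ, ⟨hχirr, hχN, -⟩, -⟩ :=
    Cfsg.Agent.Lib.Helper75.exists_unique_extension_of_coprime N Y
      (by rw [hYθ]; exact hinv) hcop
  have hres : (fun n : N => χ n) = (θ : N → ℂ) := by
    funext n; rw [hχN, hYθ]
  have hcon : Cfsg.classInner
      (fun n : N => ((⟨χ, hχirr⟩ : Cfsg.IrrCharacter G) : G → ℂ) n) (θ : N → ℂ) ≠ 0 := by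
    show Cfsg.classInner (fun n : N => χ n) _ ≠ 0
    rw [hres, Cfsg.Agent.Lib.Helper3.classInner_irr_self θ.2]
    exact one_ne_zero
  have hχB := mem_principalBlock_of_over hM N hreg ⟨χ, hχirr⟩ θ hθ hcon
  have hdegeq : Cfsg.charDegree χ = Cfsg.charDegree (θ : N → ℂ) := by
    unfold Cfsg.charDegree
    have := congrFun hres 1
    simp only [OneMemClass.coe_one] at this
    rw [this]
  have := hlin ⟨χ, hχirr⟩ hχB (by show ¬ p ∣ Cfsg.charDegree χ; rw [hdegeq]; exact hdeg)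
  rw [← hdegeq]; exact this

section Lin

variable {N : Type u} [Group N] [Finite N] {M : Ideal Cfsg.AlgInt}

theorem memLocalRing_hom (hM : M.IsPrime) (f : N →* ℂˣ) (n : N) :
    MemLocalRing M ((f n : ℂˣ) : ℂ) :=
  memLocalRing_of_isIntegral hM
    (irr_isIntegral (Cfsg.Agent.Lib.Helper80.isIrrCharacter_of_hom f) n)

omit [Finite N] in
theorem sameBlock_lin_one (hM : M.IsPrime) :
    Cfsg.SameBlock M (fun _ : N => (1 : ℂ)) (fun n => (((1 : N →* ℂˣ) n : ℂˣ) : ℂ)) := by
  intro n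
  simp only [MonoidHom.one_apply, Units.val_one, sub_self]
  exact memLocalIdeal_zero hM

theorem sameBlock_lin_mul (hM : M.IsPrime) {f₁ f₂ : N →* ℂˣ}
    (h₁ : Cfsg.SameBlock M (fun _ : N => (1 : ℂ)) (fun n => ((f₁ n : ℂˣ) : ℂ)))
    (h₂ : Cfsg.SameBlock M (fun _ : N => (1 : ℂ)) (fun n => ((f₂ n : ℂˣ) : ℂ))) :
    Cfsg.SameBlock M (fun _ : N => (1 : ℂ)) (fun n => (((f₁ * f₂) n : ℂˣ) : ℂ)) := by
  intro n
  have e : Cfsg.centralChar (fun _ : N => (1 : ℂ)) n -
      Cfsg.centralChar (fun n => (((f₁ * f₂) n : ℂˣ) : ℂ)) n =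
      (Cfsg.centralChar (fun _ : N => (1 : ℂ)) n -
        Cfsg.centralChar (fun n => ((f₁ n : ℂˣ) : ℂ)) n) +
      ((f₁ n : ℂˣ) : ℂ) * (Cfsg.centralChar (fun _ : N => (1 : ℂ)) n -
        Cfsg.centralChar (fun n => ((f₂ n : ℂˣ) : ℂ)) n) := by
    unfold Cfsg.centralChar
    simp only [MonoidHom.mul_apply, map_one, Units.val_mul, Units.val_one]
    ring
  rw [e]
  exact memLocalIdeal_add hM (h₁ n) (memLocalIdeal_mul_left hM (memLocalRing_hom hM f₁ n) (h₂ n))

theorem sameBlock_lin_inv (hM : M.IsPrime) {f : N →* ℂˣ}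
    (h : Cfsg.SameBlock M (fun _ : N => (1 : ℂ)) (fun n => ((f n : ℂˣ) : ℂ))) :
    Cfsg.SameBlock M (fun _ : N => (1 : ℂ)) (fun n => (((f⁻¹) n : ℂˣ) : ℂ)) := by
  intro n
  have e : Cfsg.centralChar (fun _ : N => (1 : ℂ)) n -
      Cfsg.centralChar (fun n => (((f⁻¹) n : ℂˣ) : ℂ)) n =
      -((((f⁻¹) n : ℂˣ) : ℂ) * (Cfsg.centralChar (fun _ : N => (1 : ℂ)) n -
        Cfsg.centralChar (fun n => ((f n : ℂˣ) : ℂ)) n)) := by
    unfold Cfsg.centralChar
    have hne : ((f n : ℂˣ) : ℂ) ≠ 0 := Units.ne_zero _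
    simp only [MonoidHom.inv_apply, map_one, Units.val_inv_eq_inv_val, Units.val_one]
    field_simp
    ring
  rw [e]
  exact memLocalIdeal_neg (memLocalIdeal_mul_left hM (memLocalRing_hom hM f⁻¹ n) (h n))

end Lin

/-- Irreducible characters of a normal subgroup are fixed by inner conjugation. -/
theorem conjIrr_of_mem {G : Type u} [Group G] (N : Subgroup G) [N.Normal] [Fintype N]
    (θ : Cfsg.IrrCharacter N) {x : G} (hx : x ∈ N) : conjIrr N θ x = θ := by
  apply Subtype.ext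
  funext m
  have h : x⁻¹ * (m : G) * x ∈ N := N.mul_mem (N.mul_mem (N.inv_mem hx) m.2) hx
  rw [conjIrr_apply N θ x m h]
  have e : (⟨x⁻¹ * (m : G) * x, h⟩ : N) = (⟨x, hx⟩ : N)⁻¹ * m * (⟨x, hx⟩ : N)⁻¹⁻¹ := by
    apply Subtype.ext; simp
  rw [e]
  exact irr_conj_eq θ.2 m _

/-- The counting step of the Isaacs–Smith argument. -/
theorem not_dvd_card_of_linear {G : Type u} [Group G] [Fintype G] (p : ℕ) [Fact p.Prime]
    (M : Ideal Cfsg.AlgInt) (hM : Cfsg.IsPModular p M)
    (N : Subgroup G) [N.Normal]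
    (hreg : ∀ g : G, ¬ p ∣ orderOf g → g ∈ N)
    (hhom : ∀ (f : N →* ℂˣ) (k : ℕ), (∀ n, f n ^ (p ^ k) = 1) → ∀ n, f n = 1)
    (hlin : ∀ χ : Cfsg.IrrCharacter G, χ ∈ Cfsg.principalBlock M G →
      ¬ p ∣ Cfsg.charDegree (χ : G → ℂ) → Cfsg.charDegree (χ : G → ℂ) = 1) :
    ¬ p ∣ Nat.card N := by
  classical
  have hp : p.Prime := Fact.out
  have hMp := isPrime_of_isPModular hM
  let _ : Fintype N := Fintype.ofFinite N
  intro hpN
  have hbB := Cfsg.Agent.Lib.Helper77.isPBlock_principalBlock (G := N) M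
  let _ : Fintype {θ : Cfsg.IrrCharacter N // θ ∈ Cfsg.principalBlock M N} := Fintype.ofFinite _
  have hsum := dvd_sum_degree_sq hM (Cfsg.principalBlock M N) hbB hpN
  obtain ⟨S⟩ : Nonempty (Sylow p G) := inferInstance
  have hstab : ∀ (θ : Cfsg.IrrCharacter N) (g : G), θ ∈ Cfsg.principalBlock M N →
      conjIrr N θ g ∈ Cfsg.principalBlock M N := by
    intro θ g hθ
    have h1 : Cfsg.SameBlock M (Cfsg.Agent.Lib.Helper77.trivIrr N : N → ℂ) (θ : N → ℂ) := hθ
    have h2 := sameBlock_conjIrr N hMp h1 g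
    have h3 : conjIrr N (Cfsg.Agent.Lib.Helper77.trivIrr N) g =
        Cfsg.Agent.Lib.Helper77.trivIrr N := Subtype.ext rfl
    rw [h3] at h2
    exact h2
  letI act : MulAction (S : Subgroup G)
      {θ : Cfsg.IrrCharacter N // θ ∈ Cfsg.principalBlock M N} :=
    { smul := fun s θ => ⟨conjIrr N θ.1 (s : G), hstab θ.1 s θ.2⟩
      one_smul := fun θ => Subtype.ext (conjIrr_one N θ.1)
      mul_smul := fun s t θ => Subtype.ext (conjIrr_mul N θ.1 s t) }
  have hsmul : ∀ (s : (S : Subgroup G))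
      (θ : {θ : Cfsg.IrrCharacter N // θ ∈ Cfsg.principalBlock M N}),
      (s • θ).1 = conjIrr N θ.1 (s : G) := fun _ _ => rfl
  -- `G = N S`
  have hQ : IsPGroup p (G ⧸ N) := by
    apply Cfsg.Agent.Lib.Helper34.isPGroup_quotient_of_coprime_mem p N
    intro g hg
    exact hreg g ((Nat.Prime.coprime_iff_not_dvd hp).mp hg.symm)
  have hNS : N ⊔ (S : Subgroup G) = ⊤ := by
    obtain ⟨k, hk⟩ := IsPGroup.iff_card.mp hQ
    have hidx : N.index = p ^ k := by rw [Subgroup.index_eq_card]; exact hk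
    have h1 : (N ⊔ (S : Subgroup G)).index ∣ p ^ k :=
      hidx ▸ Subgroup.index_dvd_of_le le_sup_left
    have h2 : (N ⊔ (S : Subgroup G)).index ∣ (S : Subgroup G).index :=
      Subgroup.index_dvd_of_le le_sup_right
    obtain ⟨j, -, hj⟩ := (Nat.dvd_prime_pow hp).mp h1
    rw [← Subgroup.index_eq_one]
    rcases Nat.eq_zero_or_pos j with h0 | hpos
    · rw [hj, h0, pow_zero]
    · exfalso
      apply S.not_dvd_index
      exact dvd_trans (hj ▸ dvd_pow_self p hpos.ne') h2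
  have hfixG : ∀ θ : {θ : Cfsg.IrrCharacter N // θ ∈ Cfsg.principalBlock M N},
      (∀ s : (S : Subgroup G), s • θ = θ) → ∀ (g : G) (n : N),
      (θ.1 : N → ℂ) (MulAut.conjNormal g n) = (θ.1 : N → ℂ) n := by
    intro θ hfix g n
    have hg : g⁻¹ ∈ N ⊔ (S : Subgroup G) := by rw [hNS]; exact Subgroup.mem_top _
    obtain ⟨y, hy, z, hz, hyz⟩ := Subgroup.mem_sup_of_normal_left.mp hg
    have h1 : conjIrr N θ.1 g⁻¹ = θ.1 := by
      rw [← hyz, conjIrr_mul]
      have := congrArg Subtype.val (hfix ⟨z, hz⟩)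
      rw [hsmul] at this
      rw [this]
      exact conjIrr_of_mem N θ.1 hy
    have h2 := congrArg (fun ψ : Cfsg.IrrCharacter N => (ψ : N → ℂ) n) h1
    have h3 : (conjIrr N θ.1 g⁻¹ : N → ℂ) n = (θ.1 : N → ℂ) (MulAut.conjNormal g n) := by
      show (θ.1 : N → ℂ) ((MulAut.conjNormal g⁻¹)⁻¹ n) = _
      rw [map_inv, inv_inv]
    rw [← h3]; exact h2
  -- fixed points
  obtain ⟨F, hFdef⟩ : ∃ F : Finset {θ : Cfsg.IrrCharacter N // θ ∈ Cfsg.principalBlock M N},
      ∀ θ, θ ∈ F ↔ ∀ s : (S : Subgroup G), s • θ = θ :=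
    ⟨Finset.univ.filter (fun θ => ∀ s : (S : Subgroup G), s • θ = θ), fun θ => by simp⟩
  have hA := sum_modEq_sum_fixed p S.isPGroup'
    (fun θ : {θ : Cfsg.IrrCharacter N // θ ∈ Cfsg.principalBlock M N} =>
      Cfsg.charDegree (θ.1 : N → ℂ) ^ 2)
    (fun s θ => by
      show Cfsg.charDegree ((s • θ).1 : N → ℂ) ^ 2 = _
      rw [hsmul]; unfold Cfsg.charDegree; rw [conjIrr_apply_one]) F hFdef
  have hZ : ((F.filter (fun θ => Cfsg.charDegree (θ.1 : N → ℂ) = 1)).card : ZMod p) = 0 := by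
    have h1 : ((∑ θ : {θ : Cfsg.IrrCharacter N // θ ∈ Cfsg.principalBlock M N},
        Cfsg.charDegree (θ.1 : N → ℂ) ^ 2 : ℕ) : ZMod p) = 0 :=
      (ZMod.natCast_eq_zero_iff _ _).mpr hsum
    have h2 := (ZMod.natCast_eq_natCast_iff _ _ _).mpr hA
    rw [h1] at h2
    rw [Finset.card_filter, h2]
    push_cast
    apply Finset.sum_congr rfl
    intro θ hθ
    by_cases h : Cfsg.charDegree (θ.1 : N → ℂ) = 1
    · rw [if_pos h, h]; simp
    · rw [if_neg h]
      have hd : p ∣ Cfsg.charDegree (θ.1 : N → ℂ) := by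
        by_contra hnd
        exact h (charDegree_eq_one_of_invariant hM N hreg hhom hlin θ.1 θ.2 hnd
          (hfixG θ ((hFdef θ).mp hθ)))
      rw [(ZMod.natCast_eq_zero_iff _ _).mpr hd]; simp
  have hdvd : p ∣ (F.filter (fun θ => Cfsg.charDegree (θ.1 : N → ℂ) = 1)).card :=
    (ZMod.natCast_eq_zero_iff _ _).mp hZ
  -- the group of invariant linear characters in the principal block
  obtain ⟨H, hH⟩ : ∃ H : Subgroup (N →* ℂˣ), ∀ f, f ∈ H ↔
      (Cfsg.SameBlock M (fun _ : N => (1 : ℂ)) (fun n => ((f n : ℂˣ) : ℂ)) ∧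
        ∀ (g : G) (n : N), f (MulAut.conjNormal g n) = f n) :=
    ⟨{ carrier := {f | Cfsg.SameBlock M (fun _ : N => (1 : ℂ)) (fun n => ((f n : ℂˣ) : ℂ)) ∧
          ∀ (g : G) (n : N), f (MulAut.conjNormal g n) = f n}
       mul_mem' := fun {a b} ha hb => ⟨sameBlock_lin_mul hMp ha.1 hb.1, fun g n => by
          rw [MonoidHom.mul_apply, MonoidHom.mul_apply, ha.2, hb.2]⟩
       one_mem' := ⟨sameBlock_lin_one hMp, fun g n => rfl⟩
       inv_mem' := fun {a} ha => ⟨sameBlock_lin_inv hMp ha.1, fun g n => by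
          rw [MonoidHom.inv_apply, MonoidHom.inv_apply, ha.2]⟩ }, fun f => Iff.rfl⟩
  let ψ : H → {θ : Cfsg.IrrCharacter N // θ ∈ Cfsg.principalBlock M N} := fun f =>
    ⟨⟨fun n => ((f.1 n : ℂˣ) : ℂ), Cfsg.Agent.Lib.Helper80.isIrrCharacter_of_hom f.1⟩,
      ((hH f.1).mp f.2).1⟩
  have hψinj : Function.Injective ψ := by
    intro f f' h
    apply Subtype.ext
    apply MonoidHom.ext
    intro n
    apply Units.ext
    have := congrArg
      (fun θ : {θ : Cfsg.IrrCharacter N // θ ∈ Cfsg.principalBlock M N} => (θ.1 : N → ℂ) n) h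
    exact this
  haveI : Finite H := Finite.of_injective ψ hψinj
  let _ : Fintype H := Fintype.ofFinite H
  have hF₁ : F.filter (fun θ => Cfsg.charDegree (θ.1 : N → ℂ) = 1) = Finset.univ.image ψ := by
    ext θ
    rw [Finset.mem_filter, Finset.mem_image, hFdef]
    constructor
    · rintro ⟨hfix, hdeg⟩
      have h1 : (θ.1 : N → ℂ) 1 = 1 := by rw [(irr_charDegree θ.1.2).1, hdeg]; simp
      have hc := Cfsg.Agent.Lib.Helper3.isCharacter_of_irr θ.1.2
      refine ⟨⟨Cfsg.Agent.Lib.Helper15.linCharHom hc h1, (hH _).mpr ⟨θ.2, fun g n => ?_⟩⟩,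
        Finset.mem_univ _, ?_⟩
      · apply Units.ext
        exact hfixG θ hfix g n
      · apply Subtype.ext; apply Subtype.ext; rfl
    · rintro ⟨f, -, rfl⟩
      obtain ⟨hf1, hf2⟩ := (hH f.1).mp f.2
      refine ⟨fun s => ?_, Cfsg.Agent.Lib.Helper80.charDegree_of_hom f.1⟩
      apply Subtype.ext
      rw [hsmul]
      apply Subtype.ext
      funext n
      show ((f.1 ((MulAut.conjNormal (s : G))⁻¹ n) : ℂˣ) : ℂ) = ((f.1 n : ℂˣ) : ℂ)
      rw [← map_inv, hf2]
  have hcard : Nat.card H = (F.filter (fun θ => Cfsg.charDegree (θ.1 : N → ℂ) = 1)).card := by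
    rw [hF₁, Finset.card_image_of_injective _ hψinj, Finset.card_univ, Nat.card_eq_fintype_card]
  rw [← hcard] at hdvd
  obtain ⟨x, hx⟩ := exists_prime_orderOf_dvd_card' p hdvd
  have hx1 : ∀ n, (x.1 n) ^ (p ^ 1) = 1 := by
    intro n
    have h1 := pow_orderOf_eq_one x
    rw [hx] at h1
    have h2 := congrArg (fun y : H => y.1 n) h1
    simpa using h2
  have hx2 := hhom x.1 1 hx1
  have hx3 : x = 1 := by
    apply Subtype.ext
    apply MonoidHom.ext
    intro n
    exact hx2 n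
  rw [hx3, orderOf_one] at hx
  exact hp.one_lt.ne hx

/-- **Isaacs–Smith.** If every irreducible character of degree prime to `p` in the principal
`p`-block is linear, the group has a normal `p`-complement. -/
theorem hasNormalPComplement_of_linear {G : Type u} [Group G] [Finite G] (p : ℕ) [Fact p.Prime]
    (M : Ideal Cfsg.AlgInt) (hM : Cfsg.IsPModular p M)
    (hlin : ∀ χ : Cfsg.IrrCharacter G, χ ∈ Cfsg.principalBlock M G →
      ¬ p ∣ Cfsg.charDegree (χ : G → ℂ) → Cfsg.charDegree (χ : G → ℂ) = 1) :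
    Cfsg.HasNormalPComplement p G := by
  let _ : Fintype G := Fintype.ofFinite G
  have hp : p.Prime := Fact.out
  have h := not_dvd_card_of_linear p M hM (pRes p G) (fun g hg => mem_pRes_of_pRegular hg)
    (fun f k hf => hom_eq_one_of_pow f k hf) hlin
  exact Cfsg.Agent.Lib.Helper34.hasNormalPComplement_of_normal p (pRes p G)
    ((Nat.Prime.coprime_iff_not_dvd hp).mpr h).symm (isPGroup_quotient_pRes p G)

end Cfsg.Agent.Lib.Helper79
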