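import Mathlib
import Cfsg.Agent.Lib.Helper79.IsaacsSmith
import Cfsg.Agent.Lib.Helper75.GaloisChar

/-!
# A Galois-twisted form of the Isaacs–Smith criterion

Let `k` be prime to `|G|` such that the power map `g ↦ g ^ k` has `p`-power order.  If every
irreducible character of degree prime to `p` in the principal `p`-block that is fixed by
`χ ↦ χ (· ^ k)` is linear, the group has a normal `p`-complement.
-/

set_option autoImplicit false

namespace Cfsg.Agent.Lib.Helper79

open Cfsg Cfsg.Agent.Lib.Helper16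

universe u

section Pow

variable {H : Type u} [Group H] [Finite H]

/-- A power map prime to the group order is inverted by a power map. -/
theorem exists_pow_inv {k : ℕ} (hk : Nat.Coprime k (Nat.card H)) :
    ∃ j : ℕ, ∀ h : H, (h ^ k) ^ j = h := by
  by_cases hc : 1 < Nat.card H
  · obtain ⟨j, -, hj⟩ := Nat.exists_mul_mod_eq_one_of_coprime hk hc
    refine ⟨j, fun h => ?_⟩
    rw [← pow_mul, ← pow_mod_natCard, hj, pow_one]
  · have h1 : Nat.card H = 1 := by
      have := Nat.card_pos (α := H)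
      omega
    refine ⟨0, fun h => ?_⟩
    have := pow_card_eq_one' (G := H) (x := h)
    rw [h1, pow_one] at this
    rw [pow_zero, this]

theorem centralizer_pow_eq {k : ℕ} (hk : Nat.Coprime k (Nat.card H)) (h : H) :
    Subgroup.centralizer ({h ^ k} : Set H) = Subgroup.centralizer ({h} : Set H) := by
  obtain ⟨j, hj⟩ := exists_pow_inv hk
  ext x
  rw [Subgroup.mem_centralizer_singleton_iff, Subgroup.mem_centralizer_singleton_iff]
  constructor
  · intro hx
    have h1 : Commute x (h ^ k) := hx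
    have h2 := h1.pow_right j
    rw [hj] at h2
    exact h2
  · intro hx
    have h1 : Commute x h := hx
    exact h1.pow_right k

theorem centralChar_pow {k : ℕ} (hk : Nat.Coprime k (Nat.card H)) (χ : H → ℂ) (h : H) :
    Cfsg.centralChar (fun g => χ (g ^ k)) h = Cfsg.centralChar χ (h ^ k) := by
  unfold Cfsg.centralChar
  show _ * χ (h ^ k) / χ (1 ^ k) = _
  rw [one_pow, centralizer_pow_eq hk]

/-- Twisting by a power map prime to the group order preserves the block relation. -/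
theorem sameBlock_pow {M : Ideal Cfsg.AlgInt} {k : ℕ} (hk : Nat.Coprime k (Nat.card H))
    {χ ψ : H → ℂ} (h : Cfsg.SameBlock M χ ψ) :
    Cfsg.SameBlock M (fun g => χ (g ^ k)) (fun g => ψ (g ^ k)) := by
  intro g
  rw [centralChar_pow hk, centralChar_pow hk]
  exact h (g ^ k)

/-- The determinantal order is invariant under field automorphisms. -/
theorem detOrder_galois (σ : ℂ ≃+* ℂ) {χ : H → ℂ} (hχ : Cfsg.IsCharacter H χ) :
    Cfsg.detOrder (fun g => σ (χ g)) = Cfsg.detOrder χ := by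
  obtain ⟨n, ρ, rfl⟩ := hχ
  have h1 : Cfsg.detChar (fun g => σ (ρ.character g)) =
      fun g => σ (Cfsg.detChar ρ.character g) := by
    have e : (fun g => σ (ρ.character g)) = (Cfsg.Agent.Lib.Helper75.galRep σ ρ).character :=
      funext (fun g => (Cfsg.Agent.Lib.Helper75.galRep_character σ ρ g).symm)
    rw [e]
    funext g
    rw [Cfsg.Agent.Lib.Helper15.detChar_character, Cfsg.Agent.Lib.Helper15.detChar_character]
    show LinearMap.det (Matrix.toLin' ((LinearMap.toMatrix' (ρ g)).map σ)) = _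
    rw [LinearMap.det_toLin', ← LinearMap.det_toMatrix' (ρ g)]
    exact (RingHom.map_det σ.toRingHom _).symm
  unfold Cfsg.detOrder
  rw [h1]
  let F : (H → ℂ) →* (H → ℂ) := (σ.toRingHom : ℂ →* ℂ).compLeft H
  have hF : Function.Injective F := by
    intro a b hab
    funext g
    have := congrFun hab g
    exact σ.injective this
  exact orderOf_injective F hF (Cfsg.detChar ρ.character)

end Pow

/-- Twisted form of `charDegree_eq_one_of_invariant`: the canonical extension of a character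
fixed by the power map `k` is fixed by the power map `k`. -/
theorem charDegree_eq_one_of_invariant_tw {G : Type u} [Group G] [Fintype G] {p : ℕ}
    [Fact p.Prime] {M : Ideal Cfsg.AlgInt} (hM : Cfsg.IsPModular p M)
    (N : Subgroup G) [N.Normal]
    (hreg : ∀ g : G, ¬ p ∣ orderOf g → g ∈ N)
    (hhom : ∀ (f : N →* ℂˣ) (k : ℕ), (∀ n, f n ^ (p ^ k) = 1) → ∀ n, f n = 1)
    (k : ℕ) (hk : Nat.Coprime k (Nat.card G))
    (hlin : ∀ χ : Cfsg.IrrCharacter G, χ ∈ Cfsg.principalBlock M G →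
      ¬ p ∣ Cfsg.charDegree (χ : G → ℂ) → (∀ g : G, (χ : G → ℂ) (g ^ k) = (χ : G → ℂ) g) →
      Cfsg.charDegree (χ : G → ℂ) = 1)
    (θ : Cfsg.IrrCharacter N) (hθ : θ ∈ Cfsg.principalBlock M N)
    (hdeg : ¬ p ∣ Cfsg.charDegree (θ : N → ℂ))
    (hinv : ∀ (g : G) (n : N), (θ : N → ℂ) (MulAut.conjNormal g n) = (θ : N → ℂ) n)
    (htw : ∀ n : N, (θ : N → ℂ) (n ^ k) = (θ : N → ℂ) n) :
    Cfsg.charDegree (θ : N → ℂ) = 1 := by
  classical
  have hp : p.Prime := Fact.out
  let _ : Fintype N := Fintype.ofFinite _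
  obtain ⟨d, Y, hY, hYθ⟩ := θ.2
  haveI := hY
  obtain ⟨hθ1, hdpos, -⟩ := irr_charDegree θ.2
  have hd : d = Cfsg.charDegree (θ : N → ℂ) := by
    have h1 := Cfsg.Agent.Lib.Helper80.char_one_fin Y
    rw [hYθ, hθ1] at h1
    exact_mod_cast h1.symm
  have hQ : IsPGroup p (G ⧸ N) := by
    apply Cfsg.Agent.Lib.Helper34.isPGroup_quotient_of_coprime_mem p N
    intro g hg
    exact hreg g ((Nat.Prime.coprime_iff_not_dvd hp).mp hg.symm)
  obtain ⟨e, he⟩ := IsPGroup.iff_card.mp hQ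
  have hidx : N.index = p ^ e := by rw [Subgroup.index_eq_card]; exact he
  have hcop : Nat.Coprime N.index (Cfsg.detOrder Y.character * d) := by
    rw [hidx]
    apply Nat.Coprime.pow_left
    apply Nat.Coprime.mul_right
    · exact (Nat.Prime.coprime_iff_not_dvd hp).mpr (not_dvd_detOrder_of_hom hhom _)
    · rw [hd]; exact (Nat.Prime.coprime_iff_not_dvd hp).mpr hdeg
  obtain ⟨χ, ⟨hχirr, hχN, hdet⟩, huniq⟩ :=
    Cfsg.Agent.Lib.Helper75.exists_unique_extension_of_coprime N Y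
      (by rw [hYθ]; exact hinv) hcop
  obtain ⟨σ, hσ⟩ := Cfsg.Agent.Lib.Helper75.exists_galois_pow (G := G) k hk
  have hχc := Cfsg.Agent.Lib.Helper3.isCharacter_of_irr hχirr
  have hχ' : (fun g => σ (χ g)) = χ := by
    apply huniq _ (Cfsg.Agent.Lib.Helper75.isIrrCharacter_galois σ hχirr)
    · intro n
      show σ (χ n) = _
      rw [hσ χ hχc, ← SubgroupClass.coe_pow, hχN, hYθ, htw]
    · rw [detOrder_galois σ hχc, hdet]
      exact Nat.Coprime.coprime_mul_right_right hcop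
  have hfix : ∀ g : G, χ (g ^ k) = χ g := by
    intro g
    rw [← hσ χ hχc g]
    exact congrFun hχ' g
  have hres : (fun n : N => χ n) = (θ : N → ℂ) := by
    funext n; rw [hχN, hYθ]
  have hcon : Cfsg.classInner
      (fun n : N => ((⟨χ, hχirr⟩ : Cfsg.IrrCharacter G) : G → ℂ) n) (θ : N → ℂ) ≠ 0 := by
    show Cfsg.classInner (fun n : N => χ n) _ ≠ 0
    rw [hres, Cfsg.Agent.Lib.Helper3.classInner_irr_self θ.2]
    exact one_ne_zero
  have hχB := mem_principalBlock_of_over hM N hreg ⟨χ, hχirr⟩ θ hθ hcon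
  have hdegeq : Cfsg.charDegree χ = Cfsg.charDegree (θ : N → ℂ) := by
    unfold Cfsg.charDegree
    have := congrFun hres 1
    simp only [OneMemClass.coe_one] at this
    rw [this]
  have := hlin ⟨χ, hχirr⟩ hχB (by show ¬ p ∣ Cfsg.charDegree χ; rw [hdegeq]; exact hdeg) hfix
  rw [← hdegeq]; exact this

/-- The counting step of the twisted Isaacs–Smith argument. -/
theorem not_dvd_card_of_linear_tw {G : Type u} [Group G] [Fintype G] (p : ℕ) [Fact p.Prime]
    (M : Ideal Cfsg.AlgInt) (hM : Cfsg.IsPModular p M)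
    (N : Subgroup G) [N.Normal]
    (hreg : ∀ g : G, ¬ p ∣ orderOf g → g ∈ N)
    (hhom : ∀ (f : N →* ℂˣ) (k : ℕ), (∀ n, f n ^ (p ^ k) = 1) → ∀ n, f n = 1)
    (k m : ℕ) (hk : Nat.Coprime k (Nat.card G)) (hiter : ∀ g : G, g ^ (k ^ (p ^ m)) = g)
    (hlin : ∀ χ : Cfsg.IrrCharacter G, χ ∈ Cfsg.principalBlock M G →
      ¬ p ∣ Cfsg.charDegree (χ : G → ℂ) → (∀ g : G, (χ : G → ℂ) (g ^ k) = (χ : G → ℂ) g) →
      Cfsg.charDegree (χ : G → ℂ) = 1) :
    ¬ p ∣ Nat.card N := by
  classical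
  have hp : p.Prime := Fact.out
  have hMp := isPrime_of_isPModular hM
  let _ : Fintype N := Fintype.ofFinite N
  intro hpN
  have hbB := Cfsg.Agent.Lib.Helper77.isPBlock_principalBlock (G := N) M
  let _ : Fintype {θ : Cfsg.IrrCharacter N // θ ∈ Cfsg.principalBlock M N} := Fintype.ofFinite _
  have hsum := dvd_sum_degree_sq hM (Cfsg.principalBlock M N) hbB hpN
  obtain ⟨S⟩ : Nonempty (Sylow p G) := inferInstance
  have hstab : ∀ (θ : Cfsg.IrrCharacter N) (g : G), θ ∈ Cfsg.principalBlock M N →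
      conjIrr N θ g ∈ Cfsg.principalBlock M N := by
    intro θ g hθ
    have h1 : Cfsg.SameBlock M (Cfsg.Agent.Lib.Helper77.trivIrr N : N → ℂ) (θ : N → ℂ) := hθ
    have h2 := sameBlock_conjIrr N hMp h1 g
    have h3 : conjIrr N (Cfsg.Agent.Lib.Helper77.trivIrr N) g =
        Cfsg.Agent.Lib.Helper77.trivIrr N := Subtype.ext rfl
    rw [h3] at h2
    exact h2
  letI act : MulAction (S : Subgroup G)
      {θ : Cfsg.IrrCharacter N // θ ∈ Cfsg.principalBlock M N} :=
    { smul := fun s θ => ⟨conjIrr N θ.1 (s : G), hstab θ.1 s θ.2⟩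
      one_smul := fun θ => Subtype.ext (conjIrr_one N θ.1)
      mul_smul := fun s t θ => Subtype.ext (conjIrr_mul N θ.1 s t) }
  have hsmul : ∀ (s : (S : Subgroup G))
      (θ : {θ : Cfsg.IrrCharacter N // θ ∈ Cfsg.principalBlock M N}),
      (s • θ).1 = conjIrr N θ.1 (s : G) := fun _ _ => rfl
  -- `G = N S`
  have hQ : IsPGroup p (G ⧸ N) := by
    apply Cfsg.Agent.Lib.Helper34.isPGroup_quotient_of_coprime_mem p N
    intro g hg
    exact hreg g ((Nat.Prime.coprime_iff_not_dvd hp).mp hg.symm)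
  have hNS : N ⊔ (S : Subgroup G) = ⊤ := by
    obtain ⟨e, he⟩ := IsPGroup.iff_card.mp hQ
    have hidx : N.index = p ^ e := by rw [Subgroup.index_eq_card]; exact he
    have h1 : (N ⊔ (S : Subgroup G)).index ∣ p ^ e :=
      hidx ▸ Subgroup.index_dvd_of_le le_sup_left
    have h2 : (N ⊔ (S : Subgroup G)).index ∣ (S : Subgroup G).index :=
      Subgroup.index_dvd_of_le le_sup_right
    obtain ⟨j, -, hj⟩ := (Nat.dvd_prime_pow hp).mp h1
    rw [← Subgroup.index_eq_one]
    rcases Nat.eq_zero_or_pos j with h0 | hpos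
    · rw [hj, h0, pow_zero]
    · exfalso
      apply S.not_dvd_index
      exact dvd_trans (hj ▸ dvd_pow_self p hpos.ne') h2
  have hfixG : ∀ θ : {θ : Cfsg.IrrCharacter N // θ ∈ Cfsg.principalBlock M N},
      (∀ s : (S : Subgroup G), s • θ = θ) → ∀ (g : G) (n : N),
      (θ.1 : N → ℂ) (MulAut.conjNormal g n) = (θ.1 : N → ℂ) n := by
    intro θ hfix g n
    have hg : g⁻¹ ∈ N ⊔ (S : Subgroup G) := by rw [hNS]; exact Subgroup.mem_top _
    obtain ⟨y, hy, z, hz, hyz⟩ := Subgroup.mem_sup_of_normal_left.mp hg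
    have h1 : conjIrr N θ.1 g⁻¹ = θ.1 := by
      rw [← hyz, conjIrr_mul]
      have := congrArg Subtype.val (hfix ⟨z, hz⟩)
      rw [hsmul] at this
      rw [this]
      exact conjIrr_of_mem N θ.1 hy
    have h2 := congrArg (fun ψ : Cfsg.IrrCharacter N => (ψ : N → ℂ) n) h1
    have h3 : (conjIrr N θ.1 g⁻¹ : N → ℂ) n = (θ.1 : N → ℂ) (MulAut.conjNormal g n) := by
      show (θ.1 : N → ℂ) ((MulAut.conjNormal g⁻¹)⁻¹ n) = _
      rw [map_inv, inv_inv]
    rw [← h3]; exact h2
  -- the twist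
  have hkN : Nat.Coprime k (Nat.card N) :=
    Nat.Coprime.coprime_dvd_right (Subgroup.card_subgroup_dvd_card N) hk
  have htwmem : ∀ θ : Cfsg.IrrCharacter N, θ ∈ Cfsg.principalBlock M N →
      (⟨fun n => (θ : N → ℂ) (n ^ k), Cfsg.Agent.Lib.Helper75.isIrrCharacter_pow θ.2 k hkN⟩ :
        Cfsg.IrrCharacter N) ∈ Cfsg.principalBlock M N := by
    intro θ hθ
    have h1 : Cfsg.SameBlock M (fun _ : N => (1 : ℂ)) (θ : N → ℂ) := hθ
    exact sameBlock_pow hkN h1
  let τf : {θ : Cfsg.IrrCharacter N // θ ∈ Cfsg.principalBlock M N} →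
      {θ : Cfsg.IrrCharacter N // θ ∈ Cfsg.principalBlock M N} := fun θ =>
    ⟨⟨fun n => (θ.1 : N → ℂ) (n ^ k), Cfsg.Agent.Lib.Helper75.isIrrCharacter_pow θ.1.2 k hkN⟩,
      htwmem θ.1 θ.2⟩
  have hτf : ∀ (θ : {θ : Cfsg.IrrCharacter N // θ ∈ Cfsg.principalBlock M N}) (n : N),
      ((τf θ).1 : N → ℂ) n = (θ.1 : N → ℂ) (n ^ k) := fun _ _ => rfl
  obtain ⟨j, hj⟩ := exists_pow_inv hkN
  have hτinj : Function.Injective τf := by
    intro θ θ' h
    apply Subtype.ext
    apply Subtype.ext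
    funext n
    have := congrArg (fun ψ : {θ : Cfsg.IrrCharacter N // θ ∈ Cfsg.principalBlock M N} =>
      (ψ.1 : N → ℂ) (n ^ j)) h
    simp only [hτf] at this
    have e : (n ^ j) ^ k = n := by rw [← pow_mul, mul_comm, pow_mul, hj]
    rwa [e] at this
  let τ : Equiv.Perm {θ : Cfsg.IrrCharacter N // θ ∈ Cfsg.principalBlock M N} :=
    Equiv.ofBijective τf (Finite.injective_iff_bijective.mp hτinj)
  have hτ : ∀ θ, τ θ = τf θ := fun _ => rfl
  have hτpow : ∀ (i : ℕ) (θ : {θ : Cfsg.IrrCharacter N // θ ∈ Cfsg.principalBlock M N})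
      (n : N), (((τ ^ i) θ).1 : N → ℂ) n = (θ.1 : N → ℂ) (n ^ (k ^ i)) := by
    intro i
    induction i with
    | zero => intro θ n; simp
    | succ i ih =>
      intro θ n
      rw [pow_succ, Equiv.Perm.mul_apply, ih, hτ, hτf, ← pow_mul, ← pow_succ]
  have hτone : τ ^ (p ^ m) = 1 := by
    apply Equiv.ext
    intro θ
    apply Subtype.ext
    apply Subtype.ext
    funext n
    rw [hτpow]
    have : n ^ (k ^ (p ^ m)) = n := Subtype.ext (by rw [SubgroupClass.coe_pow]; exact hiter n)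
    rw [this]
    rfl
  have hfin : IsOfFinOrder τ :=
    isOfFinOrder_iff_pow_eq_one.mpr ⟨p ^ m, pow_pos hp.pos m, hτone⟩
  have hZnat : ∀ z : Subgroup.zpowers τ, ∃ i : ℕ, τ ^ i = z.1 := fun z =>
    (Submonoid.mem_powers_iff _ _).mp (hfin.mem_powers_iff_mem_zpowers.mpr z.2)
  have hZp : IsPGroup p (Subgroup.zpowers τ) := by
    intro z
    obtain ⟨i, hi⟩ := hZnat z
    refine ⟨m, Subtype.ext ?_⟩
    rw [SubgroupClass.coe_pow, ← hi, ← pow_mul, mul_comm, pow_mul, hτone, one_pow]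
    rfl
  have hcomm : ∀ (s : (S : Subgroup G)) (z : Subgroup.zpowers τ)
      (θ : {θ : Cfsg.IrrCharacter N // θ ∈ Cfsg.principalBlock M N}),
      z.1 (s • θ) = s • (z.1 θ) := by
    intro s z θ
    obtain ⟨i, hi⟩ := hZnat z
    have hc : Commute τ (MulAction.toPerm s :
        Equiv.Perm {θ : Cfsg.IrrCharacter N // θ ∈ Cfsg.principalBlock M N}) := by
      apply Equiv.ext
      intro θ'
      show τ (s • θ') = s • τ θ'
      apply Subtype.ext
      apply Subtype.ext
      funext n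
      rw [hτ, hτf, hsmul, hsmul]
      show (θ'.1 : N → ℂ) ((MulAut.conjNormal (s : G))⁻¹ (n ^ k)) =
        (θ'.1 : N → ℂ) (((MulAut.conjNormal (s : G))⁻¹ n) ^ k)
      rw [map_pow]
    have h2 := (hc.pow_left i).eq
    rw [hi] at h2
    exact congrArg (fun e : Equiv.Perm
      {θ : Cfsg.IrrCharacter N // θ ∈ Cfsg.principalBlock M N} => e θ) h2
  letI actΓ : MulAction (Prod ↥(S : Subgroup G) ↥(Subgroup.zpowers τ))
      {θ : Cfsg.IrrCharacter N // θ ∈ Cfsg.principalBlock M N} :=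
    { smul := fun γ θ => γ.1 • (γ.2.1 θ)
      one_smul := fun θ => by
        show (1 : (S : Subgroup G)) • ((1 : Equiv.Perm
          {θ : Cfsg.IrrCharacter N // θ ∈ Cfsg.principalBlock M N}) θ) = θ
        rw [Equiv.Perm.one_apply, one_smul]
      mul_smul := fun γ δ θ => by
        show (γ.1 * δ.1) • ((γ.2.1 * δ.2.1) θ) = γ.1 • (γ.2.1 (δ.1 • (δ.2.1 θ)))
        rw [mul_smul, Equiv.Perm.mul_apply, hcomm] }
  have hΓsmul : ∀ (γ : Prod ↥(S : Subgroup G) ↥(Subgroup.zpowers τ))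
      (θ : {θ : Cfsg.IrrCharacter N // θ ∈ Cfsg.principalBlock M N}),
      γ • θ = γ.1 • (γ.2.1 θ) := fun _ _ => rfl
  have hΓp : IsPGroup p (Prod ↥(S : Subgroup G) ↥(Subgroup.zpowers τ)) := by
    intro γ
    obtain ⟨a, ha⟩ := S.isPGroup' γ.1
    obtain ⟨b, hb⟩ := hZp γ.2
    refine ⟨a + b, Prod.ext ?_ ?_⟩
    · show γ.1 ^ (p ^ (a + b)) = 1
      rw [pow_add, pow_mul, ha, one_pow]
    · show γ.2 ^ (p ^ (a + b)) = 1
      rw [pow_add, mul_comm, pow_mul, hb, one_pow]
  -- fixed points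
  obtain ⟨F, hFdef⟩ : ∃ F : Finset {θ : Cfsg.IrrCharacter N // θ ∈ Cfsg.principalBlock M N},
      ∀ θ, θ ∈ F ↔ ∀ γ : Prod ↥(S : Subgroup G) ↥(Subgroup.zpowers τ), γ • θ = θ :=
    ⟨Finset.univ.filter (fun θ => ∀ γ : Prod ↥(S : Subgroup G) ↥(Subgroup.zpowers τ), γ • θ = θ),
      fun θ => by simp⟩
  have hFS : ∀ θ ∈ F, ∀ s : (S : Subgroup G), s • θ = θ := by
    intro θ hθ s
    have := (hFdef θ).mp hθ (s, 1)
    rw [hΓsmul] at this
    exact this
  have hFτ : ∀ θ ∈ F, τ θ = θ := by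
    intro θ hθ
    have := (hFdef θ).mp hθ (1, ⟨τ, Subgroup.mem_zpowers τ⟩)
    rw [hΓsmul] at this
    rw [one_smul] at this
    exact this
  have hA := sum_modEq_sum_fixed p hΓp
    (fun θ : {θ : Cfsg.IrrCharacter N // θ ∈ Cfsg.principalBlock M N} =>
      Cfsg.charDegree (θ.1 : N → ℂ) ^ 2)
    (fun γ θ => by
      show Cfsg.charDegree ((γ • θ).1 : N → ℂ) ^ 2 = _
      obtain ⟨i, hi⟩ := hZnat γ.2
      rw [hΓsmul, hsmul]
      unfold Cfsg.charDegree
      rw [conjIrr_apply_one, ← hi, hτpow, one_pow]) F hFdef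
  have hZ : ((F.filter (fun θ => Cfsg.charDegree (θ.1 : N → ℂ) = 1)).card : ZMod p) = 0 := by
    have h1 : ((∑ θ : {θ : Cfsg.IrrCharacter N // θ ∈ Cfsg.principalBlock M N},
        Cfsg.charDegree (θ.1 : N → ℂ) ^ 2 : ℕ) : ZMod p) = 0 :=
      (ZMod.natCast_eq_zero_iff _ _).mpr hsum
    have h2 := (ZMod.natCast_eq_natCast_iff _ _ _).mpr hA
    rw [h1] at h2
    rw [Finset.card_filter, h2]
    push_cast
    apply Finset.sum_congr rfl
    intro θ hθ
    by_cases h : Cfsg.charDegree (θ.1 : N → ℂ) = 1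
    · rw [if_pos h, h]; simp
    · rw [if_neg h]
      have hd : p ∣ Cfsg.charDegree (θ.1 : N → ℂ) := by
        by_contra hnd
        refine h (charDegree_eq_one_of_invariant_tw hM N hreg hhom k hk hlin θ.1 θ.2 hnd
          (hfixG θ (hFS θ hθ)) (fun n => ?_))
        have := congrArg (fun ψ : {θ : Cfsg.IrrCharacter N // θ ∈ Cfsg.principalBlock M N} =>
          (ψ.1 : N → ℂ) n) (hFτ θ hθ)
        rw [hτ] at this
        exact this
      rw [(ZMod.natCast_eq_zero_iff _ _).mpr hd]; simp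
  have hdvd : p ∣ (F.filter (fun θ => Cfsg.charDegree (θ.1 : N → ℂ) = 1)).card :=
    (ZMod.natCast_eq_zero_iff _ _).mp hZ
  -- the group of invariant linear characters in the principal block
  obtain ⟨H, hH⟩ : ∃ H : Subgroup (N →* ℂˣ), ∀ f, f ∈ H ↔
      (Cfsg.SameBlock M (fun _ : N => (1 : ℂ)) (fun n => ((f n : ℂˣ) : ℂ)) ∧
        (∀ (g : G) (n : N), f (MulAut.conjNormal g n) = f n) ∧ ∀ n : N, f (n ^ k) = f n) :=
    ⟨{ carrier := {f | Cfsg.SameBlock M (fun _ : N => (1 : ℂ)) (fun n => ((f n : ℂˣ) : ℂ)) ∧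
          (∀ (g : G) (n : N), f (MulAut.conjNormal g n) = f n) ∧ ∀ n : N, f (n ^ k) = f n}
       mul_mem' := fun {a b} ha hb => ⟨sameBlock_lin_mul hMp ha.1 hb.1, fun g n => by
          rw [MonoidHom.mul_apply, MonoidHom.mul_apply, ha.2.1, hb.2.1], fun n => by
          rw [MonoidHom.mul_apply, MonoidHom.mul_apply, ha.2.2, hb.2.2]⟩
       one_mem' := ⟨sameBlock_lin_one hMp, fun g n => rfl, fun n => rfl⟩
       inv_mem' := fun {a} ha => ⟨sameBlock_lin_inv hMp ha.1, fun g n => by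
          rw [MonoidHom.inv_apply, MonoidHom.inv_apply, ha.2.1], fun n => by
          rw [MonoidHom.inv_apply, MonoidHom.inv_apply, ha.2.2]⟩ }, fun f => Iff.rfl⟩
  let ψ : H → {θ : Cfsg.IrrCharacter N // θ ∈ Cfsg.principalBlock M N} := fun f =>
    ⟨⟨fun n => ((f.1 n : ℂˣ) : ℂ), Cfsg.Agent.Lib.Helper80.isIrrCharacter_of_hom f.1⟩,
      ((hH f.1).mp f.2).1⟩
  have hψinj : Function.Injective ψ := by
    intro f f' h
    apply Subtype.ext
    apply MonoidHom.ext
    intro n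
    apply Units.ext
    have := congrArg
      (fun θ : {θ : Cfsg.IrrCharacter N // θ ∈ Cfsg.principalBlock M N} => (θ.1 : N → ℂ) n) h
    exact this
  haveI : Finite H := Finite.of_injective ψ hψinj
  let _ : Fintype H := Fintype.ofFinite H
  have hF₁ : F.filter (fun θ => Cfsg.charDegree (θ.1 : N → ℂ) = 1) = Finset.univ.image ψ := by
    ext θ
    rw [Finset.mem_filter, Finset.mem_image]
    constructor
    · rintro ⟨hθF, hdeg⟩
      have h1 : (θ.1 : N → ℂ) 1 = 1 := by rw [(irr_charDegree θ.1.2).1, hdeg]; simp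
      have hc := Cfsg.Agent.Lib.Helper3.isCharacter_of_irr θ.1.2
      refine ⟨⟨Cfsg.Agent.Lib.Helper15.linCharHom hc h1,
        (hH _).mpr ⟨θ.2, fun g n => ?_, fun n => ?_⟩⟩, Finset.mem_univ _, ?_⟩
      · apply Units.ext
        exact hfixG θ (hFS θ hθF) g n
      · apply Units.ext
        have := congrArg (fun ψ : {θ : Cfsg.IrrCharacter N // θ ∈ Cfsg.principalBlock M N} =>
          (ψ.1 : N → ℂ) n) (hFτ θ hθF)
        rw [hτ] at this
        exact this
      · apply Subtype.ext; apply Subtype.ext; rfl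
    · rintro ⟨f, -, rfl⟩
      obtain ⟨hf1, hf2, hf3⟩ := (hH f.1).mp f.2
      refine ⟨(hFdef _).mpr (fun γ => ?_), Cfsg.Agent.Lib.Helper80.charDegree_of_hom f.1⟩
      obtain ⟨i, hi⟩ := hZnat γ.2
      have hpowfix : ∀ (i : ℕ) (n : N), f.1 (n ^ (k ^ i)) = f.1 n := by
        intro i
        induction i with
        | zero => intro n; simp
        | succ i ih => intro n; rw [pow_succ, pow_mul, hf3, ih]
      have hz : γ.2.1 (ψ f) = ψ f := by
        rw [← hi]
        apply Subtype.ext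
        apply Subtype.ext
        funext n
        rw [hτpow]
        show ((f.1 (n ^ (k ^ i)) : ℂˣ) : ℂ) = ((f.1 n : ℂˣ) : ℂ)
        rw [hpowfix]
      rw [hΓsmul, hz]
      apply Subtype.ext
      rw [hsmul]
      apply Subtype.ext
      funext n
      show ((f.1 ((MulAut.conjNormal (γ.1 : G))⁻¹ n) : ℂˣ) : ℂ) = ((f.1 n : ℂˣ) : ℂ)
      rw [← map_inv, hf2]
  have hcard : Nat.card H = (F.filter (fun θ => Cfsg.charDegree (θ.1 : N → ℂ) = 1)).card := by
    rw [hF₁, Finset.card_image_of_injective _ hψinj, Finset.card_univ, Nat.card_eq_fintype_card]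
  rw [← hcard] at hdvd
  obtain ⟨x, hx⟩ := exists_prime_orderOf_dvd_card' p hdvd
  have hx1 : ∀ n, (x.1 n) ^ (p ^ 1) = 1 := by
    intro n
    have h1 := pow_orderOf_eq_one x
    rw [hx] at h1
    have h2 := congrArg (fun y : H => y.1 n) h1
    simpa using h2
  have hx2 := hhom x.1 1 hx1
  have hx3 : x = 1 := by
    apply Subtype.ext
    apply MonoidHom.ext
    intro n
    exact hx2 n
  rw [hx3, orderOf_one] at hx
  exact hp.one_lt.ne hx

/-- **Twisted Isaacs–Smith.** Let `k` be prime to `|G|` with `g ^ (k ^ (p ^ m)) = g` for all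
`g`.  If every irreducible character of degree prime to `p` in the principal `p`-block fixed by
the power map `k` is linear, the group has a normal `p`-complement. -/
theorem hasNormalPComplement_of_linear_tw {G : Type u} [Group G] [Finite G] (p : ℕ)
    [Fact p.Prime] (M : Ideal Cfsg.AlgInt) (hM : Cfsg.IsPModular p M)
    (k m : ℕ) (hk : Nat.Coprime k (Nat.card G)) (hiter : ∀ g : G, g ^ (k ^ (p ^ m)) = g)
    (hlin : ∀ χ : Cfsg.IrrCharacter G, χ ∈ Cfsg.principalBlock M G →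
      ¬ p ∣ Cfsg.charDegree (χ : G → ℂ) → (∀ g : G, (χ : G → ℂ) (g ^ k) = (χ : G → ℂ) g) →
      Cfsg.charDegree (χ : G → ℂ) = 1) :
    Cfsg.HasNormalPComplement p G := by
  let _ : Fintype G := Fintype.ofFinite G
  have hp : p.Prime := Fact.out
  have h := not_dvd_card_of_linear_tw p M hM (pRes p G) (fun g hg => mem_pRes_of_pRegular hg)
    (fun f k hf => hom_eq_one_of_pow f k hf) k m hk hiter hlin
  exact Cfsg.Agent.Lib.Helper34.hasNormalPComplement_of_normal p (pRes p G)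
    ((Nat.Prime.coprime_iff_not_dvd hp).mpr h).symm (isPGroup_quotient_pRes p G)

end Cfsg.Agent.Lib.Helper79
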