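import Mathlib
import Cfsg.Prelude.Def_Blocks
import Cfsg.Agent.Lib.Helper16.LocalRing
import Cfsg.Agent.Lib.Helper3.CharValues

/-!
# Rational combinations of roots of unity and their conjugates

`IsCycRat m f` says that `f j = ∑ i < m, a i * ζ ^ (i * j)` for rational `a i`, where `ζ` is the
standard primitive `m`-th root of unity.  Character values along the powers of a group element
have this shape.  The main result is that every complex root of the minimal polynomial of `f 1`
over `ℚ` is of the form `f k` with `k` prime to `m`; this replaces Galois theory in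
local–global arguments about algebraic integers.
-/

set_option autoImplicit false
set_option linter.style.haveILetI false

namespace Cfsg.Agent.Lib.Helper79

open Polynomial

/-- The standard primitive `m`-th root of unity. -/
noncomputable def zetaC (m : ℕ) : ℂ := Complex.exp (2 * Real.pi * Complex.I / m)

theorem zetaC_isPrimitiveRoot {m : ℕ} (hm : 0 < m) : IsPrimitiveRoot (zetaC m) m :=
  Complex.isPrimitiveRoot_exp m hm.ne'

/-- `f j` is a fixed rational combination of the `j`-th powers of the `m`-th roots of unity. -/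
def IsCycRat (m : ℕ) (f : ℕ → ℂ) : Prop :=
  ∃ a : ℕ → ℚ, ∀ j : ℕ, f j = ∑ i ∈ Finset.range m, (a i : ℂ) * zetaC m ^ (i * j)

theorem isCycRat_zero (m : ℕ) : IsCycRat m (fun _ => 0) :=
  ⟨fun _ => 0, fun j => by simp⟩

theorem IsCycRat.add {m : ℕ} {f g : ℕ → ℂ} (hf : IsCycRat m f) (hg : IsCycRat m g) :
    IsCycRat m (fun j => f j + g j) := by
  obtain ⟨a, ha⟩ := hf
  obtain ⟨b, hb⟩ := hg
  refine ⟨fun i => a i + b i, fun j => ?_⟩
  show f j + g j = _
  rw [ha j, hb j, ← Finset.sum_add_distrib]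
  refine Finset.sum_congr rfl (fun i _ => ?_)
  push_cast
  ring

theorem IsCycRat.smul {m : ℕ} {f : ℕ → ℂ} (c : ℚ) (hf : IsCycRat m f) :
    IsCycRat m (fun j => (c : ℂ) * f j) := by
  obtain ⟨a, ha⟩ := hf
  refine ⟨fun i => c * a i, fun j => ?_⟩
  show (c : ℂ) * f j = _
  rw [ha j, Finset.mul_sum]
  refine Finset.sum_congr rfl (fun i _ => ?_)
  push_cast
  ring

theorem IsCycRat.sub {m : ℕ} {f g : ℕ → ℂ} (hf : IsCycRat m f) (hg : IsCycRat m g) :
    IsCycRat m (fun j => f j - g j) := by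
  have h := hf.add (hg.smul (-1))
  have e : (fun j => f j + ((-1 : ℚ) : ℂ) * g j) = fun j => f j - g j := by
    funext j
    push_cast
    ring
  rwa [e] at h

theorem IsCycRat.sum {m : ℕ} {ι : Type*} (s : Finset ι) (f : ι → ℕ → ℂ)
    (h : ∀ i ∈ s, IsCycRat m (f i)) : IsCycRat m (fun j => ∑ i ∈ s, f i j) := by
  classical
  induction s using Finset.induction_on with
  | empty => simpa using isCycRat_zero m
  | insert x s hx ih =>
    have h1 := (h x (Finset.mem_insert_self x s)).add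
      (ih (fun i hi => h i (Finset.mem_insert_of_mem hi)))
    have e : (fun j => f x j + ∑ i ∈ s, f i j) = fun j => ∑ i ∈ insert x s, f i j := by
      funext j
      rw [Finset.sum_insert hx]
    rwa [e] at h1

theorem isCycRat_pow {m : ℕ} (hm : 0 < m) {d : ℂ} (hd : d ^ m = 1) :
    IsCycRat m (fun j => d ^ j) := by
  haveI : NeZero m := ⟨hm.ne'⟩
  obtain ⟨e, he, rfl⟩ := (zetaC_isPrimitiveRoot hm).eq_pow_of_pow_eq_one hd
  refine ⟨fun i => if i = e then 1 else 0, fun j => ?_⟩
  rw [Finset.sum_eq_single e]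
  · simp [pow_mul]
  · intro i _ hie
    simp [hie]
  · intro h
    exact absurd (Finset.mem_range.mpr he) h

theorem IsCycRat.isIntegral {m : ℕ} (hm : 0 < m) {f : ℕ → ℂ} (hf : IsCycRat m f) (j : ℕ) :
    IsIntegral ℚ (f j) := by
  obtain ⟨a, ha⟩ := hf
  rw [ha j]
  refine IsIntegral.sum _ (fun i _ => ?_)
  refine IsIntegral.mul ?_ ?_
  · exact isIntegral_algebraMap (R := ℚ) (A := ℂ) (x := a i)
  · exact (((zetaC_isPrimitiveRoot hm).isIntegral hm).tower_top).pow _

/-- Every root of the minimal polynomial of `f 1` is some `f k` with `k` prime to `m`. -/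
theorem IsCycRat.exists_coprime_of_root {m : ℕ} (hm : 0 < m) {f : ℕ → ℂ} (hf : IsCycRat m f)
    {w : ℂ} (hw : aeval w (minpoly ℚ (f 1)) = 0) : ∃ k : ℕ, k.Coprime m ∧ w = f k := by
  haveI : NeZero m := ⟨hm.ne'⟩
  have hint1 := hf.isIntegral hm 1
  obtain ⟨a, ha⟩ := hf
  have hζ := zetaC_isPrimitiveRoot hm
  have hζint : IsIntegral ℚ (zetaC m) := (hζ.isIntegral hm).tower_top
  haveI : Algebra.IsAlgebraic ℚ (IntermediateField.adjoin ℚ ({zetaC m} : Set ℂ)) :=
    IntermediateField.isAlgebraic_adjoin_simple hζint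
  obtain ⟨ζK, hζK⟩ : ∃ ζK : IntermediateField.adjoin ℚ ({zetaC m} : Set ℂ),
      (ζK : ℂ) = zetaC m := ⟨⟨zetaC m, IntermediateField.mem_adjoin_simple_self ℚ _⟩, rfl⟩
  obtain ⟨zK, hzK⟩ : ∃ zK : IntermediateField.adjoin ℚ ({zetaC m} : Set ℂ),
      zK = ∑ i ∈ Finset.range m,
        algebraMap ℚ (IntermediateField.adjoin ℚ ({zetaC m} : Set ℂ)) (a i) * ζK ^ i := ⟨_, rfl⟩
  have hval : ((zK : IntermediateField.adjoin ℚ ({zetaC m} : Set ℂ)) : ℂ) = f 1 := by
    rw [hzK, ha 1]
    push_cast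
    refine Finset.sum_congr rfl (fun i _ => ?_)
    rw [hζK, mul_one]
    rfl
  have hmin : minpoly ℚ zK = minpoly ℚ (f 1) := by
    rw [← hval]
    exact IntermediateField.minpoly_eq zK
  have hmem : w ∈ (minpoly ℚ zK).rootSet ℂ := by
    rw [hmin, Polynomial.mem_rootSet]
    exact ⟨minpoly.ne_zero hint1, hw⟩
  rw [← Algebra.IsAlgebraic.range_eval_eq_rootSet_minpoly ℂ zK] at hmem
  obtain ⟨φ, hφ⟩ := hmem
  have hφζ : (φ ζK) ^ m = 1 := by
    rw [← map_pow]
    have : ζK ^ m = 1 := by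
      apply Subtype.ext
      rw [IntermediateField.coe_pow, hζK, hζ.pow_eq_one]
      rfl
    rw [this, map_one]
  obtain ⟨k, hk, hkζ⟩ := hζ.eq_pow_of_pow_eq_one hφζ
  have hζK' : IsPrimitiveRoot ζK m := by
    have hinj : Function.Injective
        (algebraMap (IntermediateField.adjoin ℚ ({zetaC m} : Set ℂ)) ℂ) :=
      (algebraMap (IntermediateField.adjoin ℚ ({zetaC m} : Set ℂ)) ℂ).injective
    have h1 : algebraMap (IntermediateField.adjoin ℚ ({zetaC m} : Set ℂ)) ℂ ζK = zetaC m := hζK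
    have h2 : IsPrimitiveRoot
        (algebraMap (IntermediateField.adjoin ℚ ({zetaC m} : Set ℂ)) ℂ ζK) m := by
      rw [h1]
      exact hζ
    exact IsPrimitiveRoot.of_map_of_injective h2 hinj
  have hprim : IsPrimitiveRoot (φ ζK) m := hζK'.map_of_injective φ.injective
  rw [← hkζ] at hprim
  have hcop : k.Coprime m := (hζ.pow_iff_coprime hm k).mp hprim
  refine ⟨k, hcop, ?_⟩
  rw [← hφ, hzK]
  show φ (∑ i ∈ Finset.range m,
    algebraMap ℚ (IntermediateField.adjoin ℚ ({zetaC m} : Set ℂ)) (a i) * ζK ^ i) = f k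
  rw [map_sum, ha k]
  refine Finset.sum_congr rfl (fun i _ => ?_)
  rw [map_mul, map_pow, ← hkζ, AlgHom.commutes, ← pow_mul, mul_comm k i]
  rfl

end Cfsg.Agent.Lib.Helper79
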