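import Mathlib
import Cfsg.Prelude.Def_Blocks
import Cfsg.Agent.Lib.Helper16.LocalRing
import Cfsg.Agent.Lib.Helper3.CharValues
import Cfsg.Agent.Lib.Helper79.CycRat

/-!
# From one maximal ideal over `p` to all of them

Two consequences of "every conjugate of `z` is again a value of the same kind":
* `isIntegral_of_roots_local`: an algebraic number all of whose conjugates are local integers
  at one maximal ideal over `q` and become integral after multiplication by a power of `q`
  is an algebraic integer;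
* `mem_of_roots_mem`: an algebraic integer all of whose conjugates lie in one maximal ideal
  over `p` lies in every maximal ideal over `p`.
-/

set_option autoImplicit false
set_option linter.style.haveILetI false

namespace Cfsg.Agent.Lib.Helper79

open Polynomial Cfsg Cfsg.Agent.Lib.Helper16

section Char

variable {G : Type*} [Group G] [Finite G]

/-- The values of a character along the powers of `x` are a rational combination of powers
of `orderOf x`-th roots of unity. -/
theorem isCycRat_character {χ : G → ℂ} (hχ : Cfsg.IsCharacter G χ) (x : G) :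
    IsCycRat (orderOf x) (fun j => χ (x ^ j)) := by
  obtain ⟨n, ρ, rfl⟩ := hχ
  obtain ⟨ι, hι, b, d, hd, -, hb, -⟩ := Cfsg.Agent.Lib.Helper3.exists_eigen_data ρ x
  have hpow : ∀ (j : ℕ) (i : ι), ρ (x ^ j) (b i) = (d i ^ j) • b i := by
    intro j i
    rw [map_pow]
    induction j with
    | zero => simp
    | succ j ih =>
      rw [pow_succ, Module.End.mul_apply, hb i, map_smul, ih, smul_smul, pow_succ, mul_comm]
  have hval : (fun j => ρ.character (x ^ j)) = fun j => ∑ i, d i ^ j := by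
    funext j
    rw [Representation.character,
      Cfsg.Agent.Lib.Helper3.trace_eq_sum_of_eigenbasis b _ _ (hpow j)]
  rw [hval]
  exact IsCycRat.sum Finset.univ (fun i j => d i ^ j)
    (fun i _ => isCycRat_pow (orderOf_pos x) (hd i))

omit [Finite G] in
/-- Powers prime to the order have the same centralizer. -/
theorem centralizer_pow_of_coprime (x : G) {k : ℕ} (hk : k.Coprime (orderOf x)) :
    Subgroup.centralizer ({x ^ k} : Set G) = Subgroup.centralizer ({x} : Set G) := by
  obtain ⟨l, hl⟩ := exists_pow_eq_self_of_coprime hk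
  ext y
  simp only [Subgroup.mem_centralizer_iff, Set.mem_singleton_iff, forall_eq]
  constructor
  · intro h
    have h1 : Commute (x ^ k) y := h
    have h2 := h1.pow_left l
    rw [hl] at h2
    exact h2
  · intro h
    have h1 : Commute x y := h
    exact h1.pow_left k

end Char

variable {M : Ideal Cfsg.AlgInt}

/-- A rational integer lies in a maximal ideal over `p` iff `p` divides it. -/
theorem intCast_mem_iff {p : ℕ} (hM : Cfsg.IsPModular p M) (n : ℤ) :
    ((n : ℤ) : Cfsg.AlgInt) ∈ M ↔ (p : ℤ) ∣ n := by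
  have key := natCast_mem_iff hM n.natAbs
  rw [Int.natCast_dvd, ← key]
  rcases Int.natAbs_eq n with h | h
  · conv_lhs => rw [h]
    simp
  · conv_lhs => rw [h]
    simp

theorem rat_eq_int_of_local {q : ℕ} (hM : Cfsg.IsPModular q M) (k : ℕ) :
    ∀ (c : ℚ) (n : ℤ), Cfsg.MemLocalRing M (c : ℂ) → (q : ℚ) ^ k * c = n → ∃ n' : ℤ, c = n' := by
  induction k with
  | zero =>
    intro c n _ h
    exact ⟨n, by simpa using h⟩
  | succ k ih =>
    intro c n hloc h
    obtain ⟨α, s, hs, hαs⟩ := hloc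
    have hs0 := coe_ne_zero_of_not_mem hs
    have hq0 : (q : ℚ) ≠ 0 := by exact_mod_cast hM.1.ne_zero
    have h' : ((q : ℂ)) ^ (k + 1) * (c : ℂ) = (n : ℂ) := by exact_mod_cast h
    have h1 : ((q : ℂ)) ^ (k + 1) * (α : ℂ) = (n : ℂ) * (s : ℂ) := by
      rw [← h', ← hαs]
      field_simp
    have h2 : (q : Cfsg.AlgInt) ^ (k + 1) * α = (n : Cfsg.AlgInt) * s := by
      apply Subtype.ext
      push_cast
      exact h1
    have h3 : (n : Cfsg.AlgInt) * s ∈ M := by
      rw [← h2, pow_succ]
      exact M.mul_mem_right _ (M.mul_mem_left _ hM.2.2)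
    have hprime := isPrime_of_isPModular hM
    have h4 : (n : Cfsg.AlgInt) ∈ M := (hprime.mem_or_mem h3).resolve_right hs
    obtain ⟨n1, rfl⟩ := (intCast_mem_iff hM n).mp h4
    apply ih c n1 ⟨α, s, hs, hαs⟩
    have h5 : (q : ℚ) * ((q : ℚ) ^ k * c) = (q : ℚ) * n1 := by
      rw [← mul_assoc, ← pow_succ', h]
      push_cast
      ring
    exact mul_left_cancel₀ hq0 h5

/-- **Local to global.** If every conjugate `w` of `z` is a local integer at `M` (over `q`)
and `q ^ b * w` is an algebraic integer, then `z` is an algebraic integer. -/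
theorem isIntegral_of_roots_local {q : ℕ} (hM : Cfsg.IsPModular q M) (b : ℕ) {z : ℂ}
    (hz : IsIntegral ℚ z)
    (hroots : ∀ w : ℂ, aeval w (minpoly ℚ z) = 0 →
      Cfsg.MemLocalRing M w ∧ IsIntegral ℤ ((q : ℂ) ^ b * w)) :
    IsIntegral ℤ z := by
  have hprime := isPrime_of_isPModular hM
  let A : Subring ℂ :=
    { carrier := {w | Cfsg.MemLocalRing M w ∧ ∃ k : ℕ, IsIntegral ℤ ((q : ℂ) ^ k * w)}
      mul_mem' := by
        rintro x y ⟨hx, k, hk⟩ ⟨hy, l, hl⟩
        refine ⟨memLocalRing_mul hprime hx hy, k + l, ?_⟩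
        have e : (q : ℂ) ^ (k + l) * (x * y) = ((q : ℂ) ^ k * x) * ((q : ℂ) ^ l * y) := by ring
        rw [e]
        exact hk.mul hl
      one_mem' := ⟨memLocalRing_one hprime, 0, by simpa using isIntegral_one⟩
      add_mem' := by
        rintro x y ⟨hx, k, hk⟩ ⟨hy, l, hl⟩
        refine ⟨memLocalRing_add hprime hx hy, k + l, ?_⟩
        have e : (q : ℂ) ^ (k + l) * (x + y) =
            (q : ℂ) ^ l * ((q : ℂ) ^ k * x) + (q : ℂ) ^ k * ((q : ℂ) ^ l * y) := by ring
        rw [e]
        have hqi : ∀ j : ℕ, IsIntegral ℤ ((q : ℂ) ^ j) := fun j => (isIntegral_natCast q).pow j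
        exact ((hqi l).mul hk).add ((hqi k).mul hl)
      zero_mem' := ⟨memLocalRing_zero hprime, 0, by simpa using isIntegral_zero⟩
      neg_mem' := by
        rintro x ⟨hx, k, hk⟩
        refine ⟨memLocalRing_neg hx, k, ?_⟩
        rw [mul_neg]
        exact hk.neg }
  have hmonic : (minpoly ℚ z).Monic := minpoly.monic hz
  have hsplit : ((minpoly ℚ z).map (algebraMap ℚ ℂ)).Splits := IsAlgClosed.splits _
  have hlift : (minpoly ℚ z).map (algebraMap ℚ ℂ) ∈ Polynomial.lifts A.subtype := by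
    apply hsplit.mem_lift_of_roots_mem_range (hmonic.map _)
    intro w hw
    have hw' : aeval w (minpoly ℚ z) = 0 := by
      have h1 := (Polynomial.mem_roots (hmonic.map (algebraMap ℚ ℂ)).ne_zero).mp hw
      rwa [Polynomial.IsRoot.def, Polynomial.eval_map_algebraMap] at h1
    obtain ⟨h1, h2⟩ := hroots w hw'
    exact ⟨⟨w, h1, b, h2⟩, rfl⟩
  rw [Polynomial.lifts_iff_coeff_lifts] at hlift
  have hcoeff : ∀ n, ∃ a : ℤ, (minpoly ℚ z).coeff n = a := by
    intro n
    obtain ⟨⟨w, hw1, k, hw2⟩, hw⟩ := hlift n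
    rw [Polynomial.coeff_map] at hw
    have hw' : w = algebraMap ℚ ℂ ((minpoly ℚ z).coeff n) := hw
    have h3 : IsIntegral ℤ ((q : ℚ) ^ k * (minpoly ℚ z).coeff n) := by
      have h4 : IsIntegral ℤ (algebraMap ℚ ℂ ((q : ℚ) ^ k * (minpoly ℚ z).coeff n)) := by
        rw [map_mul, map_pow, map_natCast, ← hw']
        exact hw2
      exact (isIntegral_algebraMap_iff (algebraMap ℚ ℂ).injective).mp h4
    obtain ⟨a, ha⟩ := IsIntegrallyClosed.isIntegral_iff.mp h3
    refine rat_eq_int_of_local hM k ((minpoly ℚ z).coeff n) a ?_ ?_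
    · have h5 : (((minpoly ℚ z).coeff n : ℚ) : ℂ) = w := hw'.symm
      rw [h5]
      exact hw1
    · rw [← ha]
      rfl
  have hl2 : minpoly ℚ z ∈ Polynomial.lifts (Int.castRingHom ℚ) := by
    rw [Polynomial.lifts_iff_coeff_lifts]
    intro n
    obtain ⟨a, ha⟩ := hcoeff n
    exact ⟨a, by rw [ha]; rfl⟩
  obtain ⟨Q, hQ, -, hQm⟩ := Polynomial.lifts_and_natDegree_eq_and_monic hl2 hmonic
  refine ⟨Q, hQm, ?_⟩
  have h6 : aeval z (minpoly ℚ z) = 0 := minpoly.aeval ℚ z
  rw [← hQ, Polynomial.aeval_def, Polynomial.eval₂_map] at h6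
  have h7 : (algebraMap ℚ ℂ).comp (Int.castRingHom ℚ) = algebraMap ℤ ℂ := RingHom.ext_int _ _
  rw [h7] at h6
  exact h6

/-- **Independence of the maximal ideal.** If every conjugate of the algebraic integer `z`
lies in the maximal ideal `M` over `p`, then `z` lies in every maximal ideal over `p`. -/
theorem mem_of_roots_mem {p : ℕ} {M M' : Ideal Cfsg.AlgInt} (hM : Cfsg.IsPModular p M)
    (hM' : Cfsg.IsPModular p M') (z : Cfsg.AlgInt)
    (hroots : ∀ w : ℂ, aeval w (minpoly ℚ (z : ℂ)) = 0 →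
      ∃ r : Cfsg.AlgInt, r ∈ M ∧ (r : ℂ) = w) : z ∈ M' := by
  classical
  have hprime := isPrime_of_isPModular hM
  have hprime' := isPrime_of_isPModular hM'
  have hzint : IsIntegral ℤ (z : ℂ) := z.2
  have hz : IsIntegral ℚ (z : ℂ) := hzint.tower_top
  have hmonic : (minpoly ℚ (z : ℂ)).Monic := minpoly.monic hz
  obtain ⟨Pc, hPc⟩ : ∃ Pc : ℂ[X], Pc = (minpoly ℚ (z : ℂ)).map (algebraMap ℚ ℂ) := ⟨_, rfl⟩
  have hPcm : Pc.Monic := by rw [hPc]; exact hmonic.map _
  have hsplit : Pc.Splits := IsAlgClosed.splits _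
  have hrt : ∀ w ∈ Pc.roots, ∃ r : Cfsg.AlgInt, r ∈ M ∧ (r : ℂ) = w := by
    intro w hw
    apply hroots
    have h1 := (Polynomial.mem_roots hPcm.ne_zero).mp hw
    rwa [Polynomial.IsRoot.def, hPc, Polynomial.eval_map_algebraMap] at h1
  let g : ℂ → Cfsg.AlgInt := fun w =>
    if h : ∃ r : Cfsg.AlgInt, r ∈ M ∧ (r : ℂ) = w then h.choose else 0
  have hg1 : ∀ w ∈ Pc.roots, g w ∈ M := by
    intro w hw
    have h := hrt w hw
    simp only [g, dif_pos h]
    exact h.choose_spec.1
  have hg2 : ∀ w ∈ Pc.roots, ((g w : Cfsg.AlgInt) : ℂ) = w := by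
    intro w hw
    have h := hrt w hw
    simp only [g, dif_pos h]
    exact h.choose_spec.2
  obtain ⟨Q, hQ⟩ : ∃ Q : Cfsg.AlgInt[X], Q = (Pc.roots.map (fun w => X - C (g w))).prod :=
    ⟨_, rfl⟩
  have hQmap : Q.map (algebraMap Cfsg.AlgInt ℂ) = Pc := by
    rw [hQ, Polynomial.map_multiset_prod, Multiset.map_map]
    conv_rhs => rw [hsplit.eq_prod_roots_of_monic hPcm]
    congr 1
    apply Multiset.map_congr rfl
    intro w hw
    have h1 : algebraMap Cfsg.AlgInt ℂ (g w) = w := hg2 w hw
    simp [h1]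
  haveI : M.IsPrime := hprime
  have hQmod : Q.map (Ideal.Quotient.mk M) = X ^ (Multiset.card Pc.roots) := by
    rw [hQ, Polynomial.map_multiset_prod, Multiset.map_map]
    have h1 : (Pc.roots.map ((Polynomial.map (Ideal.Quotient.mk M)) ∘ fun w => X - C (g w))) =
        Pc.roots.map (fun _ => (X : (Cfsg.AlgInt ⧸ M)[X])) := by
      apply Multiset.map_congr rfl
      intro w hw
      simp [Ideal.Quotient.eq_zero_iff_mem.mpr (hg1 w hw)]
    rw [h1, Multiset.map_const', Multiset.prod_replicate]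
  have hQmonic : Q.Monic := by
    rw [hQ]
    exact Polynomial.monic_multiset_prod_of_monic _ _ (fun w _ => Polynomial.monic_X_sub_C _)
  have hQdeg : Q.natDegree = Multiset.card Pc.roots := by
    rw [← hQmonic.natDegree_map (Ideal.Quotient.mk M), hQmod, Polynomial.natDegree_X_pow]
  have hcoeffM : ∀ k, k < Q.natDegree → Q.coeff k ∈ M' := by
    intro k hk
    have h1 : Q.coeff k ∈ M := by
      rw [← Ideal.Quotient.eq_zero_iff_mem, ← Polynomial.coeff_map, hQmod, Polynomial.coeff_X_pow,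
        if_neg]
      rw [← hQdeg]
      exact hk.ne
    have h2 : algebraMap Cfsg.AlgInt ℂ (Q.coeff k) =
        algebraMap ℚ ℂ ((minpoly ℚ (z : ℂ)).coeff k) := by
      rw [← Polynomial.coeff_map, hQmap, hPc, Polynomial.coeff_map]
    have h3 : IsIntegral ℤ ((minpoly ℚ (z : ℂ)).coeff k) := by
      apply (isIntegral_algebraMap_iff (algebraMap ℚ ℂ).injective).mp
      rw [← h2]
      exact (Q.coeff k).2
    obtain ⟨a, ha⟩ := IsIntegrallyClosed.isIntegral_iff.mp h3
    have h4 : Q.coeff k = ((a : ℤ) : Cfsg.AlgInt) := by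
      apply Subtype.ext
      have h5 : ((Q.coeff k : Cfsg.AlgInt) : ℂ) = algebraMap ℚ ℂ ((minpoly ℚ (z : ℂ)).coeff k) := h2
      rw [h5, ← ha]
      simp
    rw [h4] at h1 ⊢
    exact (intCast_mem_iff hM' a).mpr ((intCast_mem_iff hM a).mp h1)
  have heval : Q.eval z = 0 := by
    apply Subtype.ext
    have h1 : algebraMap Cfsg.AlgInt ℂ (Q.eval z) =
        (Q.map (algebraMap Cfsg.AlgInt ℂ)).eval (algebraMap Cfsg.AlgInt ℂ z) :=
      (Polynomial.eval_map_apply (algebraMap Cfsg.AlgInt ℂ) z).symm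
    have h2 : algebraMap Cfsg.AlgInt ℂ z = (z : ℂ) := rfl
    rw [hQmap, hPc, h2, Polynomial.eval_map_algebraMap, minpoly.aeval] at h1
    exact h1
  rw [Polynomial.eval_eq_sum_range, Finset.sum_range_succ, hQmonic.coeff_natDegree, one_mul]
    at heval
  have hpow : z ^ Q.natDegree ∈ M' := by
    have h1 : z ^ Q.natDegree = -∑ i ∈ Finset.range Q.natDegree, Q.coeff i * z ^ i := by
      rw [eq_neg_iff_add_eq_zero, add_comm]
      exact heval
    rw [h1]
    apply M'.neg_mem
    apply M'.sum_mem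
    intro i hi
    exact M'.mul_mem_right _ (hcoeffM i (Finset.mem_range.mp hi))
  exact hprime'.mem_of_pow_mem _ hpow

end Cfsg.Agent.Lib.Helper79
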