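import Mathlib
import Cfsg.Prelude.Def_Blocks
import Cfsg.Agent.Lib.Helper16.BlockBasic
import Cfsg.Agent.Lib.Helper16.ClassSum
import Cfsg.Agent.Lib.Helper16.NormalIdem
import Cfsg.Agent.Lib.Helper16.NormalKer
import Cfsg.Agent.Lib.Helper16.PRegular
import Cfsg.Agent.Lib.Helper77.Kernel
import Cfsg.Agent.Lib.Helper77.Defect
import Cfsg.Agent.Lib.Helper80.CharKer
import Cfsg.Agent.Lib.Helper79.CharSum

/-!
# Blocks and quotients by normal subgroups of order prime to `p`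

Inflation from `G ⧸ N` preserves the block relation; when `N` has order prime to `p` the blocks
of `G` meeting the inflated characters are exactly the blocks of `G ⧸ N`.
-/

set_option autoImplicit false

namespace Cfsg.Agent.Lib.Helper79

open Cfsg Cfsg.Agent.Lib.Helper16

section QuotBlock

variable {G : Type*} [Group G] [Fintype G] (N : Subgroup G) [N.Normal] {M : Ideal Cfsg.AlgInt}

/-- Summing a function of the coset over the group. -/
theorem sum_comp_mk [Fintype (G ⧸ N)] (f : G ⧸ N → ℂ) :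
    ∑ y : G, f (y : G ⧸ N) = (Nat.card N : ℂ) * ∑ c : G ⧸ N, f c := by
  classical
  let _ : Fintype N := Fintype.ofFinite N
  rw [← Finset.sum_fiberwise (Finset.univ : Finset G) (fun y : G => (y : G ⧸ N))
    (fun y => f (y : G ⧸ N)), Finset.mul_sum]
  refine Finset.sum_congr rfl (fun c _ => ?_)
  have h1 : ∀ y ∈ Finset.univ.filter (fun y : G => (y : G ⧸ N) = c), f (y : G ⧸ N) = f c := by
    intro y hy
    rw [(Finset.mem_filter.mp hy).2]
  rw [Finset.sum_congr rfl h1, Finset.sum_const, nsmul_eq_mul]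
  congr 1
  obtain ⟨g, rfl⟩ := QuotientGroup.mk_surjective c
  have h2 : (Finset.univ.filter (fun y : G => (y : G ⧸ N) = (g : G ⧸ N))).card = Nat.card N := by
    rw [Nat.card_eq_fintype_card, ← Finset.card_univ]
    symm
    refine Finset.card_bij (fun n _ => g * (n : G)) ?_ ?_ ?_
    · intro n _
      rw [Finset.mem_filter]
      refine ⟨Finset.mem_univ _, ?_⟩
      rw [QuotientGroup.eq]
      simp
    · intro a _ b _ h
      exact Subtype.ext (mul_left_cancel h)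
    · intro y hy
      rw [Finset.mem_filter] at hy
      have h3 : g⁻¹ * y ∈ N := by
        have h4 := QuotientGroup.eq.mp hy.2
        have h5 : g⁻¹ * y = (y⁻¹ * g)⁻¹ := by group
        rw [h5]
        exact N.inv_mem h4
      exact ⟨⟨g⁻¹ * y, h3⟩, Finset.mem_univ _, by simp⟩
  exact_mod_cast h2

omit [Fintype G] in
/-- Inflation preserves the block relation. -/
theorem sameBlock_inflate [Finite G] (hM : M.IsPrime) {χ ψ : G ⧸ N → ℂ}
    (h : Cfsg.SameBlock M χ ψ) :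
    Cfsg.SameBlock M (χ ∘ QuotientGroup.mk) (ψ ∘ QuotientGroup.mk) := by
  intro g
  obtain ⟨m, hm⟩ := Cfsg.Agent.Lib.Helper77.index_centralizer_quot_dvd N g
  have e : Cfsg.centralChar (χ ∘ QuotientGroup.mk) g - Cfsg.centralChar (ψ ∘ QuotientGroup.mk) g =
      (m : ℂ) * (Cfsg.centralChar χ (g : G ⧸ N) - Cfsg.centralChar ψ (g : G ⧸ N)) := by
    unfold Cfsg.centralChar
    simp only [Function.comp_apply, QuotientGroup.mk_one]
    rw [hm]
    push_cast
    ring
  rw [e]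
  exact memLocalIdeal_mul_left hM (memLocalRing_natCast hM m) (h (g : G ⧸ N))

/-- If `N` is a normal subgroup of order prime to `p` in the kernel of `χ`, then `N` is in the
kernel of every character in the block of `χ`. -/
theorem ker_of_sameBlock_of_coprime {p : ℕ} (hM : Cfsg.IsPModular p M)
    (hpN : ¬ p ∣ Nat.card N) {χ ψ : Cfsg.IrrCharacter G}
    (h : Cfsg.SameBlock M (χ : G → ℂ) (ψ : G → ℂ))
    (hχ : ∀ n ∈ N, (χ : G → ℂ) n = (χ : G → ℂ) 1) :
    ∀ n ∈ N, (ψ : G → ℂ) n = (ψ : G → ℂ) 1 := by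
  classical
  let _ : Fintype N := Fintype.ofFinite N
  have hχ1 : (χ : G → ℂ) 1 ≠ 0 := irr_one_ne_zero χ.2
  have hcardN : (Nat.card N : ℂ) ≠ 0 := by exact_mod_cast Nat.card_pos.ne'
  have h1 : Cfsg.classInner (fun n : N => (χ : G → ℂ) n)
      (Cfsg.Agent.Lib.Helper77.trivIrr N : N → ℂ) ≠ 0 := by
    unfold Cfsg.classInner
    have e : ∑ n : N, (χ : G → ℂ) (n : G) *
        (starRingEnd ℂ) ((Cfsg.Agent.Lib.Helper77.trivIrr N : N → ℂ) n) =
        (Nat.card N : ℂ) * (χ : G → ℂ) 1 := by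
      rw [Finset.sum_congr rfl (fun n _ => by
        rw [hχ n n.2, Cfsg.Agent.Lib.Helper77.trivIrr_apply, map_one, mul_one])]
      simp [Nat.card_eq_fintype_card]
    rw [e]
    exact mul_ne_zero (inv_ne_zero hcardN) (mul_ne_zero hcardN hχ1)
  have h2 := constituent_of_sameBlock N hM hpN h (Cfsg.Agent.Lib.Helper77.trivIrr N) h1
  have h3 : ∑ u : N, (ψ : G → ℂ) (1 * (u : G)) ≠ 0 := by
    intro h0
    apply h2
    unfold Cfsg.classInner
    rw [Finset.sum_congr rfl (fun n _ => by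
      rw [Cfsg.Agent.Lib.Helper77.trivIrr_apply, map_one, mul_one])]
    simp only [one_mul] at h0
    rw [h0, mul_zero]
  exact eq_one_of_sum_coset_ne_zero N ψ.2 1 h3

/-- For a normal subgroup of order prime to `p`, characters of the quotient whose inflations
lie in the same block lie in the same block of the quotient. -/
theorem sameBlock_deflate_of_coprime {p : ℕ} [Fact p.Prime] (hM : Cfsg.IsPModular p M)
    (hpN : ¬ p ∣ Nat.card N) (χ ψ : Cfsg.IrrCharacter (G ⧸ N))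
    (h : Cfsg.SameBlock M ((χ : G ⧸ N → ℂ) ∘ QuotientGroup.mk)
      ((ψ : G ⧸ N → ℂ) ∘ QuotientGroup.mk)) :
    Cfsg.SameBlock M (χ : G ⧸ N → ℂ) (ψ : G ⧸ N → ℂ) := by
  classical
  let _ : Fintype (G ⧸ N) := Fintype.ofFinite _
  have hMp := isPrime_of_isPModular hM
  apply sameBlock_of_pRegular hM
  intro q _
  have hsum : MemLocalIdeal M (∑ y ∈ Finset.univ.filter (fun y : G => IsConj q (y : G ⧸ N)),
      ((χ : G ⧸ N → ℂ) (y : G ⧸ N) / (χ : G ⧸ N → ℂ) 1 -
        (ψ : G ⧸ N → ℂ) (y : G ⧸ N) / (ψ : G ⧸ N → ℂ) 1)) := by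
    refine sum_class_invariant_mem (MemLocalIdeal M) (memLocalIdeal_zero hMp)
      (fun a b ha hb => memLocalIdeal_add hMp ha hb)
      (fun y : G => (χ : G ⧸ N → ℂ) (y : G ⧸ N) / (χ : G ⧸ N → ℂ) 1 -
        (ψ : G ⧸ N → ℂ) (y : G ⧸ N) / (ψ : G ⧸ N → ℂ) 1) ?_ ?_ _ ?_
    · intro x y
      show (χ : G ⧸ N → ℂ) ((x * y * x⁻¹ : G) : G ⧸ N) / (χ : G ⧸ N → ℂ) 1 -
        (ψ : G ⧸ N → ℂ) ((x * y * x⁻¹ : G) : G ⧸ N) / (ψ : G ⧸ N → ℂ) 1 =
        (χ : G ⧸ N → ℂ) (y : G ⧸ N) / (χ : G ⧸ N → ℂ) 1 -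
        (ψ : G ⧸ N → ℂ) (y : G ⧸ N) / (ψ : G ⧸ N → ℂ) 1
      rw [QuotientGroup.mk_mul, QuotientGroup.mk_mul, QuotientGroup.mk_inv, irr_conj_eq χ.2,
        irr_conj_eq ψ.2]
    · intro y
      have e : ((Subgroup.centralizer ({y} : Set G)).index : ℂ) *
          ((χ : G ⧸ N → ℂ) (y : G ⧸ N) / (χ : G ⧸ N → ℂ) 1 -
            (ψ : G ⧸ N → ℂ) (y : G ⧸ N) / (ψ : G ⧸ N → ℂ) 1) =
          Cfsg.centralChar ((χ : G ⧸ N → ℂ) ∘ QuotientGroup.mk) y -
            Cfsg.centralChar ((ψ : G ⧸ N → ℂ) ∘ QuotientGroup.mk) y := by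
        unfold Cfsg.centralChar
        simp only [Function.comp_apply, QuotientGroup.mk_one]
        ring
      rw [e]
      exact h y
    · intro x y hy
      rw [Finset.mem_filter] at hy ⊢
      refine ⟨Finset.mem_univ _, ?_⟩
      exact hy.2.trans (isConj_iff.mpr ⟨(x : G ⧸ N), by simp⟩)
  have heval : (∑ y ∈ Finset.univ.filter (fun y : G => IsConj q (y : G ⧸ N)),
      ((χ : G ⧸ N → ℂ) (y : G ⧸ N) / (χ : G ⧸ N → ℂ) 1 -
        (ψ : G ⧸ N → ℂ) (y : G ⧸ N) / (ψ : G ⧸ N → ℂ) 1)) =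
      (Nat.card N : ℂ) * (Cfsg.centralChar (χ : G ⧸ N → ℂ) q -
        Cfsg.centralChar (ψ : G ⧸ N → ℂ) q) := by
    rw [Finset.sum_filter]
    rw [sum_comp_mk N (fun c => if IsConj q c then ((χ : G ⧸ N → ℂ) c / (χ : G ⧸ N → ℂ) 1 -
        (ψ : G ⧸ N → ℂ) c / (ψ : G ⧸ N → ℂ) 1) else 0)]
    congr 1
    rw [← Finset.sum_filter]
    rw [Finset.sum_congr rfl (fun c hc => by
      rw [← irr_eq_of_isConj χ.2 (Finset.mem_filter.mp hc).2,
        ← irr_eq_of_isConj ψ.2 (Finset.mem_filter.mp hc).2]), Finset.sum_const, card_isConj,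
      nsmul_eq_mul]
    unfold Cfsg.centralChar
    ring
  rw [heval] at hsum
  have h2 := memLocalIdeal_mul_left hMp (memLocalRing_inv_natCast hM hpN) hsum
  have hcardN : (Nat.card N : ℂ) ≠ 0 := by exact_mod_cast Nat.card_pos.ne'
  rwa [← mul_assoc, inv_mul_cancel₀ hcardN, one_mul] at h2

end QuotBlock

end Cfsg.Agent.Lib.Helper79
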