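import Mathlib
import Cfsg.Prelude.Def_Blocks
import Cfsg.Agent.Lib.Helper79.IsaacsSmithTw
import Cfsg.Agent.Lib.Helper79.LocalGlobal
import Cfsg.Agent.Lib.Helper79.QuotBlock
import Cfsg.Agent.Lib.Helper75.GaloisChar
import Cfsg.Agent.Lib.Helper80.Orthogonality
import Cfsg.Agent.Lib.Helper80.CharOps
import Cfsg.Agent.Lib.Helper77.CharBasic
import Cfsg.Agent.Lib.Helper77.Defect

/-!
# The sum of the squared absolute values over the principal block

The principal block is stable under the power maps prime to the group order, so the sum of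
`|χ x|^2` over the principal block is a rational algebraic integer.  Inflation identifies the
principal block of `G ⧸ N` with that of `G` when `N` is a normal subgroup of order prime to `p`.
-/

set_option autoImplicit false

namespace Cfsg.Agent.Lib.Helper79

open Cfsg Cfsg.Agent.Lib.Helper16

open scoped ComplexConjugate

section PrincSq

variable {G : Type*} [Group G] [Finite G]

/-- The values of a character along the powers of `x` are a rational combination of powers
of `|G|`-th roots of unity. -/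
theorem isCycRat_character_card {χ : G → ℂ} (hχ : Cfsg.IsCharacter G χ) (x : G) :
    IsCycRat (Nat.card G) (fun j => χ (x ^ j)) := by
  obtain ⟨n, ρ, rfl⟩ := hχ
  obtain ⟨ι, hι, b, d, hd, -, hb, -⟩ := Cfsg.Agent.Lib.Helper3.exists_eigen_data ρ x
  have hpow : ∀ (j : ℕ) (i : ι), ρ (x ^ j) (b i) = (d i ^ j) • b i := by
    intro j i
    rw [map_pow]
    induction j with
    | zero => simp
    | succ j ih =>
      rw [pow_succ, Module.End.mul_apply, hb i, map_smul, ih, smul_smul, pow_succ, mul_comm]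
  have hval : (fun j => ρ.character (x ^ j)) = fun j => ∑ i, d i ^ j := by
    funext j
    rw [Representation.character,
      Cfsg.Agent.Lib.Helper3.trace_eq_sum_of_eigenbasis b _ _ (hpow j)]
  rw [hval]
  have hd' : ∀ i, d i ^ Nat.card G = 1 := by
    intro i
    obtain ⟨c, hc⟩ := orderOf_dvd_natCard x
    rw [hc, pow_mul, hd i, one_pow]
  exact IsCycRat.sum Finset.univ (fun i j => d i ^ j)
    (fun i _ => isCycRat_pow Nat.card_pos (hd' i))

/-- A value of a cyclotomic-rational function fixed by all power maps prime to the conductor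
is rational. -/
theorem IsCycRat.rat_of_fixed {m : ℕ} (hm : 0 < m) {f : ℕ → ℂ} (hf : IsCycRat m f)
    (hfix : ∀ k : ℕ, k.Coprime m → f k = f 1) : ∃ r : ℚ, f 1 = (r : ℂ) := by
  classical
  have hint : IsIntegral ℚ (f 1) := hf.isIntegral hm 1
  have hsep : (minpoly ℚ (f 1)).Separable := (minpoly.irreducible hint).separable
  have hsplit : ((minpoly ℚ (f 1)).map (algebraMap ℚ ℂ)).Splits := IsAlgClosed.splits _
  have hcard := Polynomial.card_rootSet_eq_natDegree hsep hsplit
  have hsub : ∀ w ∈ (minpoly ℚ (f 1)).rootSet ℂ, w = f 1 := by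
    intro w hw
    rw [Polynomial.mem_rootSet] at hw
    obtain ⟨k, hk, rfl⟩ := hf.exists_coprime_of_root hm hw.2
    exact hfix k hk
  have hle : Fintype.card ((minpoly ℚ (f 1)).rootSet ℂ) ≤ 1 := by
    rw [Fintype.card_le_one_iff]
    intro a b
    exact Subtype.ext ((hsub a a.2).trans (hsub b b.2).symm)
  have hdeg : (minpoly ℚ (f 1)).natDegree = 1 := by
    have h1 : 0 < (minpoly ℚ (f 1)).natDegree := minpoly.natDegree_pos hint
    omega
  obtain ⟨r, hr⟩ := minpoly.natDegree_eq_one_iff.mp hdeg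
  exact ⟨r, hr.symm⟩

/-- The twist of an irreducible character by a power map prime to the group order. -/
noncomputable def powIrr {k : ℕ} (hk : Nat.Coprime k (Nat.card G)) (χ : Cfsg.IrrCharacter G) :
    Cfsg.IrrCharacter G :=
  ⟨fun g => (χ : G → ℂ) (g ^ k),
    @Cfsg.Agent.Lib.Helper75.isIrrCharacter_pow G _ (Fintype.ofFinite G) _ χ.2 k hk⟩

theorem powIrr_apply {k : ℕ} (hk : Nat.Coprime k (Nat.card G)) (χ : Cfsg.IrrCharacter G)
    (g : G) : (powIrr hk χ : G → ℂ) g = (χ : G → ℂ) (g ^ k) := rfl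

theorem powIrr_injective {k : ℕ} (hk : Nat.Coprime k (Nat.card G)) :
    Function.Injective (powIrr (G := G) hk) := by
  intro χ ψ h
  obtain ⟨j, hj⟩ := exists_pow_inv (H := G) hk
  apply Subtype.ext
  funext g
  have h1 : (powIrr hk χ : G → ℂ) (g ^ j) = (powIrr hk ψ : G → ℂ) (g ^ j) := by rw [h]
  rw [powIrr_apply, powIrr_apply] at h1
  have h2 : (g ^ j) ^ k = g := by rw [← pow_mul, mul_comm, pow_mul, hj]
  rwa [h2] at h1

theorem powIrr_mem_principalBlock {M : Ideal Cfsg.AlgInt} {k : ℕ}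
    (hk : Nat.Coprime k (Nat.card G)) {χ : Cfsg.IrrCharacter G}
    (h : χ ∈ Cfsg.principalBlock M G) : powIrr hk χ ∈ Cfsg.principalBlock M G := by
  have h1 : Cfsg.SameBlock M (fun _ : G => (1 : ℂ)) (χ : G → ℂ) := h
  exact sameBlock_pow hk h1

/-- Sums over the principal block are invariant under the power-map twists. -/
theorem sum_principalBlock_pow_eq (M : Ideal Cfsg.AlgInt) {k : ℕ}
    (hk : Nat.Coprime k (Nat.card G)) (S : Finset (Cfsg.IrrCharacter G))
    (hS : ∀ χ, χ ∈ S ↔ χ ∈ Cfsg.principalBlock M G) (F : Cfsg.IrrCharacter G → ℂ) :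
    ∑ χ ∈ S, F (powIrr hk χ) = ∑ χ ∈ S, F χ := by
  classical
  have himg : S.image (powIrr hk) = S := by
    apply Finset.eq_of_subset_of_card_le
    · intro ψ hψ
      obtain ⟨χ, hχ, rfl⟩ := Finset.mem_image.mp hψ
      exact (hS _).mpr (powIrr_mem_principalBlock hk ((hS χ).mp hχ))
    · rw [Finset.card_image_of_injective _ (powIrr_injective hk)]
  conv_rhs => rw [← himg]
  rw [Finset.sum_image (fun a _ b _ h => powIrr_injective hk h)]

/-- The sum of the squared absolute values at `x` over the principal block is a positive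
integer. -/
theorem principalBlock_sq_sum_int {p : ℕ} [Fact p.Prime] {M : Ideal Cfsg.AlgInt}
    (hM : Cfsg.IsPModular p M) (x : G) :
    ∃ n : ℕ, 0 < n ∧
      ∑ᶠ χ ∈ Cfsg.principalBlock M G, Complex.normSq ((χ : G → ℂ) x) = n := by
  classical
  have hfin := Cfsg.Agent.Lib.Helper77.irr_finite G
  let _ : Fintype (Cfsg.IrrCharacter G) := Fintype.ofFinite _
  have hprime := isPrime_of_isPModular hM
  obtain ⟨S, hS⟩ : ∃ S : Finset (Cfsg.IrrCharacter G),
      ∀ χ, χ ∈ S ↔ χ ∈ Cfsg.principalBlock M G :=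
    ⟨Finset.univ.filter (· ∈ Cfsg.principalBlock M G), fun χ => by simp⟩
  have hSset : Cfsg.principalBlock M G = (S : Set (Cfsg.IrrCharacter G)) := by
    ext χ
    rw [Finset.mem_coe, hS]
  rw [hSset, finsum_mem_coe_finset]
  obtain ⟨f, hf⟩ : ∃ f : ℕ → ℂ, f = fun j =>
      ∑ χ ∈ S, (χ : G → ℂ) (x ^ j) * conj ((χ : G → ℂ) (x ^ j)) := ⟨_, rfl⟩
  have hcyc : IsCycRat (Nat.card G) f := by
    rw [hf]
    refine IsCycRat.sum S (fun (χ : Cfsg.IrrCharacter G) j =>
      (χ : G → ℂ) (x ^ j) * conj ((χ : G → ℂ) (x ^ j))) (fun χ _ => ?_)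
    have hχ := Cfsg.Agent.Lib.Helper3.isCharacter_of_irr χ.2
    exact isCycRat_character_card (Cfsg.Agent.Lib.Helper80.isCharacter_mul hχ
      (Cfsg.Agent.Lib.Helper80.isCharacter_conj hχ)) x
  have hfix : ∀ k : ℕ, k.Coprime (Nat.card G) → f k = f 1 := by
    intro k hk
    rw [hf]
    show ∑ χ ∈ S, (χ : G → ℂ) (x ^ k) * conj ((χ : G → ℂ) (x ^ k)) =
      ∑ χ ∈ S, (χ : G → ℂ) (x ^ 1) * conj ((χ : G → ℂ) (x ^ 1))
    rw [pow_one]
    exact sum_principalBlock_pow_eq M hk S hS
      (fun φ => (φ : G → ℂ) x * conj ((φ : G → ℂ) x))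
  obtain ⟨r, hr⟩ := hcyc.rat_of_fixed Nat.card_pos hfix
  have hf1 : f 1 = ((∑ χ ∈ S, Complex.normSq ((χ : G → ℂ) x) : ℝ) : ℂ) := by
    rw [hf]
    show ∑ χ ∈ S, (χ : G → ℂ) (x ^ 1) * conj ((χ : G → ℂ) (x ^ 1)) = _
    rw [pow_one, Complex.ofReal_sum]
    exact Finset.sum_congr rfl (fun χ _ => Complex.mul_conj _)
  have hint : IsIntegral ℤ (f 1) := by
    rw [hf]
    refine IsIntegral.sum _ (fun χ _ => ?_)
    have hχ := Cfsg.Agent.Lib.Helper3.isCharacter_of_irr χ.2
    rw [← Cfsg.Agent.Lib.Helper3.isCharacter_inv hχ]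
    exact (irr_isIntegral χ.2 _).mul (irr_isIntegral χ.2 _)
  have h2 : IsIntegral ℤ r := by
    have h3 : f 1 = algebraMap ℚ ℂ r := by rw [hr]; simp
    rw [h3] at hint
    exact (isIntegral_algebraMap_iff (algebraMap ℚ ℂ).injective).mp hint
  obtain ⟨z, hz⟩ := IsIntegrallyClosed.isIntegral_iff.mp h2
  have hzr : ∑ χ ∈ S, Complex.normSq ((χ : G → ℂ) x) = (z : ℝ) := by
    have h4 : ((∑ χ ∈ S, Complex.normSq ((χ : G → ℂ) x) : ℝ) : ℂ) = ((z : ℝ) : ℂ) := by
      rw [← hf1, hr, ← hz]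
      simp
    exact Complex.ofReal_injective h4
  have hpos : (1 : ℝ) ≤ ∑ χ ∈ S, Complex.normSq ((χ : G → ℂ) x) := by
    have htriv : Cfsg.Agent.Lib.Helper77.trivIrr G ∈ S :=
      (hS _).mpr (Cfsg.Agent.Lib.Helper77.trivIrr_mem_principalBlock hprime)
    have h5 := Finset.single_le_sum (f := fun χ : Cfsg.IrrCharacter G =>
      Complex.normSq ((χ : G → ℂ) x)) (fun χ _ => Complex.normSq_nonneg _) htriv
    have h6 : Complex.normSq ((Cfsg.Agent.Lib.Helper77.trivIrr G : G → ℂ) x) = 1 := by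
      rw [Cfsg.Agent.Lib.Helper77.trivIrr_apply]
      simp
    rw [h6] at h5
    exact h5
  rw [hzr] at hpos
  have hz1 : 1 ≤ z := by exact_mod_cast hpos
  refine ⟨z.toNat, by omega, ?_⟩
  have h7 : (z.toNat : ℤ) = z := Int.toNat_of_nonneg (by omega)
  have h8 : ((z.toNat : ℕ) : ℝ) = (z : ℝ) := by exact_mod_cast h7
  rw [hzr, h8]

/-- The sum of the squared absolute values at `x` over a set of irreducible characters is at
most the order of the centralizer. -/
theorem principalBlock_sq_sum_le (M : Ideal Cfsg.AlgInt) (x : G) :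
    ∑ᶠ χ ∈ Cfsg.principalBlock M G, Complex.normSq ((χ : G → ℂ) x) ≤
      (Nat.card (Subgroup.centralizer ({x} : Set G)) : ℝ) := by
  classical
  have hfin := Cfsg.Agent.Lib.Helper77.irr_finite G
  let _ : Fintype (Cfsg.IrrCharacter G) := Fintype.ofFinite _
  let _ : Fintype G := Fintype.ofFinite G
  obtain ⟨S, hS⟩ : ∃ S : Finset (Cfsg.IrrCharacter G),
      ∀ χ, χ ∈ S ↔ χ ∈ Cfsg.principalBlock M G :=
    ⟨Finset.univ.filter (· ∈ Cfsg.principalBlock M G), fun χ => by simp⟩
  have hSset : Cfsg.principalBlock M G = (S : Set (Cfsg.IrrCharacter G)) := by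
    ext χ
    rw [Finset.mem_coe, hS]
  rw [hSset, finsum_mem_coe_finset]
  have h1 : ∑ χ ∈ S, Complex.normSq ((χ : G → ℂ) x) ≤
      ∑ χ : Cfsg.IrrCharacter G, Complex.normSq ((χ : G → ℂ) x) :=
    Finset.sum_le_sum_of_subset_of_nonneg (Finset.subset_univ S)
      (fun χ _ _ => Complex.normSq_nonneg _)
  have h2 := Cfsg.Agent.Lib.Helper80.second_orthogonality_of_isConj (IsConj.refl x)
  have h3 : ((∑ χ : Cfsg.IrrCharacter G, Complex.normSq ((χ : G → ℂ) x) : ℝ) : ℂ) =
      ((Nat.card (Subgroup.centralizer ({x} : Set G)) : ℝ) : ℂ) := by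
    rw [Complex.ofReal_sum, Complex.ofReal_natCast, ← h2]
    exact Finset.sum_congr rfl (fun χ _ => (Complex.mul_conj _).symm)
  rw [Complex.ofReal_injective h3] at h1
  exact h1

/-- The squared degrees in the principal block add up to the group order exactly when the
principal block is the only block. -/
theorem principalBlock_deg_sum_eq_card_iff {p : ℕ} [Fact p.Prime] {M : Ideal Cfsg.AlgInt}
    (hM : Cfsg.IsPModular p M) :
    (∑ᶠ χ ∈ Cfsg.principalBlock M G, Cfsg.charDegree (χ : G → ℂ) ^ 2 = Nat.card G) ↔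
      ∀ B : Set (Cfsg.IrrCharacter G), Cfsg.IsPBlock M B → B = Cfsg.principalBlock M G := by
  classical
  have hfin := Cfsg.Agent.Lib.Helper77.irr_finite G
  let _ : Fintype (Cfsg.IrrCharacter G) := Fintype.ofFinite _
  let _ : Fintype G := Fintype.ofFinite G
  have hprime := isPrime_of_isPModular hM
  obtain ⟨S, hS⟩ : ∃ S : Finset (Cfsg.IrrCharacter G),
      ∀ χ, χ ∈ S ↔ χ ∈ Cfsg.principalBlock M G :=
    ⟨Finset.univ.filter (· ∈ Cfsg.principalBlock M G), fun χ => by simp⟩
  have hSset : Cfsg.principalBlock M G = (S : Set (Cfsg.IrrCharacter G)) := by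
    ext χ
    rw [Finset.mem_coe, hS]
  have hsum : ∑ᶠ χ ∈ Cfsg.principalBlock M G, Cfsg.charDegree (χ : G → ℂ) ^ 2 =
      ∑ χ ∈ S, Cfsg.charDegree (χ : G → ℂ) ^ 2 := by
    rw [hSset, finsum_mem_coe_finset]
  rw [hsum, ← Cfsg.Agent.Lib.Helper80.sum_charDegree_sq (G := G)]
  constructor
  · intro h B hB
    have hall : ∀ ψ : Cfsg.IrrCharacter G, ψ ∈ S := by
      intro ψ
      by_contra hψ
      have hlt := Finset.sum_lt_sum_of_subset (f := fun χ : Cfsg.IrrCharacter G =>
        Cfsg.charDegree (χ : G → ℂ) ^ 2) (Finset.subset_univ S) (Finset.mem_univ ψ) hψ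
        (pow_pos (Cfsg.Agent.Lib.Helper80.charDegree_pos ψ.2) 2) (fun _ _ _ => Nat.zero_le _)
      omega
    obtain ⟨χ₀, rfl⟩ := hB
    have hχ₀ : χ₀ ∈ Cfsg.principalBlock M G := (hS χ₀).mp (hall χ₀)
    exact (IsPBlock.eq_blockOf hprime (Cfsg.Agent.Lib.Helper77.isPBlock_principalBlock M)
      hχ₀).symm
  · intro h
    have hall : S = Finset.univ := by
      ext ψ
      simp only [Finset.mem_univ, iff_true]
      rw [hS, ← h _ ⟨ψ, rfl⟩]
      exact mem_blockOf_self hprime ψ
    rw [hall]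

end PrincSq

section Inflate

variable {G : Type*} [Group G] [Finite G] (N : Subgroup G) [N.Normal]

/-- Inflation maps the principal block of `G ⧸ N` bijectively onto the principal block of `G`
when `N` has order prime to `p`. -/
theorem principalBlock_bijOn_inflate {p : ℕ} [Fact p.Prime] {M : Ideal Cfsg.AlgInt}
    (hM : Cfsg.IsPModular p M) (hpN : ¬ p ∣ Nat.card N) :
    Set.BijOn (fun ψ : Cfsg.IrrCharacter (G ⧸ N) =>
        (Cfsg.Agent.Lib.Helper80.inflateIrr N ψ : Cfsg.IrrCharacter G))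
      (Cfsg.principalBlock M (G ⧸ N)) (Cfsg.principalBlock M G) := by
  classical
  let _ : Fintype G := Fintype.ofFinite G
  have hprime := isPrime_of_isPModular hM
  refine ⟨?_, ?_, ?_⟩
  · intro ψ hψ
    have h1 : Cfsg.SameBlock M (fun _ : G ⧸ N => (1 : ℂ)) (ψ : G ⧸ N → ℂ) := hψ
    exact sameBlock_inflate N hprime h1
  · intro a _ b _ hab
    exact (Cfsg.Agent.Lib.Helper80.irrQuotientEquiv N).injective (Subtype.ext hab)
  · intro χ hχ
    have h1 : Cfsg.SameBlock M
        ((Cfsg.Agent.Lib.Helper77.trivIrr G : Cfsg.IrrCharacter G) : G → ℂ) (χ : G → ℂ) := hχ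
    have hker := ker_of_sameBlock_of_coprime N hM hpN h1 (fun n _ => rfl)
    refine ⟨Cfsg.Agent.Lib.Helper80.deflateIrr N ⟨χ, hker⟩, ?_, ?_⟩
    · have e : ((Cfsg.Agent.Lib.Helper80.deflateIrr N ⟨χ, hker⟩ : G ⧸ N → ℂ) ∘
          QuotientGroup.mk) = (χ : G → ℂ) :=
        funext (fun g => Cfsg.Agent.Lib.Helper80.deflateIrr_apply N ⟨χ, hker⟩ g)
      have h2 : Cfsg.SameBlock M
          (((Cfsg.Agent.Lib.Helper77.trivIrr (G ⧸ N) : Cfsg.IrrCharacter (G ⧸ N)) :
            G ⧸ N → ℂ) ∘ QuotientGroup.mk)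
          ((Cfsg.Agent.Lib.Helper80.deflateIrr N ⟨χ, hker⟩ : G ⧸ N → ℂ) ∘
            QuotientGroup.mk) := by
        rw [e]
        exact hχ
      exact sameBlock_deflate_of_coprime N hM hpN _ _ h2
    · exact congrArg Subtype.val
        ((Cfsg.Agent.Lib.Helper80.irrQuotientEquiv N).right_inv ⟨χ, hker⟩)

end Inflate

end Cfsg.Agent.Lib.Helper79
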