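import Mathlib
import Cfsg.Prelude.Def_CaseTheorems
import Cfsg.Agent.Lib.Helper79.Linear
import Cfsg.Agent.Lib.Helper79.TripleCount
import Cfsg.Agent.Lib.Helper80.PrimeCodeg
import Cfsg.Agent.Lib.Helper34.CoreAux
import Cfsg.Agent.Lib.Helper34.KleinInv

set_option autoImplicit false

namespace Cfsg.Agent.Lib.Helper79

section Gap

variable {G : Type*} [Group G] [Finite G]

/-- If `u ≠ 1` and `χ(u) χ(1)` is a natural number for every nonprincipal irreducible `χ`, we
contradict the orthogonality of the columns of `u` and `1`. -/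
theorem false_of_nat_terms (u : G) (hu : u ≠ 1)
    (h : ∀ χ : Cfsg.IrrCharacter G, (χ : G → ℂ) ≠ (fun _ => (1 : ℂ)) →
      ∃ n : ℕ, (χ : G → ℂ) u * (χ : G → ℂ) 1 = n) : False := by
  classical
  let _ : Fintype G := Fintype.ofFinite G
  let _ : Fintype (Cfsg.IrrCharacter G) := Fintype.ofFinite _
  have h0 := irr_sum_mul_one u
  rw [if_neg hu] at h0
  obtain ⟨χ₁, hχ₁⟩ : ∃ χ₁ : Cfsg.IrrCharacter G, (χ₁ : G → ℂ) = fun _ => (1 : ℂ) :=
    ⟨⟨fun _ => 1, by simpa using Cfsg.Agent.Lib.Helper80.isIrrCharacter_of_hom (1 : G →* ℂˣ)⟩,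
      rfl⟩
  rw [← Finset.add_sum_erase Finset.univ _ (Finset.mem_univ χ₁)] at h0
  have hsum : ∃ n : ℕ, ∑ x ∈ Finset.univ.erase χ₁, (x : G → ℂ) u * (x : G → ℂ) 1 = n := by
    apply Finset.sum_induction _ (fun z : ℂ => ∃ n : ℕ, z = n)
    · rintro a b ⟨n, rfl⟩ ⟨m, rfl⟩
      exact ⟨n + m, by push_cast; ring⟩
    · exact ⟨0, by simp⟩
    · intro χ hχ
      rw [Finset.mem_erase] at hχ
      exact h χ (fun hc => hχ.1 (Subtype.ext (hc.trans hχ₁.symm)))
  obtain ⟨n, hn⟩ := hsum
  rw [hn, hχ₁] at h0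
  have h1 : ((1 + n : ℕ) : ℂ) = 0 := by
    push_cast
    simpa using h0
  have := Nat.cast_eq_zero.mp h1
  omega

/-- In a perfect group every linear irreducible character is principal. -/
theorem irr_eq_one_of_perfect (hperf : commutator G = ⊤) (χ : Cfsg.IrrCharacter G)
    (h1 : (χ : G → ℂ) 1 = 1) : (χ : G → ℂ) = fun _ => (1 : ℂ) := by
  funext g
  exact linear_irr_commutator χ.2 h1 (by rw [hperf]; exact Subgroup.mem_top g)

/-- A non-perfect finite group has a nontrivial homomorphism to `ℂˣ`. -/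
theorem exists_hom_ne_one (hne : commutator G ≠ ⊤) : ∃ f : G →* ℂˣ, f ≠ 1 := by
  have hcard := card_monoidHom_units (G := G)
  have hfin := finite_monoidHom_units (G := G)
  have h1 : (commutator G).index ≠ 1 := fun h => hne (Subgroup.index_eq_one.mp h)
  have h0 : (commutator G).index ≠ 0 := Subgroup.index_ne_zero_of_finite
  have hlt : 1 < Nat.card (G →* ℂˣ) := by rw [hcard]; omega
  have hnt : Nontrivial (G →* ℂˣ) := Finite.one_lt_card_iff_nontrivial.mp hlt
  exact exists_ne (1 : G →* ℂˣ)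

/-- The irreducible character attached to a homomorphism into `ℂˣ`. -/
noncomputable def homIrr (f : G →* ℂˣ) : Cfsg.IrrCharacter G :=
  ⟨fun g => ((f g : ℂˣ) : ℂ), Cfsg.Agent.Lib.Helper80.isIrrCharacter_of_hom f⟩

theorem homIrr_apply (f : G →* ℂˣ) (g : G) : (homIrr f : G → ℂ) g = ((f g : ℂˣ) : ℂ) := rfl

theorem homIrr_ne_one {f : G →* ℂˣ} (hf : f ≠ 1) :
    (homIrr f : G → ℂ) ≠ fun _ => (1 : ℂ) := by
  intro h
  apply hf
  ext g
  have := congrFun h g
  rw [homIrr_apply] at this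
  simpa using this

/-- Under the gap hypothesis with constant `c`, a non-perfect group forces `c = 2`. -/
theorem gap_eq_two_of_not_perfect (u : G) (hu : u ≠ 1) (c : ℂ)
    (hyp : ∀ χ : Cfsg.IrrCharacter G, (χ : G → ℂ) ≠ (fun _ => (1 : ℂ)) →
      ((χ : G → ℂ) 1 - (χ : G → ℂ) u = c ∨ (χ : G → ℂ) u = 0))
    (hne : commutator G ≠ ⊤) : c = 2 := by
  have hc0 : c ≠ 0 := by
    intro hc
    apply false_of_nat_terms u hu
    intro χ hχ
    obtain ⟨h1, -, -⟩ := irr_charDegree χ.2
    rcases hyp χ hχ with h | h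
    · refine ⟨Cfsg.charDegree (χ : G → ℂ) * Cfsg.charDegree (χ : G → ℂ), ?_⟩
      have : (χ : G → ℂ) u = (χ : G → ℂ) 1 := by
        rw [hc] at h
        linear_combination -h
      rw [this, h1]
      push_cast
      ring
    · exact ⟨0, by rw [h]; simp⟩
  obtain ⟨f, hf⟩ := exists_hom_ne_one hne
  have hfu0 : ((f u : ℂˣ) : ℂ) ≠ 0 := Units.ne_zero _
  have hc : c = 1 - ((f u : ℂˣ) : ℂ) := by
    rcases hyp (homIrr f) (homIrr_ne_one hf) with h | h
    · rw [homIrr_apply, homIrr_apply, map_one, Units.val_one] at h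
      exact h.symm
    · rw [homIrr_apply] at h
      exact absurd h hfu0
  by_cases hμ : f * f = 1
  · have h2 : ((f u : ℂˣ) : ℂ) * ((f u : ℂˣ) : ℂ) = 1 := by
      have := congrArg (fun k : G →* ℂˣ => ((k u : ℂˣ) : ℂ)) hμ
      simpa using this
    rcases mul_self_eq_one_iff.mp h2 with h3 | h3
    · rw [h3, sub_self] at hc
      exact absurd hc hc0
    · rw [hc, h3]
      ring
  · exfalso
    rcases hyp (homIrr (f * f)) (homIrr_ne_one hμ) with h | h
    · rw [homIrr_apply, homIrr_apply, map_one, Units.val_one, MonoidHom.mul_apply,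
        Units.val_mul, hc] at h
      have h3 : ((f u : ℂˣ) : ℂ) * (((f u : ℂˣ) : ℂ) - 1) = 0 := by
        linear_combination -h
      rcases mul_eq_zero.mp h3 with h4 | h4
      · exact hfu0 h4
      · apply hc0
        rw [hc]
        linear_combination -h4
    · rw [homIrr_apply, MonoidHom.mul_apply, Units.val_mul] at h
      rcases mul_eq_zero.mp h with h4 | h4
      · exact hfu0 h4
      · exact hfu0 h4

/-- Under the gap hypothesis with constant `2` the group is not perfect. -/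
theorem not_perfect_of_gap_two (u : G) (hu : u ≠ 1)
    (hyp : ∀ χ : Cfsg.IrrCharacter G, (χ : G → ℂ) ≠ (fun _ => (1 : ℂ)) →
      ((χ : G → ℂ) 1 - (χ : G → ℂ) u = 2 ∨ (χ : G → ℂ) u = 0)) :
    commutator G ≠ ⊤ := by
  intro hperf
  apply false_of_nat_terms u hu
  intro χ hχ
  obtain ⟨h1, hpos, -⟩ := irr_charDegree χ.2
  have hd1 : Cfsg.charDegree (χ : G → ℂ) ≠ 1 := by
    intro hd
    apply hχ
    exact irr_eq_one_of_perfect hperf χ (by rw [h1, hd]; simp)
  rcases hyp χ hχ with h | h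
  · refine ⟨(Cfsg.charDegree (χ : G → ℂ) - 2) * Cfsg.charDegree (χ : G → ℂ), ?_⟩
    have : (χ : G → ℂ) u = (χ : G → ℂ) 1 - 2 := by linear_combination -h
    rw [this, h1]
    have h2 : 2 ≤ Cfsg.charDegree (χ : G → ℂ) := by omega
    push_cast [Nat.cast_sub h2]
    ring
  · exact ⟨0, by rw [h]; simp⟩

end Gap

section GapStructure

variable {G : Type*} [Group G] [Finite G]

/-- Under the gap hypothesis with constant `2`, a non-perfect group has `u` an involution with
centralizer `⟨u⟩` and `G = ⟨u⟩ O(G)`. -/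
theorem gap_two_structure (u : G) (hu : u ≠ 1)
    (hyp : ∀ χ : Cfsg.IrrCharacter G, (χ : G → ℂ) ≠ (fun _ => (1 : ℂ)) →
      ((χ : G → ℂ) 1 - (χ : G → ℂ) u = 2 ∨ (χ : G → ℂ) u = 0))
    (hne : commutator G ≠ ⊤) :
    orderOf u = 2 ∧ Subgroup.zpowers u ⊔ Cfsg.pPrimeCore 2 G = ⊤ ∧
      Subgroup.centralizer ({u} : Set G) = Subgroup.zpowers u := by
  classical
  let _ : Fintype G := Fintype.ofFinite G
  let _ : Fintype (Cfsg.IrrCharacter G) := Fintype.ofFinite _
  obtain ⟨f, hf⟩ := exists_hom_ne_one hne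
  have Z1 : ∀ h : G →* ℂˣ, h ≠ 1 → ((h u : ℂˣ) : ℂ) = -1 := by
    intro h hh
    rcases hyp (homIrr h) (homIrr_ne_one hh) with h2 | h2
    · rw [homIrr_apply, homIrr_apply, map_one, Units.val_one] at h2
      linear_combination -h2
    · rw [homIrr_apply] at h2
      exact absurd h2 (Units.ne_zero _)
  have hfu : ((f u : ℂˣ) : ℂ) = -1 := Z1 f hf
  have Z2 : ∀ h : G →* ℂˣ, h ≠ 1 → h = f := by
    intro h hh
    by_contra hne2
    have hk : h * f⁻¹ ≠ 1 := fun hk => hne2 (mul_inv_eq_one.mp hk)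
    have h3 := Z1 (h * f⁻¹) hk
    rw [MonoidHom.mul_apply, MonoidHom.inv_apply, Units.val_mul, Units.val_inv_eq_inv_val,
      Z1 h hh, hfu] at h3
    norm_num at h3
  have Z2' : f * f = 1 := by
    by_contra hk
    have h3 := Z1 (f * f) hk
    rw [MonoidHom.mul_apply, Units.val_mul, hfu] at h3
    norm_num at h3
  obtain ⟨χ₁, hχ₁⟩ : ∃ χ₁ : Cfsg.IrrCharacter G, (χ₁ : G → ℂ) = fun _ => (1 : ℂ) :=
    ⟨⟨fun _ => 1, by simpa using Cfsg.Agent.Lib.Helper80.isIrrCharacter_of_hom (1 : G →* ℂˣ)⟩,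
      rfl⟩
  have hχ₁f : χ₁ ≠ homIrr f := by
    intro h
    apply homIrr_ne_one hf
    rw [← h]
    exact hχ₁
  have hnat : ∀ χ : Cfsg.IrrCharacter G, χ ≠ χ₁ → χ ≠ homIrr f →
      ∃ n : ℕ, (χ : G → ℂ) u * (χ : G → ℂ) 1 = n ∧ ((χ : G → ℂ) u ≠ 0 → 0 < n) := by
    intro χ hχ1 hχ2
    obtain ⟨hd1, hpos, -⟩ := irr_charDegree χ.2
    have hχne : (χ : G → ℂ) ≠ fun _ => (1 : ℂ) :=
      fun h => hχ1 (Subtype.ext (h.trans hχ₁.symm))
    have hdne1 : Cfsg.charDegree (χ : G → ℂ) ≠ 1 := by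
      intro hd
      have h11 : (χ : G → ℂ) 1 = 1 := by rw [hd1, hd]; simp
      have hhne : Cfsg.Agent.Lib.Helper15.linCharHom
          (Cfsg.Agent.Lib.Helper3.isCharacter_of_irr χ.2) h11 ≠ 1 := by
        intro h
        apply hχne
        funext g
        have := congrArg (fun k : G →* ℂˣ => ((k g : ℂˣ) : ℂ)) h
        simpa using this
      have h5 := Z2 _ hhne
      apply hχ2
      apply Subtype.ext
      funext g
      have := congrArg (fun k : G →* ℂˣ => ((k g : ℂˣ) : ℂ)) h5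
      simpa [homIrr_apply] using this
    rcases hyp χ hχne with h | h
    · have hu' : (χ : G → ℂ) u = (χ : G → ℂ) 1 - 2 := by linear_combination -h
      have h2 : 2 ≤ Cfsg.charDegree (χ : G → ℂ) := by omega
      refine ⟨(Cfsg.charDegree (χ : G → ℂ) - 2) * Cfsg.charDegree (χ : G → ℂ), ?_, ?_⟩
      · rw [hu', hd1]
        push_cast [Nat.cast_sub h2]
        ring
      · intro hne0
        have h22 : Cfsg.charDegree (χ : G → ℂ) ≠ 2 := by
          intro h22
          apply hne0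
          rw [hu', hd1, h22]
          norm_num
        have h3 : 0 < Cfsg.charDegree (χ : G → ℂ) - 2 := by omega
        exact Nat.mul_pos h3 hpos
    · exact ⟨0, by rw [h]; simp, fun hne0 => absurd h hne0⟩
  have Z3 : ∀ χ : Cfsg.IrrCharacter G, χ ≠ χ₁ → χ ≠ homIrr f → (χ : G → ℂ) u = 0 := by
    intro χ₀ h1 h2
    by_contra hχ₀u
    have h0 := irr_sum_mul_one u
    rw [if_neg hu] at h0
    rw [← Finset.add_sum_erase Finset.univ _ (Finset.mem_univ χ₁)] at h0
    rw [← Finset.add_sum_erase (Finset.univ.erase χ₁) _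
      (Finset.mem_erase.mpr ⟨hχ₁f.symm, Finset.mem_univ _⟩)] at h0
    rw [← Finset.add_sum_erase ((Finset.univ.erase χ₁).erase (homIrr f)) _
      (Finset.mem_erase.mpr ⟨h2, Finset.mem_erase.mpr ⟨h1, Finset.mem_univ _⟩⟩)] at h0
    have hsum : ∃ m : ℕ, ∑ x ∈ (((Finset.univ.erase χ₁).erase (homIrr f)).erase χ₀),
        (x : G → ℂ) u * (x : G → ℂ) 1 = m := by
      apply Finset.sum_induction _ (fun z : ℂ => ∃ n : ℕ, z = n)
      · rintro a b ⟨n, rfl⟩ ⟨m, rfl⟩
        exact ⟨n + m, by push_cast; ring⟩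
      · exact ⟨0, by simp⟩
      · intro χ hχ
        rw [Finset.mem_erase, Finset.mem_erase, Finset.mem_erase] at hχ
        obtain ⟨n, hn, -⟩ := hnat χ hχ.2.2.1 hχ.2.1
        exact ⟨n, hn⟩
    obtain ⟨m, hm⟩ := hsum
    obtain ⟨n₀, hn₀, hn₀pos⟩ := hnat χ₀ h1 h2
    rw [hm, hn₀, hχ₁, homIrr_apply, homIrr_apply, hfu, map_one, Units.val_one] at h0
    have h6 : ((n₀ + m : ℕ) : ℂ) = 0 := by
      push_cast
      linear_combination h0
    have h7 := Nat.cast_eq_zero.mp h6
    have h8 := hn₀pos hχ₀u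
    omega
  have hC : Nat.card (Subgroup.centralizer ({u} : Set G)) = 2 := by
    have h := irr_sum_mul_inv_of_isConj (IsConj.refl u)
    rw [Finset.sum_eq_add χ₁ (homIrr f) hχ₁f (fun χ _ hχ => by rw [Z3 χ hχ.1 hχ.2, zero_mul])
      (fun h => absurd (Finset.mem_univ _) h) (fun h => absurd (Finset.mem_univ _) h)] at h
    rw [hχ₁, homIrr_apply, homIrr_apply, hfu, map_inv, Units.val_inv_eq_inv_val, hfu] at h
    have h9 : ((2 : ℕ) : ℂ) = (Nat.card (Subgroup.centralizer ({u} : Set G)) : ℂ) := by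
      rw [← h]
      norm_num
    exact (Nat.cast_injective h9).symm
  have hle : Subgroup.zpowers u ≤ Subgroup.centralizer ({u} : Set G) := by
    rw [Subgroup.zpowers_le, Subgroup.mem_centralizer_iff]
    intro y hy
    rw [Set.mem_singleton_iff] at hy
    rw [hy]
  have hord : orderOf u = 2 := by
    have h1 : orderOf u ∣ 2 := by
      have := Subgroup.card_dvd_of_le hle
      rw [Nat.card_zpowers, hC] at this
      exact this
    have h2 : orderOf u ≠ 1 := fun h => hu (orderOf_eq_one_iff.mp h)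
    rcases (Nat.dvd_prime Nat.prime_two).mp h1 with h | h
    · exact absurd h h2
    · exact h
  have hCeq : Subgroup.centralizer ({u} : Set G) = Subgroup.zpowers u := by
    symm
    apply Subgroup.eq_of_le_of_card_ge hle
    rw [Nat.card_zpowers, hord, hC]
  have huu : u * u = 1 := by
    have := pow_orderOf_eq_one u
    rw [hord, pow_two] at this
    exact this
  have hKn : f.ker.Normal := inferInstance
  have huK : u ∉ f.ker := by
    rw [MonoidHom.mem_ker]
    intro h
    rw [h] at hfu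
    norm_num at hfu
  have hfix : ∀ n ∈ f.ker, u * n * u⁻¹ = n → n = 1 := by
    intro n hn hfixn
    have hmem : n ∈ Subgroup.centralizer ({u} : Set G) := by
      rw [Subgroup.mem_centralizer_iff]
      intro y hy
      rw [Set.mem_singleton_iff] at hy
      rw [hy]
      calc u * n = (u * n * u⁻¹) * u := by group
        _ = n * u := by rw [hfixn]
    rw [hCeq, Subgroup.mem_zpowers_iff] at hmem
    obtain ⟨k, rfl⟩ := hmem
    rw [← zpow_mod_orderOf, hord, Nat.cast_ofNat]
    rcases Int.emod_two_eq_zero_or_one k with h | h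
    · rw [h, zpow_zero]
    · exfalso
      apply huK
      rw [← zpow_mod_orderOf, hord, Nat.cast_ofNat, h, zpow_one] at hn
      exact hn
  have hinv := Cfsg.Agent.Lib.Helper34.inverts_of_fixedPointFree f.ker u huu
    (fun n hn => hKn.conj_mem n hn u) hfix
  have hKodd : (Nat.card f.ker).Coprime 2 := by
    rw [Nat.coprime_two_right]
    by_contra hev
    rw [Nat.not_odd_iff_even] at hev
    have : Fact (Nat.Prime 2) := ⟨Nat.prime_two⟩
    obtain ⟨t, ht⟩ := exists_prime_orderOf_dvd_card' (G := f.ker) 2 (even_iff_two_dvd.mp hev)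
    have ht' : orderOf (t : G) = 2 := by rw [Subgroup.orderOf_coe]; exact ht
    have htt : (t : G) * (t : G) = 1 := by
      have := pow_orderOf_eq_one (t : G)
      rw [ht', pow_two] at this
      exact this
    have htinv : (t : G)⁻¹ = (t : G) := inv_eq_of_mul_eq_one_left htt
    have h1 := hfix (t : G) t.2 (by rw [hinv (t : G) t.2, htinv])
    rw [h1, orderOf_one] at ht'
    omega
  have hKle : f.ker ≤ Cfsg.pPrimeCore 2 G := Cfsg.Agent.Lib.Helper34.le_pPrimeCore 2 f.ker hKodd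
  have htop : Subgroup.zpowers u ⊔ Cfsg.pPrimeCore 2 G = ⊤ := by
    rw [eq_top_iff]
    intro g _
    by_cases hg : g ∈ f.ker
    · exact (le_sup_right : Cfsg.pPrimeCore 2 G ≤ _) (hKle hg)
    · have hg2 : ((f g : ℂˣ) : ℂ) * ((f g : ℂˣ) : ℂ) = 1 := by
        have := congrArg (fun k : G →* ℂˣ => ((k g : ℂˣ) : ℂ)) Z2'
        simpa using this
      have hfg : ((f g : ℂˣ) : ℂ) = -1 := by
        rcases mul_self_eq_one_iff.mp hg2 with h | h
        · exact absurd (MonoidHom.mem_ker.mpr (Units.ext h)) hg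
        · exact h
      have hmem : u⁻¹ * g ∈ f.ker := by
        rw [MonoidHom.mem_ker]
        apply Units.ext
        rw [map_mul, map_inv, Units.val_mul, Units.val_inv_eq_inv_val, hfu, hfg]
        norm_num
      have h3 : g = u * (u⁻¹ * g) := by group
      rw [h3]
      exact Subgroup.mul_mem _
        ((le_sup_left : Subgroup.zpowers u ≤ _) (Subgroup.mem_zpowers u))
        ((le_sup_right : Cfsg.pPrimeCore 2 G ≤ _) (hKle hmem))
  exact ⟨hord, htop, hCeq⟩

/-- If `u` is an involution and `G = ⟨u⟩ O(G)` then `G` is not perfect. -/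
theorem not_perfect_of_zpowers_sup_oddCore (u : G) (hord : orderOf u = 2)
    (htop : Subgroup.zpowers u ⊔ Cfsg.pPrimeCore 2 G = ⊤) : commutator G ≠ ⊤ := by
  intro hperf
  have hOn : (Cfsg.pPrimeCore 2 G).Normal := Subgroup.sSup_normal _ (fun _ h => h.1)
  have huO : u ∉ Cfsg.pPrimeCore 2 G := by
    intro h
    have := Cfsg.Agent.Lib.Helper34.orderOf_coprime_of_mem_pPrimeCore 2 h
    rw [hord] at this
    norm_num at this
  have hgen : ∀ a : G, ∃ i : ℤ,
      (a : G ⧸ Cfsg.pPrimeCore 2 G) = (u : G ⧸ Cfsg.pPrimeCore 2 G) ^ i := by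
    intro a
    have ha : a ∈ Subgroup.zpowers u ⊔ Cfsg.pPrimeCore 2 G := by rw [htop]; trivial
    rw [← SetLike.mem_coe, Subgroup.mul_normal] at ha
    obtain ⟨z, hz, n, hn, rfl⟩ := Set.mem_mul.mp ha
    obtain ⟨i, rfl⟩ := Subgroup.mem_zpowers_iff.mp hz
    refine ⟨i, ?_⟩
    rw [QuotientGroup.mk_mul, QuotientGroup.mk_zpow, (QuotientGroup.eq_one_iff n).mpr hn,
      mul_one]
  have hcomm : IsMulCommutative (G ⧸ Cfsg.pPrimeCore 2 G) := by
    refine ⟨⟨fun x y => ?_⟩⟩
    obtain ⟨a, rfl⟩ := QuotientGroup.mk_surjective x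
    obtain ⟨b, rfl⟩ := QuotientGroup.mk_surjective y
    obtain ⟨i, hi⟩ := hgen a
    obtain ⟨j, hj⟩ := hgen b
    rw [hi, hj, ← zpow_add, ← zpow_add, add_comm]
  have hle := Subgroup.Normal.quotient_commutative_iff_commutator_le.mp hcomm
  rw [hperf] at hle
  exact huO (hle (Subgroup.mem_top u))

end GapStructure

end Cfsg.Agent.Lib.Helper79
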