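import Mathlib
import Cfsg.Prelude.Def_Blocks
import Cfsg.Agent.Lib.Helper79.QuotBlockP
import Cfsg.Agent.Lib.Helper77.NormalP
import Cfsg.Agent.Lib.Helper77.CharBasic
import Cfsg.Agent.Lib.Helper11.StableW
import Cfsg.Agent.Lib.Helper87.PGroupFrattini

/-!
# Blocks of `G` and of `G ⧸ Q` for a normal `p`-subgroup `Q`

* every block of `G` contains a character with `Q` in its kernel;
* for `Q = ⁅D, D⁆` with `D` a normal `p`-subgroup, inflation is injective on blocks.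
-/

set_option autoImplicit false
set_option linter.unusedSectionVars false

namespace Cfsg.Agent.Lib.Helper79

open Cfsg Cfsg.Agent.Lib.Helper16
open scoped ComplexConjugate

section

variable {G : Type*} [Group G] [Fintype G] (Q : Subgroup G) [Q.Normal] {M : Ideal Cfsg.AlgInt}
  {p : ℕ} [Fact p.Prime]

/-- a coset of `Q` contains at most one `p`-regular element centralizing `Q` -/
theorem eq_of_pRegular_of_mk_eq_of_mem (hQ : IsPGroup p Q) {x g : G}
    (hxC : x ∈ Subgroup.centralizer (Q : Set G)) (hx : ¬ p ∣ orderOf x)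
    (hg : ¬ p ∣ orderOf g) (h : (g : G ⧸ Q) = (x : G ⧸ Q)) : g = x := by
  have hp : p.Prime := Fact.out
  have hq : g * x⁻¹ ∈ Q := by
    have h1 := QuotientGroup.eq.mp h
    have h2 := Subgroup.Normal.conj_mem ‹Q.Normal› _ (Q.inv_mem h1) g
    have h3 : g * (g⁻¹ * x)⁻¹ * g⁻¹ = g * x⁻¹ := by group
    rwa [h3] at h2
  by_contra hne
  have hq1 : (⟨g * x⁻¹, hq⟩ : Q) ≠ 1 := by
    intro h1
    apply hne
    have h2 := congrArg Subtype.val h1
    exact mul_inv_eq_one.mp h2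
  have hcomm : Commute (g * x⁻¹) x := (Subgroup.mem_centralizer_iff.mp hxC) _ hq
  have h4 := dvd_orderOf_mul_of_pgroup Q hQ ⟨g * x⁻¹, hq⟩ hq1 x hx hcomm
  have h5 : g * x⁻¹ * x = g := by group
  rw [h5] at h4
  exact hg h4

/-- the class size of a `p`-regular element centralizing `Q` is unchanged in `G ⧸ Q` -/
theorem index_centralizer_quot_eq_of_mem (hQ : IsPGroup p Q) {x : G}
    (hxC : x ∈ Subgroup.centralizer (Q : Set G)) (hx : ¬ p ∣ orderOf x) :
    (Subgroup.centralizer ({(x : G ⧸ Q)} : Set (G ⧸ Q))).index =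
      (Subgroup.centralizer ({x} : Set G)).index := by
  rw [← Subgroup.index_comap_of_surjective
    (Subgroup.centralizer ({(x : G ⧸ Q)} : Set (G ⧸ Q))) (QuotientGroup.mk'_surjective Q)]
  congr 1
  ext g
  rw [Subgroup.mem_comap, Subgroup.mem_centralizer_iff, Subgroup.mem_centralizer_iff]
  constructor
  · intro h y hy
    rw [Set.mem_singleton_iff] at hy
    subst hy
    have h1 : (y : G ⧸ Q) * (g : G ⧸ Q) = (g : G ⧸ Q) * (y : G ⧸ Q) := h (y : G ⧸ Q) rfl
    have h2 : ((g * y * g⁻¹ : G) : G ⧸ Q) = (y : G ⧸ Q) := by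
      rw [QuotientGroup.mk_mul, QuotientGroup.mk_mul, QuotientGroup.mk_inv, ← h1]
      group
    have h3 : ¬ p ∣ orderOf (g * y * g⁻¹) := by
      have : orderOf (g * y * g⁻¹) = orderOf y := (MulAut.conj g).orderOf_eq y
      rwa [this]
    have h4 := eq_of_pRegular_of_mk_eq_of_mem Q hQ hxC hx h3 h2
    calc y * g = (g * y * g⁻¹) * g := by rw [h4]
      _ = g * y := by group
  · intro h y hy
    rw [Set.mem_singleton_iff] at hy
    subst hy
    have h1 := h x rfl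
    show (x : G ⧸ Q) * (g : G ⧸ Q) = (g : G ⧸ Q) * (x : G ⧸ Q)
    rw [← QuotientGroup.mk_mul, ← QuotientGroup.mk_mul, h1]

/-- the only `p`-regular element of a `p`-group is `1` -/
theorem pushReg_one (hQ : IsPGroup p Q) (θ : G → ℂ) :
    pushReg Q p θ (1 : G ⧸ Q) = θ 1 := by
  classical
  have hp : p.Prime := Fact.out
  unfold pushReg
  rw [Finset.sum_eq_single (1 : G)]
  · rw [if_pos (QuotientGroup.mk_one Q), if_neg]
    rw [orderOf_one]
    exact hp.one_lt.ne' ∘ Nat.dvd_one.mp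
  · intro g _ hne
    by_cases h1 : (g : G ⧸ Q) = 1
    · rw [if_pos h1]
      have hgQ : g ∈ Q := (QuotientGroup.eq_one_iff g).mp h1
      rw [if_pos]
      obtain ⟨k, hk⟩ := hQ ⟨g, hgQ⟩
      have h2 : g ^ p ^ k = 1 := by
        have := congrArg Subtype.val hk
        simpa using this
      obtain ⟨m, _, hm⟩ := (Nat.dvd_prime_pow hp).mp (orderOf_dvd_of_pow_eq_one h2)
      rw [hm]
      rcases Nat.eq_zero_or_pos m with h0 | h0
      · exfalso
        rw [h0, pow_zero, orderOf_eq_one_iff] at hm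
        exact hne hm
      · exact dvd_pow_self p h0.ne'
    · rw [if_neg h1]
  · intro h
    exact absurd (Finset.mem_univ _) h

/-- every block of `G` contains a character having the normal `p`-subgroup `Q` in its kernel -/
theorem exists_inflate_mem_block (hM : Cfsg.IsPModular p M) (hQ : IsPGroup p Q)
    (B : Set (Cfsg.IrrCharacter G)) (hB : Cfsg.IsPBlock M B) :
    ∃ χ : Cfsg.IrrCharacter (G ⧸ Q),
      (Cfsg.Agent.Lib.Helper80.inflateIrr Q χ : Cfsg.IrrCharacter G) ∈ B := by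
  classical
  let _ : Fintype (G ⧸ Q) := Fintype.ofFinite _
  have : Finite (Cfsg.IrrCharacter (G ⧸ Q)) := Cfsg.Agent.Lib.Helper77.irr_finite _
  let _ : Fintype (Cfsg.IrrCharacter (G ⧸ Q)) := Fintype.ofFinite _
  have hMp := isPrime_of_isPModular hM
  by_contra hcon
  push Not at hcon
  obtain ⟨θ, hθ⟩ := IsPBlock.nonempty hMp hB
  have hθcf : Cfsg.IsClassFunction G (θ : G → ℂ) := fun g h => irr_conj_eq θ.2 g h
  have h1 := Cfsg.Agent.Lib.Helper3.classFunction_expansion'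
    (pushReg_classFunction Q (θ : G → ℂ) hθcf (p := p))
  have h2 := congrFun h1 (1 : G ⧸ Q)
  rw [pushReg_one Q hQ, Finset.sum_apply] at h2
  apply irr_one_ne_zero θ.2
  rw [h2]
  apply Finset.sum_eq_zero
  intro χ _
  have hc : Cfsg.classInner (pushReg Q p (θ : G → ℂ)) (χ : G ⧸ Q → ℂ) = 0 := by
    rw [classInner_pushReg]
    have h3 := Cfsg.Agent.Lib.Helper78.weak_block_orth hM B hB θ hθ
      (Cfsg.Agent.Lib.Helper80.inflateIrr Q χ : Cfsg.IrrCharacter G) (hcon χ)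
    have h4 : ∀ g : G, (if p ∣ orderOf g then 0 else (θ : G → ℂ) g) *
        conj ((χ : G ⧸ Q → ℂ) (g : G ⧸ Q)) =
        (if p ∣ orderOf g then (0 : ℂ) else (θ : G → ℂ) g) *
          ((Cfsg.Agent.Lib.Helper80.inflateIrr Q χ : Cfsg.IrrCharacter G) : G → ℂ) g⁻¹ := by
      intro g
      rw [Cfsg.Agent.Lib.Helper80.inflateIrr_apply, QuotientGroup.mk_inv,
        Cfsg.Agent.Lib.Helper3.isCharacter_inv (Cfsg.Agent.Lib.Helper3.isCharacter_of_irr χ.2)]
    rw [Finset.sum_congr rfl (fun g _ => h4 g), h3, mul_zero]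
  rw [Pi.smul_apply, hc, zero_smul]

end

section

variable {G : Type*} [Group G] [Fintype G] (D : Subgroup G) [D.Normal] {M : Ideal Cfsg.AlgInt}
  {p : ℕ} [Fact p.Prime]

/-- the derived subgroup of a `p`-group lies in its Frattini subgroup -/
theorem commutator_le_frattini_map (hD : IsPGroup p D) :
    ⁅D, D⁆ ≤ (frattini ↥D).map D.subtype := by
  rw [Subgroup.commutator_le]
  intro a ha b hb
  refine ⟨(⟨a, ha⟩ : D) * ⟨b, hb⟩ * (⟨a, ha⟩ : D)⁻¹ * (⟨b, hb⟩ : D)⁻¹,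
    Cfsg.Agent.Lib.Helper87.comm_mem_frattini hD _ _, ?_⟩
  rw [commutatorElement_def]
  rfl

/-- a `p`-regular element acting trivially on `D ⧸ ⁅D, D⁆` centralizes the `p`-group `D` -/
theorem mem_centralizer_of_mk_mem_centralizer (hD : IsPGroup p D) {x : G}
    (hx : ¬ p ∣ orderOf x)
    (hxc : (x : G ⧸ ⁅D, D⁆) ∈ Subgroup.centralizer
      ((D.map (QuotientGroup.mk' ⁅D, D⁆) : Subgroup (G ⧸ ⁅D, D⁆)) : Set (G ⧸ ⁅D, D⁆))) :
    x ∈ Subgroup.centralizer (D : Set G) := by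
  have hp : p.Prime := Fact.out
  apply Cfsg.Agent.Lib.Helper11.mem_centralizer_of_comm_le_frattini D hD x
  · rw [Subgroup.mem_normalizer_iff]
    intro h
    constructor
    · intro hh
      exact Subgroup.Normal.conj_mem ‹D.Normal› h hh x
    · intro hh
      have := Subgroup.Normal.conj_mem ‹D.Normal› _ hh x⁻¹
      have e : x⁻¹ * (x * h * x⁻¹) * x⁻¹⁻¹ = h := by group
      rwa [e] at this
  · exact Nat.Coprime.symm ((Nat.Prime.coprime_iff_not_dvd hp).mpr hx)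
  · refine le_trans ?_ (commutator_le_frattini_map D hD)
    rw [Subgroup.commutator_le]
    intro d hd s hs
    have hsc : (s : G ⧸ ⁅D, D⁆) ∈ Subgroup.centralizer
        ((D.map (QuotientGroup.mk' ⁅D, D⁆) : Subgroup (G ⧸ ⁅D, D⁆)) : Set (G ⧸ ⁅D, D⁆)) := by
      obtain ⟨k, rfl⟩ := Subgroup.mem_zpowers_iff.mp hs
      rw [QuotientGroup.mk_zpow]
      exact Subgroup.zpow_mem _ hxc k
    have h1 := Subgroup.mem_centralizer_iff.mp hsc (d : G ⧸ ⁅D, D⁆)
      (Subgroup.mem_map_of_mem _ hd)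
    rw [← QuotientGroup.eq_one_iff, commutatorElement_def, QuotientGroup.mk_mul,
      QuotientGroup.mk_mul, QuotientGroup.mk_mul, h1]
    rw [QuotientGroup.mk_inv, QuotientGroup.mk_inv]
    group

/-- for a normal `p`-subgroup `D`: irreducible characters of `G ⧸ ⁅D, D⁆` whose inflations lie in
the same block of `G` lie in the same block of `G ⧸ ⁅D, D⁆` -/
theorem sameBlock_deflate_derived (hM : Cfsg.IsPModular p M) (hD : IsPGroup p D)
    (χ ψ : Cfsg.IrrCharacter (G ⧸ ⁅D, D⁆))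
    (h : Cfsg.SameBlock M ((χ : G ⧸ ⁅D, D⁆ → ℂ) ∘ QuotientGroup.mk)
      ((ψ : G ⧸ ⁅D, D⁆ → ℂ) ∘ QuotientGroup.mk)) :
    Cfsg.SameBlock M (χ : G ⧸ ⁅D, D⁆ → ℂ) (ψ : G ⧸ ⁅D, D⁆ → ℂ) := by
  classical
  let _ : Fintype (G ⧸ ⁅D, D⁆) := Fintype.ofFinite _
  have hMp := isPrime_of_isPModular hM
  have hQ : IsPGroup p (⁅D, D⁆ : Subgroup G) := hD.to_le (Subgroup.commutator_le_right D D)
  apply sameBlock_of_pRegular hM
  intro q hq
  obtain ⟨x, hx, rfl⟩ := exists_pRegular_lift ⁅D, D⁆ q hq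
  by_cases hxD : x ∈ Subgroup.centralizer (D : Set G)
  · have hxC : x ∈ Subgroup.centralizer ((⁅D, D⁆ : Subgroup G) : Set G) :=
      Subgroup.centralizer_le (Subgroup.commutator_le_right D D) hxD
    have e : Cfsg.centralChar (χ : G ⧸ ⁅D, D⁆ → ℂ) (x : G ⧸ ⁅D, D⁆) -
        Cfsg.centralChar (ψ : G ⧸ ⁅D, D⁆ → ℂ) (x : G ⧸ ⁅D, D⁆) =
        Cfsg.centralChar ((χ : G ⧸ ⁅D, D⁆ → ℂ) ∘ QuotientGroup.mk) x -
          Cfsg.centralChar ((ψ : G ⧸ ⁅D, D⁆ → ℂ) ∘ QuotientGroup.mk) x := by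
      unfold Cfsg.centralChar
      rw [index_centralizer_quot_eq_of_mem ⁅D, D⁆ hQ hxC hx]
      rfl
    rw [e]
    exact h x
  · have hDbar : IsPGroup p (D.map (QuotientGroup.mk' ⁅D, D⁆) : Subgroup (G ⧸ ⁅D, D⁆)) :=
      hD.map _
    have hxbar : (x : G ⧸ ⁅D, D⁆) ∉ Subgroup.centralizer
        ((D.map (QuotientGroup.mk' ⁅D, D⁆) : Subgroup (G ⧸ ⁅D, D⁆)) : Set (G ⧸ ⁅D, D⁆)) :=
      fun hc => hxD (mem_centralizer_of_mk_mem_centralizer D hD hx hc)
    have : (D.map (QuotientGroup.mk' ⁅D, D⁆) : Subgroup (G ⧸ ⁅D, D⁆)).Normal :=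
      Subgroup.Normal.map ‹D.Normal› _ (QuotientGroup.mk'_surjective _)
    exact memLocalIdeal_sub hMp
      (Cfsg.Agent.Lib.Helper77.memLocalIdeal_centralChar_of_not_mem_centralizer hM _ hDbar _
        hxbar χ)
      (Cfsg.Agent.Lib.Helper77.memLocalIdeal_centralChar_of_not_mem_centralizer hM _ hDbar _
        hxbar ψ)

end

end Cfsg.Agent.Lib.Helper79
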