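import Mathlib
import Cfsg.Prelude.Def_Blocks
import Cfsg.Agent.Lib.Helper79.QuotBlockD
import Cfsg.Agent.Lib.Helper77.MinMax
import Cfsg.Agent.Lib.Helper77.MaxPair
import Cfsg.Agent.Lib.Helper77.IdemCalc
import Cfsg.Agent.Lib.Helper77.Kernel

/-!
# Defect groups of blocks of a quotient group

If a block `B̄` of `G ⧸ N` is contained in the block `B` of `G`, then every defect group of `B̄`
lies in the image of a defect group of `B`.
-/

set_option autoImplicit false
set_option linter.unusedSectionVars false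

namespace Cfsg.Agent.Lib.Helper79

open Cfsg Cfsg.Agent.Lib.Helper16
open scoped ComplexConjugate

section

variable {G : Type*} [Group G] [Fintype G] (N : Subgroup G) [N.Normal] {M : Ideal Cfsg.AlgInt}
  {p : ℕ} [Fact p.Prime]

/-- if the inflation of `χ` lies in `B`, some class carries the idempotent of `B`, the central
character of `χ`, and has the same `p`-part of the class size in `G` and in `G ⧸ N` -/
theorem exists_good_class (hM : Cfsg.IsPModular p M) (B : Set (Cfsg.IrrCharacter G))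
    (hB : Cfsg.IsPBlock M B) (χ : Cfsg.IrrCharacter (G ⧸ N))
    (hχ : (Cfsg.Agent.Lib.Helper80.inflateIrr N χ : Cfsg.IrrCharacter G) ∈ B) :
    ∃ g : G, ¬ Cfsg.MemLocalIdeal M (Cfsg.blockCoeff B g) ∧
      ¬ Cfsg.MemLocalIdeal M (Cfsg.centralChar (χ : G ⧸ N → ℂ) (g : G ⧸ N)) ∧
      ∃ m : ℕ, ¬ p ∣ m ∧ (Subgroup.centralizer ({g} : Set G)).index =
        (Subgroup.centralizer ({(g : G ⧸ N)} : Set (G ⧸ N))).index * m := by
  classical
  let _ : Fintype (G ⧸ N) := Fintype.ofFinite _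
  have hMp := isPrime_of_isPModular hM
  by_contra hcon
  push Not at hcon
  have h1 := Cfsg.Agent.Lib.Helper77.omegaF_blockCoeff_set B
    (Cfsg.Agent.Lib.Helper80.inflateIrr N χ : Cfsg.IrrCharacter G)
  rw [if_pos hχ] at h1
  unfold Cfsg.Agent.Lib.Helper77.omegaF at h1
  rw [Finset.sum_div] at h1
  apply not_memLocalIdeal_one hMp (M := M)
  rw [← h1]
  apply sum_class_invariant_mem (Cfsg.MemLocalIdeal M) (memLocalIdeal_zero hMp)
    (fun a b => memLocalIdeal_add hMp)
    (fun g => Cfsg.blockCoeff B g *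
      ((Cfsg.Agent.Lib.Helper80.inflateIrr N χ : Cfsg.IrrCharacter G) : G → ℂ) g /
      ((Cfsg.Agent.Lib.Helper80.inflateIrr N χ : Cfsg.IrrCharacter G) : G → ℂ) 1) ?_ ?_
    Finset.univ (fun _ _ _ => Finset.mem_univ _)
  · intro x h
    show Cfsg.blockCoeff B (x * h * x⁻¹) *
      ((Cfsg.Agent.Lib.Helper80.inflateIrr N χ : Cfsg.IrrCharacter G) : G → ℂ) (x * h * x⁻¹) / _ = _
    rw [Cfsg.Agent.Lib.Helper77.blockCoeff_isClassFunction B h x,
      irr_conj_eq (Cfsg.Agent.Lib.Helper80.inflateIrr N χ : Cfsg.IrrCharacter G).2 h x]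
  · intro h
    obtain ⟨m, hm⟩ := Cfsg.Agent.Lib.Helper77.index_centralizer_quot_dvd N h
    have e : ((Subgroup.centralizer ({h} : Set G)).index : ℂ) * (Cfsg.blockCoeff B h *
        ((Cfsg.Agent.Lib.Helper80.inflateIrr N χ : Cfsg.IrrCharacter G) : G → ℂ) h /
        ((Cfsg.Agent.Lib.Helper80.inflateIrr N χ : Cfsg.IrrCharacter G) : G → ℂ) 1) =
        Cfsg.blockCoeff B h * ((m : ℂ) * Cfsg.centralChar (χ : G ⧸ N → ℂ) (h : G ⧸ N)) := by
      unfold Cfsg.centralChar
      rw [hm, Cfsg.Agent.Lib.Helper80.inflateIrr_apply, Cfsg.Agent.Lib.Helper80.inflateIrr_apply,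
        QuotientGroup.mk_one]
      push_cast
      ring
    rw [e]
    have hbR := Cfsg.Agent.Lib.Helper77.memLocalRing_blockCoeff hMp B hB h
    have hwR := Cfsg.Agent.Lib.Helper77.memLocalRing_centralChar hMp χ (h : G ⧸ N)
    by_cases hb : Cfsg.MemLocalIdeal M (Cfsg.blockCoeff B h)
    · exact memLocalIdeal_mul_right hMp hb (memLocalRing_mul hMp (memLocalRing_natCast hMp m) hwR)
    · by_cases hw : Cfsg.MemLocalIdeal M (Cfsg.centralChar (χ : G ⧸ N → ℂ) (h : G ⧸ N))
      · exact memLocalIdeal_mul_left hMp hbR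
          (memLocalIdeal_mul_left hMp (memLocalRing_natCast hMp m) hw)
      · have hpm : p ∣ m := by
          by_contra hpm
          exact hcon h hb hw m hpm hm
        exact memLocalIdeal_mul_left hMp hbR
          (memLocalIdeal_mul_right hMp ((memLocalIdeal_natCast_iff hM m).mpr hpm) hwR)

/-- a cardinality criterion for the image of a Sylow subgroup to be a Sylow subgroup -/
theorem map_sylow_quot_eq {C : Subgroup G} {Cb : Subgroup (G ⧸ N)} {m : ℕ} (hm : ¬ p ∣ m)
    (hidx : C.index = Cb.index * m) (Q : Sylow p C) (Q₂ : Sylow p Cb)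
    (hQ₂ : ((Q : Subgroup C).map C.subtype).map (QuotientGroup.mk' N) ≤
      (Q₂ : Subgroup Cb).map Cb.subtype) :
    ((Q : Subgroup C).map C.subtype).map (QuotientGroup.mk' N) =
      (Q₂ : Subgroup Cb).map Cb.subtype := by
  classical
  let _ : Fintype (G ⧸ N) := Fintype.ofFinite _
  have hp : p.Prime := Fact.out
  set Q' := (Q : Subgroup C).map C.subtype with hQ'
  set Qb' := Q'.map (QuotientGroup.mk' N) with hQb'
  have hQ'p : IsPGroup p Q' := Q.isPGroup'.map _
  have hQb'p : IsPGroup p Qb' := hQ'p.map _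
  -- cardinalities
  have c1 : Nat.card G = Nat.card (G ⧸ N) * Nat.card N :=
    Subgroup.card_eq_card_quotient_mul_card_subgroup N
  have c2 : C.index * Nat.card C = Nat.card G := Subgroup.index_mul_card C
  have c3 : Cb.index * Nat.card Cb = Nat.card (G ⧸ N) := Subgroup.index_mul_card Cb
  have hCbi : Cb.index ≠ 0 := Subgroup.index_ne_zero_of_finite
  have c4 : m * Nat.card C = Nat.card Cb * Nat.card N := by
    have h1 : Cb.index * (m * Nat.card C) = Cb.index * (Nat.card Cb * Nat.card N) := by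
      calc Cb.index * (m * Nat.card C) = C.index * Nat.card C := by rw [hidx]; ring
        _ = Nat.card (G ⧸ N) * Nat.card N := by rw [c2, c1]
        _ = Cb.index * (Nat.card Cb * Nat.card N) := by rw [← c3]; ring
    exact Nat.eq_of_mul_eq_mul_left (Nat.pos_of_ne_zero hCbi) h1
  have hm0 : m ≠ 0 := fun h => hm (h ▸ dvd_zero p)
  have hC0 : Nat.card C ≠ 0 := Nat.card_pos.ne'
  have hCb0 : Nat.card Cb ≠ 0 := Nat.card_pos.ne'
  have hN0 : Nat.card N ≠ 0 := Nat.card_pos.ne'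
  have c5 : (Nat.card C).factorization p =
      (Nat.card Cb).factorization p + (Nat.card N).factorization p := by
    have h1 : (m * Nat.card C).factorization p = (Nat.card Cb * Nat.card N).factorization p := by
      rw [c4]
    rw [Nat.factorization_mul hm0 hC0, Nat.factorization_mul hCb0 hN0, Finsupp.add_apply,
      Finsupp.add_apply, Nat.factorization_eq_zero_of_not_dvd hm, zero_add] at h1
    exact h1
  have c6 : Nat.card Q' = p ^ (Nat.card C).factorization p := by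
    rw [hQ', Subgroup.card_map_of_injective (Subgroup.subtype_injective _), Q.card_eq_multiplicity]
  have c7 : Nat.card (N ⊔ Q' : Subgroup G) = Nat.card Qb' * Nat.card N := by
    have h1 : (N ⊔ Q' : Subgroup G).index = Qb'.index := by
      rw [← QuotientGroup.comap_map_mk' N Q',
        Subgroup.index_comap_of_surjective _ (QuotientGroup.mk'_surjective N)]
    have h2 := Subgroup.index_mul_card (N ⊔ Q' : Subgroup G)
    have h3 := Subgroup.index_mul_card Qb'
    have hi : Qb'.index ≠ 0 := Subgroup.index_ne_zero_of_finite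
    have h4 : Qb'.index * Nat.card (N ⊔ Q' : Subgroup G) =
        Qb'.index * (Nat.card Qb' * Nat.card N) := by
      rw [← h1, h2, c1, ← h3, h1]
      ring
    exact Nat.eq_of_mul_eq_mul_left (Nat.pos_of_ne_zero hi) h4
  obtain ⟨k, hk⟩ := IsPGroup.iff_card.mp hQb'p
  have c8 : (Nat.card Cb).factorization p ≤ k := by
    have h1 : Nat.card Q' ∣ Nat.card (N ⊔ Q' : Subgroup G) := Subgroup.card_dvd_of_le le_sup_right
    rw [c6, c7, hk] at h1
    have h2 := (Nat.Prime.pow_dvd_iff_le_factorization hp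
      (mul_ne_zero (pow_ne_zero k hp.ne_zero) hN0)).mp h1
    rw [Nat.factorization_mul (pow_ne_zero k hp.ne_zero) hN0, Finsupp.add_apply,
      Nat.Prime.factorization_pow hp, Finsupp.single_eq_same, c5] at h2
    omega
  have hcard : Nat.card ((Q₂ : Subgroup Cb).map Cb.subtype) ≤ Nat.card Qb' := by
    rw [Subgroup.card_map_of_injective (Subgroup.subtype_injective _), Q₂.card_eq_multiplicity, hk]
    exact Nat.pow_le_pow_right hp.pos c8
  exact Subgroup.eq_of_le_of_card_ge hQ₂ hcard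

/-- when the `p`-parts of the class sizes of `g` in `G` and in `G ⧸ N` agree, the Sylow
`p`-subgroups of `C(ḡ)` are the conjugates of the images of those of `C(g)` -/
theorem map_sylow_centralizer_quot {g : G} {m : ℕ} (hm : ¬ p ∣ m)
    (hidx : (Subgroup.centralizer ({g} : Set G)).index =
      (Subgroup.centralizer ({(g : G ⧸ N)} : Set (G ⧸ N))).index * m)
    (Q : Sylow p (Subgroup.centralizer ({g} : Set G)))
    (Qbar : Sylow p (Subgroup.centralizer ({(g : G ⧸ N)} : Set (G ⧸ N)))) :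
    ∃ c : G ⧸ N, (Qbar : Subgroup (Subgroup.centralizer ({(g : G ⧸ N)} : Set (G ⧸ N)))).map
        (Subgroup.centralizer ({(g : G ⧸ N)} : Set (G ⧸ N))).subtype =
      (((Q : Subgroup (Subgroup.centralizer ({g} : Set G))).map
        (Subgroup.centralizer ({g} : Set G)).subtype).map (QuotientGroup.mk' N)).map
          (MulAut.conj c).toMonoidHom := by
  classical
  let _ : Fintype (G ⧸ N) := Fintype.ofFinite _
  have hQb'p : IsPGroup p (((Q : Subgroup (Subgroup.centralizer ({g} : Set G))).map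
      (Subgroup.centralizer ({g} : Set G)).subtype).map (QuotientGroup.mk' N)) :=
    (Q.isPGroup'.map _).map _
  have hcen : ∀ r ∈ ((Q : Subgroup (Subgroup.centralizer ({g} : Set G))).map
      (Subgroup.centralizer ({g} : Set G)).subtype).map (QuotientGroup.mk' N),
      r * (g : G ⧸ N) = (g : G ⧸ N) * r := by
    rintro _ ⟨_, ⟨y, _, rfl⟩, rfl⟩
    have h1 := (Subgroup.mem_centralizer_iff.mp y.2) g rfl
    show ((y : G) : G ⧸ N) * (g : G ⧸ N) = (g : G ⧸ N) * ((y : G) : G ⧸ N)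
    rw [← QuotientGroup.mk_mul, ← QuotientGroup.mk_mul, h1]
  obtain ⟨Q₂, hQ₂⟩ := Cfsg.Agent.Lib.Helper77.exists_sylow_centralizer_ge p _ hQb'p
    (g : G ⧸ N) hcen
  have heq := map_sylow_quot_eq N hm hidx Q Q₂ hQ₂
  obtain ⟨c, _, hc⟩ := Cfsg.Agent.Lib.Helper77.sylow_centralizer_conj p (g : G ⧸ N) Q₂ Qbar
  exact ⟨c, by rw [hc, ← heq]⟩

/-- **Defect groups of a block of a quotient.** If the block `B̄` of `G ⧸ N` is contained in the
block `B` of `G`, every defect group of `B̄` lies in the image of a defect group of `B`. -/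
theorem exists_defectGroup_ge_quot (hM : Cfsg.IsPModular p M) (Bbar : Set (Cfsg.IrrCharacter (G ⧸ N)))
    (hBbar : Cfsg.IsPBlock M Bbar) (B : Set (Cfsg.IrrCharacter G)) (hB : Cfsg.IsPBlock M B)
    (hsub : ∀ χ ∈ Bbar, (Cfsg.Agent.Lib.Helper80.inflateIrr N χ : Cfsg.IrrCharacter G) ∈ B)
    (Dbar : Subgroup (G ⧸ N)) (hDbar : Cfsg.IsDefectGroup p M Bbar Dbar) :
    ∃ P : Subgroup G, Cfsg.IsDefectGroup p M B P ∧ Dbar ≤ P.map (QuotientGroup.mk' N) := by
  classical
  let _ : Fintype (G ⧸ N) := Fintype.ofFinite _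
  have hMp := isPrime_of_isPModular hM
  obtain ⟨χ, hχ⟩ := IsPBlock.nonempty hMp hBbar
  obtain ⟨g, hgb, hgw, m, hm, hidx⟩ := exists_good_class N hM B hB χ (hsub χ hχ)
  obtain ⟨D, hD⟩ := Cfsg.Agent.Lib.Helper77.exists_isDefectGroup p hMp B hB
  obtain ⟨g₁, hg₁, D₁, rfl⟩ := hD
  obtain ⟨x, Q, hxQ⟩ := Cfsg.Agent.Lib.Helper77.minmax_a hM B hB g₁ hg₁ D₁ g hgb
  obtain ⟨g₀, hg₀, P₀, rfl⟩ := hDbar
  obtain ⟨xb, Qb, hxQb⟩ := Cfsg.Agent.Lib.Helper77.minmax_b hM Bbar hBbar g₀ hg₀ P₀ (g : G ⧸ N)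
    ⟨χ, hχ, hgw⟩
  obtain ⟨c, hc⟩ := map_sylow_centralizer_quot N hm hidx Q Qb
  obtain ⟨xt, rfl⟩ := QuotientGroup.mk_surjective xb
  obtain ⟨ct, rfl⟩ := QuotientGroup.mk_surjective c
  refine ⟨_, Cfsg.Agent.Lib.Helper77.isDefectGroup_map_conj ⟨g₁, hg₁, D₁, rfl⟩ (xt⁻¹ * ct * x), ?_⟩
  intro d hd
  have h1 : (xt : G ⧸ N) * d * (xt : G ⧸ N)⁻¹ ∈
      (Qb : Subgroup (Subgroup.centralizer ({(g : G ⧸ N)} : Set (G ⧸ N)))).map
        (Subgroup.centralizer ({(g : G ⧸ N)} : Set (G ⧸ N))).subtype :=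
    hxQb ⟨d, hd, by simp [MulAut.conj_apply]⟩
  rw [hc] at h1
  obtain ⟨_, ⟨q, hq, rfl⟩, hq2⟩ := h1
  obtain ⟨d₁, hd₁, rfl⟩ := hxQ hq
  refine ⟨(xt⁻¹ * ct * x) * d₁ * (xt⁻¹ * ct * x)⁻¹, ⟨d₁, hd₁, by rw [MulEquiv.coe_toMonoidHom, MulAut.conj_apply]⟩, ?_⟩
  simp only [MulEquiv.coe_toMonoidHom, MulAut.conj_apply, QuotientGroup.mk'_apply] at hq2 ⊢
  have h3 : d = (xt : G ⧸ N)⁻¹ * ((xt : G ⧸ N) * d * (xt : G ⧸ N)⁻¹) * (xt : G ⧸ N) := by group
  rw [h3, ← hq2]
  simp only [QuotientGroup.mk_mul, QuotientGroup.mk_inv]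
  group

end

end Cfsg.Agent.Lib.Helper79
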