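import Mathlib
import Cfsg.Prelude.Def_Blocks
import Cfsg.Agent.Lib.Helper79.QuotDefect
import Cfsg.Agent.Lib.Helper77.SubBlock
import Cfsg.Agent.Lib.Helper77.Degree
import Cfsg.Agent.Lib.Helper77.Osima

/-!
# Quotients by a normal `p`-subgroup: blocks with the expected defect groups

If `N` is a normal `p`-subgroup of `G`, every block `B` of `G` contains a block of `G ⧸ N` whose
defect groups are the images of the defect groups of `B`.
-/

set_option autoImplicit false
set_option linter.unusedSectionVars false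

namespace Cfsg.Agent.Lib.Helper79

open Cfsg Cfsg.Agent.Lib.Helper16
open scoped ComplexConjugate

section

variable {G : Type*} [Group G] [Fintype G] (N : Subgroup G) [N.Normal] {M : Ideal Cfsg.AlgInt}
  {p : ℕ} [Fact p.Prime]

theorem pushReg_mk_of_mem (hN : IsPGroup p N) (θ : G → ℂ) {x : G}
    (hxC : x ∈ Subgroup.centralizer (N : Set G)) (hx : ¬ p ∣ orderOf x) :
    pushReg N p θ (x : G ⧸ N) = θ x := by
  classical
  unfold pushReg
  rw [Finset.sum_eq_single x]
  · rw [if_pos rfl, if_neg hx]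
  · intro g _ hne
    by_cases h1 : (g : G ⧸ N) = (x : G ⧸ N)
    · rw [if_pos h1]
      by_cases h2 : p ∣ orderOf g
      · rw [if_pos h2]
      · exact absurd (eq_of_pRegular_of_mk_eq_of_mem N hN hxC hx h2 h1) hne
    · rw [if_neg h1]
  · intro h
    exact absurd (Finset.mem_univ _) h

theorem omegaF_pushReg [Fintype (G ⧸ N)] (a : G → ℂ) (ha : ∀ g, p ∣ orderOf g → a g = 0)
    (χ : Cfsg.IrrCharacter (G ⧸ N)) :
    Cfsg.Agent.Lib.Helper77.omegaF (χ : G ⧸ N → ℂ) (pushReg N p a) =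
      Cfsg.Agent.Lib.Helper77.omegaF
        ((Cfsg.Agent.Lib.Helper80.inflateIrr N χ : Cfsg.IrrCharacter G) : G → ℂ) a := by
  classical
  unfold Cfsg.Agent.Lib.Helper77.omegaF pushReg
  rw [Cfsg.Agent.Lib.Helper80.inflateIrr_apply, QuotientGroup.mk_one]
  congr 1
  simp_rw [Finset.sum_mul]
  rw [Finset.sum_comm]
  refine Finset.sum_congr rfl (fun g _ => ?_)
  rw [Finset.sum_eq_single (g : G ⧸ N)]
  · rw [if_pos rfl, Cfsg.Agent.Lib.Helper80.inflateIrr_apply]
    by_cases h : p ∣ orderOf g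
    · rw [if_pos h, ha g h]
    · rw [if_neg h]
  · intro c _ hne
    rw [if_neg (Ne.symm hne), zero_mul]
  · intro h
    exact absurd (Finset.mem_univ _) h

/-- the image in `G ⧸ N` of the idempotent of a block `B` of `G` is the idempotent of the set of
characters of `G ⧸ N` whose inflations lie in `B` -/
theorem blockCoeff_quot_eq (hM : Cfsg.IsPModular p M) (B : Set (Cfsg.IrrCharacter G))
    (hB : Cfsg.IsPBlock M B) [Fintype (G ⧸ N)] :
    Cfsg.blockCoeff {χ : Cfsg.IrrCharacter (G ⧸ N) |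
        (Cfsg.Agent.Lib.Helper80.inflateIrr N χ : Cfsg.IrrCharacter G) ∈ B} =
      pushReg N p (Cfsg.blockCoeff B) := by
  classical
  apply Cfsg.Agent.Lib.Helper77.eq_of_omegaF_eq
    (Cfsg.Agent.Lib.Helper77.blockCoeff_isClassFunction _)
    (pushReg_classFunction N _ (Cfsg.Agent.Lib.Helper77.blockCoeff_isClassFunction B))
  intro χ
  rw [Cfsg.Agent.Lib.Helper77.omegaF_blockCoeff_set,
    omegaF_pushReg N _ (fun g hg => Cfsg.Agent.Lib.Helper77.blockCoeff_eq_zero_of_singular hM B hB hg),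
    Cfsg.Agent.Lib.Helper77.omegaF_blockCoeff_set]
  rfl

/-- `#(N ⊔ H) = #(HN/N) · #N` -/
theorem card_sup_eq_card_map_mul (H : Subgroup G) :
    Nat.card (N ⊔ H : Subgroup G) = Nat.card (H.map (QuotientGroup.mk' N)) * Nat.card N := by
  classical
  let _ : Fintype (G ⧸ N) := Fintype.ofFinite _
  have c1 : Nat.card G = Nat.card (G ⧸ N) * Nat.card N :=
    Subgroup.card_eq_card_quotient_mul_card_subgroup N
  have h1 : (N ⊔ H : Subgroup G).index = (H.map (QuotientGroup.mk' N)).index := by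
    rw [← QuotientGroup.comap_map_mk' N H,
      Subgroup.index_comap_of_surjective _ (QuotientGroup.mk'_surjective N)]
  have h2 := Subgroup.index_mul_card (N ⊔ H : Subgroup G)
  have h3 := Subgroup.index_mul_card (H.map (QuotientGroup.mk' N))
  have hi : (H.map (QuotientGroup.mk' N)).index ≠ 0 := Subgroup.index_ne_zero_of_finite
  have h4 : (H.map (QuotientGroup.mk' N)).index * Nat.card (N ⊔ H : Subgroup G) =
      (H.map (QuotientGroup.mk' N)).index *
        (Nat.card (H.map (QuotientGroup.mk' N)) * Nat.card N) := by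
    rw [← h1, h2, c1, ← h3, h1]
    ring
  exact Nat.eq_of_mul_eq_mul_left (Nat.pos_of_ne_zero hi) h4

/-- **Blocks of `G ⧸ N` for a normal `p`-subgroup `N`.** Every block `B` of `G` contains a block
of `G ⧸ N` whose defect groups are exactly the images of the defect groups of `B`. -/
theorem exists_block_quot_defect (hM : Cfsg.IsPModular p M) (hN : IsPGroup p N)
    (B : Set (Cfsg.IrrCharacter G)) (hB : Cfsg.IsPBlock M B) :
    ∃ Bbar : Set (Cfsg.IrrCharacter (G ⧸ N)), Cfsg.IsPBlock M Bbar ∧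
      (∀ χ ∈ Bbar, (Cfsg.Agent.Lib.Helper80.inflateIrr N χ : Cfsg.IrrCharacter G) ∈ B) ∧
      ∀ Dbar : Subgroup (G ⧸ N), Cfsg.IsDefectGroup p M Bbar Dbar ↔
        ∃ P : Subgroup G, Cfsg.IsDefectGroup p M B P ∧ Dbar = P.map (QuotientGroup.mk' N) := by
  classical
  let _ : Fintype (G ⧸ N) := Fintype.ofFinite _
  have hMp := isPrime_of_isPModular hM
  have hp : p.Prime := Fact.out
  have := Cfsg.Agent.Lib.Helper77.irr_finite (G ⧸ N)
  have := Fintype.ofFinite (Set (Cfsg.IrrCharacter (G ⧸ N)))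
  obtain ⟨g, hg⟩ := Cfsg.Agent.Lib.Helper77.exists_isDefectClass hMp B hB
  obtain ⟨D₁⟩ : Nonempty (Sylow p (Subgroup.centralizer ({g} : Set G))) := inferInstance
  have hP₁ : Cfsg.IsDefectGroup p M B ((D₁ : Subgroup (Subgroup.centralizer ({g} : Set G))).map
      (Subgroup.centralizer ({g} : Set G)).subtype) := ⟨g, hg, D₁, rfl⟩
  have hgC : g ∈ Subgroup.centralizer (N : Set G) := by
    by_contra hcon
    have h0 := Cfsg.Agent.Lib.Helper77.blockCoeff_eq_zero_of_not_mem_centralizer hM N hN B hB g hcon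
    exact hg.2.1 (h0 ▸ memLocalIdeal_zero hMp)
  have hgreg : ¬ p ∣ orderOf g := by
    intro hsing
    have h0 := Cfsg.Agent.Lib.Helper77.blockCoeff_eq_zero_of_singular hM B hB hsing
    exact hg.2.1 (h0 ▸ memLocalIdeal_zero hMp)
  obtain ⟨A, hA⟩ : ∃ A : Set (Cfsg.IrrCharacter (G ⧸ N)), A = {χ : Cfsg.IrrCharacter (G ⧸ N) |
      (Cfsg.Agent.Lib.Helper80.inflateIrr N χ : Cfsg.IrrCharacter G) ∈ B} := ⟨_, rfl⟩
  have hAmem : ∀ χ : Cfsg.IrrCharacter (G ⧸ N), χ ∈ A ↔
      (Cfsg.Agent.Lib.Helper80.inflateIrr N χ : Cfsg.IrrCharacter G) ∈ B := by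
    intro χ
    rw [hA]
    rfl
  have hAU : Cfsg.Agent.Lib.Helper77.IsBlockUnion M A := by
    intro χ hχ ψ hψ
    have h1 : Cfsg.SameBlock M ((χ : G ⧸ N → ℂ) ∘ QuotientGroup.mk)
        ((ψ : G ⧸ N → ℂ) ∘ QuotientGroup.mk) := sameBlock_inflate N hMp hψ
    rw [hAmem] at hχ ⊢
    rw [IsPBlock.eq_blockOf hMp hB hχ]
    exact h1
  have hval : Cfsg.blockCoeff A (g : G ⧸ N) = Cfsg.blockCoeff B g := by
    rw [hA, blockCoeff_quot_eq N hM B hB, pushReg_mk_of_mem N hN _ hgC hgreg]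
  have hsum := Cfsg.Agent.Lib.Helper77.blockCoeff_eq_sum_of_isBlockUnion hMp A hAU
  have hex : ∃ f : Set (Cfsg.IrrCharacter (G ⧸ N)), Cfsg.IsPBlock M f ∧ f ⊆ A ∧
      ¬ Cfsg.MemLocalIdeal M (Cfsg.blockCoeff f (g : G ⧸ N)) := by
    by_contra hcon
    push Not at hcon
    apply hg.2.1
    rw [← hval, hsum, Finset.sum_apply]
    apply memLocalIdeal_sum hMp
    intro f _
    by_cases hf : Cfsg.IsPBlock M f ∧ f ⊆ A
    · rw [if_pos hf]; exact hcon f hf.1 hf.2
    · rw [if_neg hf]; exact memLocalIdeal_zero hMp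
  obtain ⟨Bbar, hBbar, hBA, hBg⟩ := hex
  have hsub : ∀ χ ∈ Bbar, (Cfsg.Agent.Lib.Helper80.inflateIrr N χ : Cfsg.IrrCharacter G) ∈ B :=
    fun χ hχ => (hAmem χ).mp (hBA hχ)
  have key : ∀ Dbar : Subgroup (G ⧸ N), Cfsg.IsDefectGroup p M Bbar Dbar →
      ∃ P : Subgroup G, Cfsg.IsDefectGroup p M B P ∧ Dbar = P.map (QuotientGroup.mk' N) := by
    intro Dbar hDbar
    obtain ⟨P, hP, hle⟩ := exists_defectGroup_ge_quot N hM Bbar hBbar B hB hsub Dbar hDbar
    refine ⟨P, hP, Subgroup.eq_of_le_of_card_ge hle ?_⟩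
    obtain ⟨g₀, hg₀, P₀, rfl⟩ := hDbar
    obtain ⟨xb, Qb, hxQb⟩ := Cfsg.Agent.Lib.Helper77.minmax_a hM Bbar hBbar g₀ hg₀ P₀
      (g : G ⧸ N) hBg
    have c1 := Nat.card_le_card_of_injective (Subgroup.inclusion hxQb)
      (Subgroup.inclusion_injective hxQb)
    rw [Cfsg.Agent.Lib.Helper77.card_map_conj] at c1
    refine le_trans (le_of_eq ?_) c1
    rw [Subgroup.card_map_of_injective (Subgroup.subtype_injective _), Qb.card_eq_multiplicity]
    -- cardinalities
    have hidx := index_centralizer_quot_eq_of_mem N hN hgC hgreg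
    have cG : Nat.card G = Nat.card (G ⧸ N) * Nat.card N :=
      Subgroup.card_eq_card_quotient_mul_card_subgroup N
    have c2 := Subgroup.index_mul_card (Subgroup.centralizer ({g} : Set G))
    have c3 := Subgroup.index_mul_card (Subgroup.centralizer ({(g : G ⧸ N)} : Set (G ⧸ N)))
    have hi : (Subgroup.centralizer ({g} : Set G)).index ≠ 0 := Subgroup.index_ne_zero_of_finite
    have c4 : Nat.card (Subgroup.centralizer ({g} : Set G)) =
        Nat.card (Subgroup.centralizer ({(g : G ⧸ N)} : Set (G ⧸ N))) * Nat.card N := by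
      have h1 : (Subgroup.centralizer ({g} : Set G)).index *
          Nat.card (Subgroup.centralizer ({g} : Set G)) =
          (Subgroup.centralizer ({g} : Set G)).index *
            (Nat.card (Subgroup.centralizer ({(g : G ⧸ N)} : Set (G ⧸ N))) * Nat.card N) := by
        rw [c2, cG, ← c3, hidx]
        ring
      exact Nat.eq_of_mul_eq_mul_left (Nat.pos_of_ne_zero hi) h1
    obtain ⟨n, hn⟩ := IsPGroup.iff_card.mp hN
    have hCb0 : Nat.card (Subgroup.centralizer ({(g : G ⧸ N)} : Set (G ⧸ N))) ≠ 0 :=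
      Nat.card_pos.ne'
    have c5 : (Nat.card (Subgroup.centralizer ({g} : Set G))).factorization p =
        (Nat.card (Subgroup.centralizer ({(g : G ⧸ N)} : Set (G ⧸ N)))).factorization p + n := by
      rw [c4, hn, Nat.factorization_mul hCb0 (pow_ne_zero n hp.ne_zero), Finsupp.add_apply,
        Nat.Prime.factorization_pow hp, Finsupp.single_eq_same]
    have c6 : Nat.card P = p ^ (Nat.card (Subgroup.centralizer ({g} : Set G))).factorization p := by
      rw [Cfsg.Agent.Lib.Helper77.card_isDefectGroup hM B hB P hP,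
        ← Cfsg.Agent.Lib.Helper77.card_isDefectGroup hM B hB _ hP₁,
        Subgroup.card_map_of_injective (Subgroup.subtype_injective _), D₁.card_eq_multiplicity]
    have hNP : N ≤ P := Cfsg.Agent.Lib.Helper77.normal_pgroup_le_of_isDefectGroup hM N hN hB hP
    have c7 := card_sup_eq_card_map_mul N P
    rw [sup_eq_right.mpr hNP, c6, c5, hn, pow_add] at c7
    exact (Nat.eq_of_mul_eq_mul_right (pow_pos hp.pos n) c7).symm
  refine ⟨Bbar, hBbar, hsub, fun Dbar => ⟨key Dbar, ?_⟩⟩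
  rintro ⟨P, hP, rfl⟩
  obtain ⟨D₀, hD₀⟩ := Cfsg.Agent.Lib.Helper77.exists_isDefectGroup p hMp Bbar hBbar
  obtain ⟨P', hP', rfl⟩ := key D₀ hD₀
  obtain ⟨x, rfl⟩ := Cfsg.Agent.Lib.Helper77.isDefectGroup_conj hM B hB hP' hP
  have h1 := Cfsg.Agent.Lib.Helper77.isDefectGroup_map_conj hD₀ (x : G ⧸ N)
  have e : (P'.map (MulAut.conj x).toMonoidHom).map (QuotientGroup.mk' N) =
      (P'.map (QuotientGroup.mk' N)).map (MulAut.conj (x : G ⧸ N)).toMonoidHom := by
    rw [Subgroup.map_map, Subgroup.map_map]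
    congr 1
  rw [e]
  exact h1

end

end Cfsg.Agent.Lib.Helper79
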