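import Mathlib
import Cfsg.Prelude.Def_Blocks
import Cfsg.Agent.Lib.Helper16.ClassSum
import Cfsg.Agent.Lib.Helper16.BlockBasic
import Cfsg.Agent.Lib.Helper16.LocalRing
import Cfsg.Agent.Lib.Helper74.CharOps
import Cfsg.Agent.Lib.Helper77.BlockIdem
import Cfsg.Agent.Lib.Helper77.Osima
import Cfsg.Agent.Lib.Helper77.Defect
import Cfsg.Agent.Lib.Helper77.Degree
import Cfsg.Agent.Lib.Helper79.ClassMult
import Cfsg.Agent.Lib.Helper79.CharSum
import Cfsg.Agent.Lib.Helper81.CharCore
import Cfsg.Agent.Lib.Helper16.Osima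

/-!
# Real 2-blocks of full defect

A 2-block of full defect which is equal to its complex conjugate is the principal block.
The block idempotent is evaluated modulo the maximal ideal on the principal character and on
a character of odd degree of the block; classes are paired with their inverses.
-/

set_option autoImplicit false

namespace Cfsg.Agent.Lib.Helper79

open Cfsg Cfsg.Agent.Lib.Helper16
open scoped ComplexConjugate

section ClassPairs

variable {G : Type*} [Group G] [Fintype G] [DecidableEq G]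

omit [Fintype G] [DecidableEq G] in
theorem centralizer_inv_eq (h : G) :
    Subgroup.centralizer ({h⁻¹} : Set G) = Subgroup.centralizer ({h} : Set G) := by
  ext y
  simp only [Subgroup.mem_centralizer_iff, Set.mem_singleton_iff, forall_eq]
  constructor
  · intro hy
    calc h * y = h * (y * h⁻¹) * h := by group
      _ = h * (h⁻¹ * y) * h := by rw [hy]
      _ = y * h := by group
  · intro hy
    calc h⁻¹ * y = h⁻¹ * (y * h) * h⁻¹ := by group
      _ = h⁻¹ * (h * y) * h⁻¹ := by rw [hy]
      _ = y * h⁻¹ := by group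

/-- The class of a non-identity real element of odd order has even size. -/
theorem even_index_centralizer_of_real {h : G} (hodd : Odd (orderOf h)) (h1 : h ≠ 1)
    (hreal : IsConj h h⁻¹) : Even (Subgroup.centralizer ({h} : Set G)).index := by
  rw [← card_isConj h]
  have hsum : ∑ _y ∈ Finset.univ.filter (fun y : G => IsConj h y), (1 : ZMod 2) = 0 := by
    refine Finset.sum_involution (fun y _ => y⁻¹) ?_ ?_ ?_ ?_
    · intro y _
      decide
    · intro y hy _ hfix
      rw [Finset.mem_filter] at hy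
      have hyy : y * y = 1 := by
        calc y * y = y⁻¹ * y := by rw [hfix]
          _ = 1 := inv_mul_cancel y
      obtain ⟨c, hc⟩ := isConj_iff.mp hy.2
      have ho : orderOf y = orderOf h := by
        rw [← hc]
        exact (MulAut.conj c).orderOf_eq h
      have hd : orderOf y ∣ 2 := orderOf_dvd_of_pow_eq_one (by rw [pow_two]; exact hyy)
      rw [ho] at hd
      have h2 : orderOf h = 1 := by
        rcases (Nat.dvd_prime Nat.prime_two).mp hd with h3 | h3
        · exact h3
        · rw [h3] at hodd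
          exact absurd hodd (by decide)
      exact h1 (orderOf_eq_one_iff.mp h2)
    · intro y hy
      rw [Finset.mem_filter] at hy ⊢
      refine ⟨Finset.mem_univ _, ?_⟩
      obtain ⟨c, hc⟩ := isConj_iff.mp hy.2
      exact hreal.trans (isConj_iff.mpr ⟨c, by rw [← hc]; group⟩)
    · intro y _
      exact inv_inv y
  rw [Finset.sum_const, nsmul_eq_mul, mul_one] at hsum
  exact even_iff_two_dvd.mpr ((ZMod.natCast_eq_zero_iff _ 2).mp hsum)

/-- A sum of a class function over a set closed under conjugation and inversion lies in an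
additive predicate containing the class sums of real classes and the sums over pairs of
mutually inverse non-real classes. -/
theorem sum_class_inv_invariant_mem (P : ℂ → Prop) (h0 : P 0)
    (hadd : ∀ a b, P a → P b → P (a + b)) (φ : G → ℂ)
    (hφ : ∀ x h : G, φ (x * h * x⁻¹) = φ h) (S : Finset G)
    (hS : ∀ x h : G, h ∈ S → x * h * x⁻¹ ∈ S) (hSinv : ∀ h ∈ S, h⁻¹ ∈ S)
    (hreal : ∀ h ∈ S, IsConj h h⁻¹ →
      P (((Subgroup.centralizer ({h} : Set G)).index : ℂ) * φ h))
    (hnreal : ∀ h ∈ S, ¬ IsConj h h⁻¹ →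
      P (((Subgroup.centralizer ({h} : Set G)).index : ℂ) * (φ h + φ h⁻¹))) :
    P (∑ h ∈ S, φ h) := by
  induction S using Finset.strongInduction with
  | H S ih =>
    by_cases hne : S.Nonempty
    · obtain ⟨h₀, hh₀⟩ := hne
      obtain ⟨L, hL⟩ : ∃ L : Finset G,
          L = Finset.univ.filter (fun y : G => IsConj h₀ y ∨ IsConj h₀⁻¹ y) := ⟨_, rfl⟩
      have hmemL : ∀ y, y ∈ L ↔ IsConj h₀ y ∨ IsConj h₀⁻¹ y := by
        intro y
        rw [hL, Finset.mem_filter]
        simp
      have hLS : L ⊆ S := by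
        intro y hy
        rcases (hmemL y).mp hy with h | h
        · obtain ⟨c, hc⟩ := isConj_iff.mp h
          rw [← hc]
          exact hS c h₀ hh₀
        · obtain ⟨c, hc⟩ := isConj_iff.mp h
          rw [← hc]
          exact hS c h₀⁻¹ (hSinv h₀ hh₀)
      have hsplit : ∑ h ∈ S, φ h = ∑ h ∈ S \ L, φ h + ∑ h ∈ L, φ h :=
        (Finset.sum_sdiff hLS).symm
      rw [hsplit]
      apply hadd
      · apply ih
        · refine Finset.ssubset_iff_subset_ne.mpr ⟨Finset.sdiff_subset, ?_⟩
          intro heq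
          have h1 : h₀ ∈ S \ L := by rw [heq]; exact hh₀
          rw [Finset.mem_sdiff] at h1
          exact h1.2 ((hmemL h₀).mpr (Or.inl (IsConj.refl h₀)))
        · intro x h hh
          rw [Finset.mem_sdiff] at hh ⊢
          refine ⟨hS x h hh.1, ?_⟩
          intro hx
          apply hh.2
          have hc : IsConj (x * h * x⁻¹) h := isConj_iff.mpr ⟨x⁻¹, by group⟩
          rcases (hmemL _).mp hx with h2 | h2
          · exact (hmemL h).mpr (Or.inl (h2.trans hc))
          · exact (hmemL h).mpr (Or.inr (h2.trans hc))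
        · intro h hh
          rw [Finset.mem_sdiff] at hh ⊢
          refine ⟨hSinv h hh.1, ?_⟩
          intro hx
          apply hh.2
          rcases (hmemL _).mp hx with h2 | h2
          · obtain ⟨c, hc⟩ := isConj_iff.mp h2
            refine (hmemL h).mpr (Or.inr (isConj_iff.mpr ⟨c, ?_⟩))
            calc c * h₀⁻¹ * c⁻¹ = (c * h₀ * c⁻¹)⁻¹ := by group
              _ = h := by rw [hc, inv_inv]
          · obtain ⟨c, hc⟩ := isConj_iff.mp h2
            refine (hmemL h).mpr (Or.inl (isConj_iff.mpr ⟨c, ?_⟩))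
            calc c * h₀ * c⁻¹ = (c * h₀⁻¹ * c⁻¹)⁻¹ := by group
              _ = h := by rw [hc, inv_inv]
        · intro h hh
          exact hreal h (Finset.mem_sdiff.mp hh).1
        · intro h hh
          exact hnreal h (Finset.mem_sdiff.mp hh).1
      · have hconst : ∀ y, IsConj h₀ y → φ y = φ h₀ := by
          intro y hy
          obtain ⟨c, hc⟩ := isConj_iff.mp hy
          rw [← hc, hφ]
        have hconst' : ∀ y, IsConj h₀⁻¹ y → φ y = φ h₀⁻¹ := by
          intro y hy
          obtain ⟨c, hc⟩ := isConj_iff.mp hy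
          rw [← hc, hφ]
        by_cases hr : IsConj h₀ h₀⁻¹
        · have hLeq : L = Finset.univ.filter (fun y : G => IsConj h₀ y) := by
            ext y
            rw [hmemL, Finset.mem_filter]
            simp only [Finset.mem_univ, true_and]
            constructor
            · rintro (h | h)
              · exact h
              · exact hr.trans h
            · intro h
              exact Or.inl h
          rw [hLeq, Finset.sum_congr rfl (fun y hy => hconst y (Finset.mem_filter.mp hy).2),
            Finset.sum_const, card_isConj, nsmul_eq_mul]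
          exact hreal h₀ hh₀ hr
        · have hLeq : L = Finset.univ.filter (fun y : G => IsConj h₀ y) ∪
              Finset.univ.filter (fun y : G => IsConj h₀⁻¹ y) := by
            ext y
            rw [hmemL, Finset.mem_union, Finset.mem_filter, Finset.mem_filter]
            simp
          have hdisj : Disjoint (Finset.univ.filter (fun y : G => IsConj h₀ y))
              (Finset.univ.filter (fun y : G => IsConj h₀⁻¹ y)) := by
            rw [Finset.disjoint_left]
            intro y hy1 hy2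
            rw [Finset.mem_filter] at hy1 hy2
            exact hr (hy1.2.trans hy2.2.symm)
          rw [hLeq, Finset.sum_union hdisj,
            Finset.sum_congr rfl (fun y hy => hconst y (Finset.mem_filter.mp hy).2),
            Finset.sum_congr rfl (fun y hy => hconst' y (Finset.mem_filter.mp hy).2),
            Finset.sum_const, Finset.sum_const, card_isConj, card_isConj, centralizer_inv_eq,
            nsmul_eq_mul, nsmul_eq_mul, ← mul_add]
          exact hnreal h₀ hh₀ hr
    · rw [Finset.not_nonempty_iff_eq_empty] at hne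
      rw [hne, Finset.sum_empty]
      exact h0

end ClassPairs

section Real

variable {G : Type*} [Group G] [Fintype G] [DecidableEq G] {M : Ideal Cfsg.AlgInt}

/-- Sum over the non-identity elements of a class function vanishing on 2-singular elements. -/
theorem sum_erase_one_memLocalIdeal (hM : Cfsg.IsPModular 2 M) (φ : G → ℂ)
    (hφ : ∀ x h : G, φ (x * h * x⁻¹) = φ h)
    (hsing : ∀ h : G, 2 ∣ orderOf h → φ h = 0)
    (hrealodd : ∀ h : G, h ≠ 1 → Odd (orderOf h) → IsConj h h⁻¹ →
      Cfsg.MemLocalIdeal M (((Subgroup.centralizer ({h} : Set G)).index : ℂ) * φ h))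
    (hpair : ∀ h : G, h ≠ 1 →
      Cfsg.MemLocalIdeal M
        (((Subgroup.centralizer ({h} : Set G)).index : ℂ) * (φ h + φ h⁻¹))) :
    Cfsg.MemLocalIdeal M (∑ h ∈ (Finset.univ : Finset G).erase 1, φ h) := by
  classical
  have hprime := isPrime_of_isPModular hM
  refine sum_class_inv_invariant_mem (fun z => Cfsg.MemLocalIdeal M z) (memLocalIdeal_zero hprime)
    (fun a b ha hb => memLocalIdeal_add hprime ha hb) φ hφ _ ?_ ?_ ?_ ?_
  · intro x h hh
    rw [Finset.mem_erase] at hh ⊢
    refine ⟨?_, Finset.mem_univ _⟩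
    intro h1
    apply hh.1
    calc h = x⁻¹ * (x * h * x⁻¹) * x := by group
      _ = 1 := by rw [h1]; group
  · intro h hh
    rw [Finset.mem_erase] at hh ⊢
    exact ⟨inv_ne_one.mpr hh.1, Finset.mem_univ _⟩
  · intro h hh hr
    rw [Finset.mem_erase] at hh
    by_cases h2 : 2 ∣ orderOf h
    · rw [hsing h h2, mul_zero]
      exact memLocalIdeal_zero hprime
    · exact hrealodd h hh.1 (Nat.not_even_iff_odd.mp (fun he => h2 (even_iff_two_dvd.mp he))) hr
  · intro h hh _
    rw [Finset.mem_erase] at hh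
    exact hpair h hh.1

/-- **A real 2-block of full defect is the principal block.** -/
theorem real_full_defect_two_block (hM : Cfsg.IsPModular 2 M) (B : Set (Cfsg.IrrCharacter G))
    (hB : Cfsg.IsPBlock M B) (P : Sylow 2 G) (hfull : Cfsg.IsDefectGroup 2 M B (P : Subgroup G))
    (hreal : {ψ : Cfsg.IrrCharacter G | ∃ χ ∈ B, (ψ : G → ℂ) =
      fun g => (starRingEnd ℂ) ((χ : G → ℂ) g)} = B) :
    B = Cfsg.principalBlock M G := by
  classical
  have : Fact (Nat.Prime 2) := ⟨Nat.prime_two⟩
  let _ : Fintype (Cfsg.IrrCharacter G) := Fintype.ofFinite _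
  have hprime := isPrime_of_isPModular hM
  obtain ⟨c, hc⟩ : ∃ c : Cfsg.IrrCharacter G → Cfsg.IrrCharacter G,
      ∀ χ, ((c χ : Cfsg.IrrCharacter G) : G → ℂ) = fun g => (starRingEnd ℂ) ((χ : G → ℂ) g) :=
    ⟨fun χ => ⟨fun g => (starRingEnd ℂ) ((χ : G → ℂ) g),
      Cfsg.Agent.Lib.Helper74.isIrrCharacter_conj χ.2⟩, fun χ => rfl⟩
  have hc_mem : ∀ χ ∈ B, c χ ∈ B := by
    intro χ hχ
    rw [← hreal]
    exact ⟨χ, hχ, hc χ⟩
  have hc_inv : ∀ χ, c (c χ) = χ := by
    intro χ
    apply Subtype.ext
    rw [hc, hc]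
    funext g
    simp
  have hc_mem' : ∀ χ, c χ ∈ B ↔ χ ∈ B := by
    intro χ
    constructor
    · intro h
      have h2 := hc_mem _ h
      rwa [hc_inv] at h2
    · exact hc_mem χ
  obtain ⟨hloc, hcl, hom⟩ := Cfsg.Agent.Lib.Helper77.blockCoeff_spec hprime B hB
  have hdeg1 : ∀ χ : Cfsg.IrrCharacter G, (starRingEnd ℂ) ((χ : G → ℂ) 1) = (χ : G → ℂ) 1 := by
    intro χ
    rw [(irr_charDegree χ.2).1]
    simp
  -- the idempotent coefficients are invariant under inversion
  have hbinv : ∀ g : G, Cfsg.blockCoeff B g⁻¹ = Cfsg.blockCoeff B g := by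
    intro g
    unfold Cfsg.blockCoeff
    congr 1
    rw [finsum_mem_eq_sum_ite, finsum_mem_eq_sum_ite]
    refine Fintype.sum_equiv (Function.Involutive.toPerm c hc_inv) _ _ (fun χ => ?_)
    show (if χ ∈ B then (χ : G → ℂ) 1 * (starRingEnd ℂ) ((χ : G → ℂ) g⁻¹) else 0) =
      if c χ ∈ B then ((c χ : Cfsg.IrrCharacter G) : G → ℂ) 1 *
        (starRingEnd ℂ) (((c χ : Cfsg.IrrCharacter G) : G → ℂ) g) else 0
    by_cases hχ : χ ∈ B
    · rw [if_pos hχ, if_pos ((hc_mem' χ).mpr hχ), hc χ]
      simp only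
      rw [hdeg1 χ, Cfsg.Agent.Lib.Helper81.irr_inv χ g]
    · rw [if_neg hχ, if_neg (fun h => hχ ((hc_mem' χ).mp h))]
  -- a character of odd degree in `B`
  obtain ⟨ψ₀, hψ₀, hψ₀odd⟩ : ∃ ψ₀ ∈ B, ¬ 2 ∣ Cfsg.charDegree (ψ₀ : G → ℂ) := by
    have hcard := Cfsg.Agent.Lib.Helper77.card_isDefectGroup hM B hB (P : Subgroup G) hfull
    have hP : Nat.card (P : Subgroup G) = 2 ^ (Nat.card G).factorization 2 :=
      Sylow.card_eq_multiplicity P
    have hdef : Cfsg.blockDefect 2 B = (Nat.card G).factorization 2 :=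
      Nat.pow_right_injective (le_refl 2) (hcard.symm.trans hP)
    unfold Cfsg.blockDefect at hdef
    have hne : ((fun χ : Cfsg.IrrCharacter G =>
        (Cfsg.charDegree (χ : G → ℂ)).factorization 2) '' B).Nonempty :=
      (IsPBlock.nonempty hprime hB).image _
    obtain ⟨ψ₀, hψ₀, hψ₀s⟩ := Nat.sInf_mem hne
    refine ⟨ψ₀, hψ₀, ?_⟩
    obtain ⟨-, hpos, hdvd⟩ := irr_charDegree ψ₀.2
    have hle : (Cfsg.charDegree (ψ₀ : G → ℂ)).factorization 2 ≤ (Nat.card G).factorization 2 :=
      (Nat.factorization_le_iff_dvd hpos.ne' Nat.card_pos.ne').mpr hdvd 2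
    have hzero : (Cfsg.charDegree (ψ₀ : G → ℂ)).factorization 2 = 0 := by
      simp only at hψ₀s
      omega
    rcases (Nat.factorization_eq_zero_iff _ _).mp hzero with h | h | h
    · exact absurd Nat.prime_two h
    · exact h
    · exact absurd h hpos.ne'
  obtain ⟨hψ1, hψpos, -⟩ := irr_charDegree ψ₀.2
  have hψne : (ψ₀ : G → ℂ) 1 ≠ 0 := by
    rw [hψ1]
    exact_mod_cast hψpos.ne'
  have hω : ∀ h : G, Even (Subgroup.centralizer ({h} : Set G)).index →
      Cfsg.MemLocalIdeal M (Cfsg.centralChar (ψ₀ : G → ℂ) h) := by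
    intro h hev
    by_contra hcon
    apply hψ₀odd
    have h1 := Cfsg.Agent.Lib.Helper77.pow_dvd_charDegree_of_centralChar hM ψ₀ h hcon 1
      (by rw [pow_one]; exact even_iff_two_dvd.mp hev)
    rwa [pow_one] at h1
  have h2M : Cfsg.MemLocalIdeal M (2 : ℂ) := by
    have h1 := (memLocalIdeal_natCast_iff hM 2).mpr (dvd_refl 2)
    exact_mod_cast h1
  have hsingb : ∀ h : G, 2 ∣ orderOf h → Cfsg.blockCoeff B h = 0 := fun h hh =>
    Cfsg.Agent.Lib.Helper77.blockCoeff_eq_zero_of_singular hM B hB hh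
  -- first sum: against `ψ₀`
  have hS1 := sum_erase_one_memLocalIdeal hM
    (fun g => Cfsg.blockCoeff B g * (ψ₀ : G → ℂ) g / (ψ₀ : G → ℂ) 1)
    (fun x h => by
      show Cfsg.blockCoeff B (x * h * x⁻¹) * (ψ₀ : G → ℂ) (x * h * x⁻¹) / (ψ₀ : G → ℂ) 1 =
        Cfsg.blockCoeff B h * (ψ₀ : G → ℂ) h / (ψ₀ : G → ℂ) 1
      rw [hcl h x, irr_conj_eq ψ₀.2])
    (fun h hh => by
      show Cfsg.blockCoeff B h * (ψ₀ : G → ℂ) h / (ψ₀ : G → ℂ) 1 = 0
      rw [hsingb h hh, zero_mul, zero_div])
    (fun h h1 hodd hr => by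
      have hev := even_index_centralizer_of_real hodd h1 hr
      have h3 := memLocalIdeal_mul_left hprime (hloc h) (hω h hev)
      have e : ((Subgroup.centralizer ({h} : Set G)).index : ℂ) *
          (Cfsg.blockCoeff B h * (ψ₀ : G → ℂ) h / (ψ₀ : G → ℂ) 1) =
          Cfsg.blockCoeff B h * Cfsg.centralChar (ψ₀ : G → ℂ) h := by
        unfold Cfsg.centralChar
        ring
      rw [e]
      exact h3)
    (fun h _ => by
      have hsb := IsPBlock.sameBlock hprime hB (hc_mem ψ₀ hψ₀) hψ₀ h
      have e : ((Subgroup.centralizer ({h} : Set G)).index : ℂ) *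
          (Cfsg.blockCoeff B h * (ψ₀ : G → ℂ) h / (ψ₀ : G → ℂ) 1 +
            Cfsg.blockCoeff B h⁻¹ * (ψ₀ : G → ℂ) h⁻¹ / (ψ₀ : G → ℂ) 1) =
          Cfsg.blockCoeff B h * (2 * Cfsg.centralChar (ψ₀ : G → ℂ) h +
            (Cfsg.centralChar ((c ψ₀ : Cfsg.IrrCharacter G) : G → ℂ) h -
              Cfsg.centralChar (ψ₀ : G → ℂ) h)) := by
        unfold Cfsg.centralChar
        rw [hbinv h, hc ψ₀]
        simp only
        rw [hdeg1 ψ₀, ← Cfsg.Agent.Lib.Helper81.irr_inv ψ₀ h]
        ring
      rw [e]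
      refine memLocalIdeal_mul_left hprime (hloc h) (memLocalIdeal_add hprime ?_ hsb)
      exact memLocalIdeal_mul_right hprime h2M
        (Cfsg.Agent.Lib.Helper16.memLocalRing_centralChar hprime ψ₀ h))
  -- second sum: against the principal character
  have hS2 := sum_erase_one_memLocalIdeal hM (fun g => Cfsg.blockCoeff B g)
    (fun x h => hcl h x)
    (fun h hh => hsingb h hh)
    (fun h h1 hodd hr => by
      have hev := even_index_centralizer_of_real hodd h1 hr
      obtain ⟨k, hk⟩ := even_iff_two_dvd.mp hev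
      rw [hk]
      have e : ((2 * k : ℕ) : ℂ) * Cfsg.blockCoeff B h =
          2 * ((k : ℂ) * Cfsg.blockCoeff B h) := by
        push_cast
        ring
      rw [e]
      exact memLocalIdeal_mul_right hprime h2M
        (memLocalRing_mul hprime (memLocalRing_natCast hprime k) (hloc h)))
    (fun h _ => by
      rw [hbinv h]
      have e : ((Subgroup.centralizer ({h} : Set G)).index : ℂ) *
          (Cfsg.blockCoeff B h + Cfsg.blockCoeff B h) =
          2 * (((Subgroup.centralizer ({h} : Set G)).index : ℂ) * Cfsg.blockCoeff B h) := by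
        ring
      rw [e]
      exact memLocalIdeal_mul_right hprime h2M
        (memLocalRing_mul hprime (memLocalRing_natCast hprime _) (hloc h)))
  -- the two evaluations
  have hev1 : (∑ g : G, Cfsg.blockCoeff B g * (ψ₀ : G → ℂ) g / (ψ₀ : G → ℂ) 1) = 1 := by
    have h1 := hom ψ₀
    unfold Cfsg.Agent.Lib.Helper77.omegaF at h1
    rw [if_pos hψ₀] at h1
    rw [← Finset.sum_div]
    exact h1
  have hev2 : (∑ g : G, Cfsg.blockCoeff B g) =
      if Cfsg.Agent.Lib.Helper77.trivIrr G ∈ B then 1 else 0 := by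
    have h1 := hom (Cfsg.Agent.Lib.Helper77.trivIrr G)
    unfold Cfsg.Agent.Lib.Helper77.omegaF at h1
    simpa [Cfsg.Agent.Lib.Helper77.trivIrr_apply] using h1
  rw [← Finset.add_sum_erase Finset.univ _ (Finset.mem_univ (1 : G))] at hev1 hev2
  have hb1 : Cfsg.blockCoeff B 1 * (ψ₀ : G → ℂ) 1 / (ψ₀ : G → ℂ) 1 = Cfsg.blockCoeff B 1 := by
    field_simp
  rw [hb1] at hev1
  by_cases htriv : Cfsg.Agent.Lib.Helper77.trivIrr G ∈ B
  · rw [Cfsg.Agent.Lib.Helper77.principalBlock_eq]
    exact IsPBlock.eq_blockOf hprime hB htriv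
  · exfalso
    rw [if_neg htriv] at hev2
    apply not_memLocalIdeal_one hprime (M := M)
    have e : (1 : ℂ) = (∑ h ∈ (Finset.univ : Finset G).erase 1,
        Cfsg.blockCoeff B h * (ψ₀ : G → ℂ) h / (ψ₀ : G → ℂ) 1) -
        ∑ h ∈ (Finset.univ : Finset G).erase 1, Cfsg.blockCoeff B h := by
      rw [← hev1]
      linear_combination hev2
    rw [e]
    exact memLocalIdeal_sub hprime hS1 hS2

end Real

end Cfsg.Agent.Lib.Helper79
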