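import Mathlib
import Cfsg.Prelude.Def_Blocks
import Cfsg.Agent.Lib.Helper79.RealBlock

/-!
# 2-blocks whose idempotent is invariant under inversion

A 2-block containing a character of odd degree whose idempotent coefficients are invariant under
inversion, and whose central character is (modulo the maximal ideal) invariant under inversion
on elements of odd order, is the principal block.
-/

set_option autoImplicit false

namespace Cfsg.Agent.Lib.Helper79

open Cfsg Cfsg.Agent.Lib.Helper16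
open scoped ComplexConjugate

section Real2

variable {G : Type*} [Group G] [Fintype G] [DecidableEq G] {M : Ideal Cfsg.AlgInt}

/-- **Inversion-symmetric 2-blocks of full defect are principal.** -/
theorem principal_of_inv_symm (hM : Cfsg.IsPModular 2 M) (B : Set (Cfsg.IrrCharacter G))
    (hB : Cfsg.IsPBlock M B)
    (hbinv : ∀ g : G, Cfsg.blockCoeff B g⁻¹ = Cfsg.blockCoeff B g)
    (ψ₀ : Cfsg.IrrCharacter G) (hψ₀ : ψ₀ ∈ B)
    (hψ₀odd : ¬ 2 ∣ Cfsg.charDegree (ψ₀ : G → ℂ))
    (hsymm : ∀ h : G, ¬ 2 ∣ orderOf h → Cfsg.MemLocalIdeal M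
      (Cfsg.centralChar (ψ₀ : G → ℂ) h⁻¹ - Cfsg.centralChar (ψ₀ : G → ℂ) h)) :
    B = Cfsg.principalBlock M G := by
  classical
  have : Fact (Nat.Prime 2) := ⟨Nat.prime_two⟩
  let _ : Fintype (Cfsg.IrrCharacter G) := Fintype.ofFinite _
  have hprime := isPrime_of_isPModular hM
  obtain ⟨hloc, hcl, hom⟩ := Cfsg.Agent.Lib.Helper77.blockCoeff_spec hprime B hB
  obtain ⟨hψ1, hψpos, -⟩ := irr_charDegree ψ₀.2
  have hψne : (ψ₀ : G → ℂ) 1 ≠ 0 := by
    rw [hψ1]
    exact_mod_cast hψpos.ne'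
  have hω : ∀ h : G, Even (Subgroup.centralizer ({h} : Set G)).index →
      Cfsg.MemLocalIdeal M (Cfsg.centralChar (ψ₀ : G → ℂ) h) := by
    intro h hev
    by_contra hcon
    apply hψ₀odd
    have h1 := Cfsg.Agent.Lib.Helper77.pow_dvd_charDegree_of_centralChar hM ψ₀ h hcon 1
      (by rw [pow_one]; exact even_iff_two_dvd.mp hev)
    rwa [pow_one] at h1
  have h2M : Cfsg.MemLocalIdeal M (2 : ℂ) := by
    have h1 := (memLocalIdeal_natCast_iff hM 2).mpr (dvd_refl 2)
    exact_mod_cast h1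
  have hsingb : ∀ h : G, 2 ∣ orderOf h → Cfsg.blockCoeff B h = 0 := fun h hh =>
    Cfsg.Agent.Lib.Helper77.blockCoeff_eq_zero_of_singular hM B hB hh
  -- first sum: against `ψ₀`
  have hS1 := sum_erase_one_memLocalIdeal hM
    (fun g => Cfsg.blockCoeff B g * (ψ₀ : G → ℂ) g / (ψ₀ : G → ℂ) 1)
    (fun x h => by
      show Cfsg.blockCoeff B (x * h * x⁻¹) * (ψ₀ : G → ℂ) (x * h * x⁻¹) / (ψ₀ : G → ℂ) 1 =
        Cfsg.blockCoeff B h * (ψ₀ : G → ℂ) h / (ψ₀ : G → ℂ) 1
      rw [hcl h x, irr_conj_eq ψ₀.2])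
    (fun h hh => by
      show Cfsg.blockCoeff B h * (ψ₀ : G → ℂ) h / (ψ₀ : G → ℂ) 1 = 0
      rw [hsingb h hh, zero_mul, zero_div])
    (fun h h1 hodd hr => by
      have hev := even_index_centralizer_of_real hodd h1 hr
      have h3 := memLocalIdeal_mul_left hprime (hloc h) (hω h hev)
      have e : ((Subgroup.centralizer ({h} : Set G)).index : ℂ) *
          (Cfsg.blockCoeff B h * (ψ₀ : G → ℂ) h / (ψ₀ : G → ℂ) 1) =
          Cfsg.blockCoeff B h * Cfsg.centralChar (ψ₀ : G → ℂ) h := by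
        unfold Cfsg.centralChar
        ring
      rw [e]
      exact h3)
    (fun h _ => by
      by_cases h2 : 2 ∣ orderOf h
      · have e : ((Subgroup.centralizer ({h} : Set G)).index : ℂ) *
            (Cfsg.blockCoeff B h * (ψ₀ : G → ℂ) h / (ψ₀ : G → ℂ) 1 +
              Cfsg.blockCoeff B h⁻¹ * (ψ₀ : G → ℂ) h⁻¹ / (ψ₀ : G → ℂ) 1) = 0 := by
          rw [hbinv h, hsingb h h2]
          ring
        rw [e]
        exact memLocalIdeal_zero hprime
      · have hsb := hsymm h h2
        have e : ((Subgroup.centralizer ({h} : Set G)).index : ℂ) *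
            (Cfsg.blockCoeff B h * (ψ₀ : G → ℂ) h / (ψ₀ : G → ℂ) 1 +
              Cfsg.blockCoeff B h⁻¹ * (ψ₀ : G → ℂ) h⁻¹ / (ψ₀ : G → ℂ) 1) =
            Cfsg.blockCoeff B h * (2 * Cfsg.centralChar (ψ₀ : G → ℂ) h +
              (Cfsg.centralChar (ψ₀ : G → ℂ) h⁻¹ -
                Cfsg.centralChar (ψ₀ : G → ℂ) h)) := by
          unfold Cfsg.centralChar
          rw [hbinv h, centralizer_inv_eq h]
          ring
        rw [e]
        refine memLocalIdeal_mul_left hprime (hloc h) (memLocalIdeal_add hprime ?_ hsb)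
        exact memLocalIdeal_mul_right hprime h2M
          (Cfsg.Agent.Lib.Helper16.memLocalRing_centralChar hprime ψ₀ h))
  -- second sum: against the principal character
  have hS2 := sum_erase_one_memLocalIdeal hM (fun g => Cfsg.blockCoeff B g)
    (fun x h => hcl h x)
    (fun h hh => hsingb h hh)
    (fun h h1 hodd hr => by
      have hev := even_index_centralizer_of_real hodd h1 hr
      obtain ⟨k, hk⟩ := even_iff_two_dvd.mp hev
      rw [hk]
      have e : ((2 * k : ℕ) : ℂ) * Cfsg.blockCoeff B h =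
          2 * ((k : ℂ) * Cfsg.blockCoeff B h) := by
        push_cast
        ring
      rw [e]
      exact memLocalIdeal_mul_right hprime h2M
        (memLocalRing_mul hprime (memLocalRing_natCast hprime k) (hloc h)))
    (fun h _ => by
      rw [hbinv h]
      have e : ((Subgroup.centralizer ({h} : Set G)).index : ℂ) *
          (Cfsg.blockCoeff B h + Cfsg.blockCoeff B h) =
          2 * (((Subgroup.centralizer ({h} : Set G)).index : ℂ) * Cfsg.blockCoeff B h) := by
        ring
      rw [e]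
      exact memLocalIdeal_mul_right hprime h2M
        (memLocalRing_mul hprime (memLocalRing_natCast hprime _) (hloc h)))
  -- the two evaluations
  have hev1 : (∑ g : G, Cfsg.blockCoeff B g * (ψ₀ : G → ℂ) g / (ψ₀ : G → ℂ) 1) = 1 := by
    have h1 := hom ψ₀
    unfold Cfsg.Agent.Lib.Helper77.omegaF at h1
    rw [if_pos hψ₀] at h1
    rw [← Finset.sum_div]
    exact h1
  have hev2 : (∑ g : G, Cfsg.blockCoeff B g) =
      if Cfsg.Agent.Lib.Helper77.trivIrr G ∈ B then 1 else 0 := by
    have h1 := hom (Cfsg.Agent.Lib.Helper77.trivIrr G)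
    unfold Cfsg.Agent.Lib.Helper77.omegaF at h1
    simpa [Cfsg.Agent.Lib.Helper77.trivIrr_apply] using h1
  rw [← Finset.add_sum_erase Finset.univ _ (Finset.mem_univ (1 : G))] at hev1 hev2
  have hb1 : Cfsg.blockCoeff B 1 * (ψ₀ : G → ℂ) 1 / (ψ₀ : G → ℂ) 1 = Cfsg.blockCoeff B 1 := by
    field_simp
  rw [hb1] at hev1
  by_cases htriv : Cfsg.Agent.Lib.Helper77.trivIrr G ∈ B
  · rw [Cfsg.Agent.Lib.Helper77.principalBlock_eq]
    exact IsPBlock.eq_blockOf hprime hB htriv
  · exfalso
    rw [if_neg htriv] at hev2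
    apply not_memLocalIdeal_one hprime (M := M)
    have e : (1 : ℂ) = (∑ h ∈ (Finset.univ : Finset G).erase 1,
        Cfsg.blockCoeff B h * (ψ₀ : G → ℂ) h / (ψ₀ : G → ℂ) 1) -
        ∑ h ∈ (Finset.univ : Finset G).erase 1, Cfsg.blockCoeff B h := by
      rw [← hev1]
      linear_combination hev2
    rw [e]
    exact memLocalIdeal_sub hprime hS1 hS2

end Real2

end Cfsg.Agent.Lib.Helper79
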