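import Mathlib
import Cfsg.Prelude.Def_Blocks
import Cfsg.Prelude.Def_BlockRank
import Cfsg.Agent.Lib.Helper16.CentProd
import Cfsg.Agent.Lib.Helper16.PRegular

/-!
# Blocks of `G = P C_G(P)` with defect group `P`: the `C_G(P)`-factors agree on `p`-regular elements
-/

set_option autoImplicit false

namespace Cfsg.Agent.Lib.Helper79

open Cfsg Cfsg.Agent.Lib.Helper16
open scoped ComplexConjugate

section

variable {G : Type*} [Group G] [Fintype G] {M : Ideal Cfsg.AlgInt} {p : ℕ} [Fact p.Prime]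

/-- a nontrivial element of a `p`-group times a commuting `p`-regular element is `p`-singular -/
theorem dvd_orderOf_mul_of_pgroup (P : Subgroup G) (hP : IsPGroup p P) (x : P) (hx : x ≠ 1)
    (c : G) (hc : ¬ p ∣ orderOf c) (hcomm : Commute (x : G) c) : p ∣ orderOf ((x : G) * c) := by
  have hp : p.Prime := Fact.out
  obtain ⟨k, hk⟩ := (IsPGroup.iff_orderOf.mp hP) x
  have hk0 : k ≠ 0 := by
    rintro rfl
    rw [pow_zero, orderOf_eq_one_iff] at hk
    exact hx hk
  have hox : orderOf (x : G) = p ^ k := by rw [Subgroup.orderOf_coe, hk]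
  have hcop : (orderOf (x : G)).Coprime (orderOf c) := by
    rw [hox]
    exact Nat.Coprime.pow_left k ((Nat.Prime.coprime_iff_not_dvd hp).mpr hc)
  rw [hcomm.orderOf_mul_eq_mul_orderOf_of_coprime hcop, hox]
  exact dvd_mul_of_dvd_left (dvd_pow_self p hk0) _

open Classical in
/-- key identity for a block `B` of `G = P C_G(P)` with defect group `P` -/
theorem card_mul_psi_eq_sum (hM : Cfsg.IsPModular p M) (P : Subgroup G) [Fintype P]
    (hP : IsPGroup p P) (hG : P ⊔ Subgroup.centralizer (P : Set G) = ⊤)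
    (B : Set (Cfsg.IrrCharacter G)) (hB : Cfsg.IsPBlock M B) (hD : Cfsg.IsDefectGroup p M B P)
    [Fintype (Cfsg.IrrCharacter G)]
    (lam : Cfsg.IrrCharacter G → Cfsg.IrrCharacter P)
    (psi : Cfsg.IrrCharacter G → Cfsg.IrrCharacter (Subgroup.centralizer (P : Set G)))
    (hspec : ∀ (χ : Cfsg.IrrCharacter G) (x : P) (c : Subgroup.centralizer (P : Set G)),
        (χ : G → ℂ) ((x : G) * (c : G)) = (lam χ : P → ℂ) x * (psi χ : ↥(Subgroup.centralizer (P : Set G)) → ℂ) c)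
    (χ₀ : Cfsg.IrrCharacter G) (hχ₀ : χ₀ ∈ B) (c : Subgroup.centralizer (P : Set G))
    (hc : ¬ p ∣ orderOf (c : G)) :
    (Nat.card P : ℂ) * ((psi χ₀ : ↥(Subgroup.centralizer (P : Set G)) → ℂ) 1 *
        conj ((psi χ₀ : ↥(Subgroup.centralizer (P : Set G)) → ℂ) c)) =
      ∑ χ : Cfsg.IrrCharacter G,
        (if χ ∈ B then (χ : G → ℂ) 1 * conj ((χ : G → ℂ) (c : G)) else 0) := by
  classical
  have hMp := isPrime_of_isPModular hM
  have hp : p.Prime := Fact.out
  have hG0 : (Nat.card G : ℂ) ≠ 0 := by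
    exact_mod_cast Nat.card_pos.ne'
  have hP0 : (Nat.card P : ℂ) ≠ 0 := by
    exact_mod_cast Nat.card_pos.ne'
  have hzero : ∀ x : P, x ≠ 1 → ∑ χ : Cfsg.IrrCharacter G,
      (if χ ∈ B then (χ : G → ℂ) 1 * conj ((χ : G → ℂ) ((x : G) * (c : G))) else 0) = 0 := by
    intro x hx
    have hcomm : Commute (x : G) (c : G) := (Subgroup.mem_centralizer_iff.mp c.2) x x.2
    have hsing := dvd_orderOf_mul_of_pgroup P hP x hx (c : G) hc hcomm
    have h := Cfsg.Agent.Lib.Helper77.blockCoeff_eq_zero_of_singular hM B hB hsing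
    unfold Cfsg.blockCoeff at h
    rw [finsum_mem_eq_sum_ite] at h
    rcases mul_eq_zero.mp h with h | h
    · exact absurd h (inv_ne_zero hG0)
    · exact h
  set lam0 := lam χ₀ with hlam0
  set Q : ℂ := ∑ x : P, (lam0 : P → ℂ) x * ∑ χ : Cfsg.IrrCharacter G,
    (if χ ∈ B then (χ : G → ℂ) 1 * conj ((χ : G → ℂ) ((x : G) * (c : G))) else 0) with hQ
  have hQ1 : Q = (lam0 : P → ℂ) 1 * ∑ χ : Cfsg.IrrCharacter G,
      (if χ ∈ B then (χ : G → ℂ) 1 * conj ((χ : G → ℂ) (c : G)) else 0) := by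
    rw [hQ, Finset.sum_eq_single (1 : P)]
    · simp
    · intro x _ hx
      rw [hzero x hx, mul_zero]
    · intro h
      exact absurd (Finset.mem_univ _) h
  have hl1 : (lam0 : P → ℂ) 1 ≠ 0 := irr_one_ne_zero lam0.2
  have hχ₀1 : (χ₀ : G → ℂ) 1 = (lam0 : P → ℂ) 1 *
      (psi χ₀ : ↥(Subgroup.centralizer (P : Set G)) → ℂ) 1 := by
    have := hspec χ₀ 1 1
    simpa using this
  have hQ2 : Q = (Nat.card P : ℂ) * ((χ₀ : G → ℂ) 1 *
      conj ((psi χ₀ : ↥(Subgroup.centralizer (P : Set G)) → ℂ) c)) := by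
    rw [hQ]
    simp_rw [Finset.mul_sum]
    rw [Finset.sum_comm]
    rw [Finset.sum_eq_single χ₀]
    · simp only [if_pos hχ₀]
      have h1 : ∀ x : P, (lam0 : P → ℂ) x * ((χ₀ : G → ℂ) 1 * conj ((χ₀ : G → ℂ) ((x : G) * (c : G)))) =
          ((χ₀ : G → ℂ) 1 * conj ((psi χ₀ : ↥(Subgroup.centralizer (P : Set G)) → ℂ) c)) *
            ((lam0 : P → ℂ) x * conj ((lam0 : P → ℂ) x)) := by
        intro x
        rw [hspec χ₀ x c, map_mul]
        ring
      rw [Finset.sum_congr rfl (fun x _ => h1 x), ← Finset.mul_sum]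
      have h2 := Cfsg.Agent.Lib.Helper80.classInner_irr lam0 lam0
      rw [if_pos rfl] at h2
      unfold Cfsg.classInner at h2
      have h3 : ∑ x : P, (lam0 : P → ℂ) x * conj ((lam0 : P → ℂ) x) = (Nat.card P : ℂ) := by
        have h4 : (Nat.card P : ℂ) * ((Nat.card P : ℂ)⁻¹ *
            ∑ x : P, (lam0 : P → ℂ) x * conj ((lam0 : P → ℂ) x)) = (Nat.card P : ℂ) * 1 := by
          rw [← h2]
        rw [← mul_assoc, mul_inv_cancel₀ hP0, one_mul, mul_one] at h4
        exact h4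
      rw [h3]
      ring
    · intro χ _ hne
      by_cases hχ : χ ∈ B
      · simp only [if_pos hχ]
        have h1 : ∀ x : P, (lam0 : P → ℂ) x * ((χ : G → ℂ) 1 * conj ((χ : G → ℂ) ((x : G) * (c : G)))) =
            ((χ : G → ℂ) 1 * conj ((psi χ : ↥(Subgroup.centralizer (P : Set G)) → ℂ) c)) *
              ((lam0 : P → ℂ) x * conj ((lam χ : P → ℂ) x)) := by
          intro x
          rw [hspec χ x c, map_mul]
          ring
        rw [Finset.sum_congr rfl (fun x _ => h1 x), ← Finset.mul_sum]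
        have hne' : lam0 ≠ lam χ := by
          intro h
          apply hne
          exact eq_of_lam_eq hM P hP hG B hB hD χ χ₀ hχ hχ₀ (lam χ) (psi χ) (psi χ₀) (hspec χ)
            (by rw [← h]; exact hspec χ₀)
        have h2 := Cfsg.Agent.Lib.Helper80.classInner_irr lam0 (lam χ)
        rw [if_neg hne'] at h2
        unfold Cfsg.classInner at h2
        rcases mul_eq_zero.mp h2 with h | h
        · exact absurd h (inv_ne_zero hP0)
        · rw [h, mul_zero]
      · simp [hχ]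
    · intro h
      exact absurd (Finset.mem_univ _) h
  rw [hQ1, hχ₀1] at hQ2
  have h5 : (lam0 : P → ℂ) 1 * ∑ χ : Cfsg.IrrCharacter G,
      (if χ ∈ B then (χ : G → ℂ) 1 * conj ((χ : G → ℂ) (c : G)) else 0) =
      (lam0 : P → ℂ) 1 * ((Nat.card P : ℂ) * ((psi χ₀ : ↥(Subgroup.centralizer (P : Set G)) → ℂ) 1 *
        conj ((psi χ₀ : ↥(Subgroup.centralizer (P : Set G)) → ℂ) c))) := by
    rw [hQ2]; ring
  exact (mul_left_cancel₀ hl1 h5).symm

/-- in a block `B` of `G = P C_G(P)` with defect group `P`, the `C_G(P)`-factors of any two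
members agree on the `p`-regular elements -/
theorem psi_eq_of_pRegular (hM : Cfsg.IsPModular p M) (P : Subgroup G) [Fintype P]
    (hP : IsPGroup p P) (hG : P ⊔ Subgroup.centralizer (P : Set G) = ⊤)
    (B : Set (Cfsg.IrrCharacter G)) (hB : Cfsg.IsPBlock M B) (hD : Cfsg.IsDefectGroup p M B P)
    (lam : Cfsg.IrrCharacter G → Cfsg.IrrCharacter P)
    (psi : Cfsg.IrrCharacter G → Cfsg.IrrCharacter (Subgroup.centralizer (P : Set G)))
    (hspec : ∀ (χ : Cfsg.IrrCharacter G) (x : P) (c : Subgroup.centralizer (P : Set G)),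
        (χ : G → ℂ) ((x : G) * (c : G)) = (lam χ : P → ℂ) x * (psi χ : ↥(Subgroup.centralizer (P : Set G)) → ℂ) c)
    (χ₁ χ₂ : Cfsg.IrrCharacter G) (h₁ : χ₁ ∈ B) (h₂ : χ₂ ∈ B)
    (c : Subgroup.centralizer (P : Set G)) (hc : ¬ p ∣ orderOf (c : G)) :
    (psi χ₁ : ↥(Subgroup.centralizer (P : Set G)) → ℂ) c =
      (psi χ₂ : ↥(Subgroup.centralizer (P : Set G)) → ℂ) c := by
  classical
  have hp : p.Prime := Fact.out
  have : Finite (Cfsg.IrrCharacter G) := Cfsg.Agent.Lib.Helper77.irr_finite G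
  have : Fintype (Cfsg.IrrCharacter G) := Fintype.ofFinite _
  have hP0 : (Nat.card P : ℂ) ≠ 0 := by
    exact_mod_cast Nat.card_pos.ne'
  have h1reg : ¬ p ∣ orderOf (((1 : Subgroup.centralizer (P : Set G)) : G)) := by
    rw [OneMemClass.coe_one, orderOf_one]
    exact fun h => hp.one_lt.ne' (Nat.dvd_one.mp h)
  have key : ∀ c' : Subgroup.centralizer (P : Set G), ¬ p ∣ orderOf (c' : G) →
      (psi χ₁ : ↥(Subgroup.centralizer (P : Set G)) → ℂ) 1 *
        conj ((psi χ₁ : ↥(Subgroup.centralizer (P : Set G)) → ℂ) c') =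
      (psi χ₂ : ↥(Subgroup.centralizer (P : Set G)) → ℂ) 1 *
        conj ((psi χ₂ : ↥(Subgroup.centralizer (P : Set G)) → ℂ) c') := by
    intro c' hc'
    have e1 := card_mul_psi_eq_sum hM P hP hG B hB hD lam psi hspec χ₁ h₁ c' hc'
    have e2 := card_mul_psi_eq_sum hM P hP hG B hB hD lam psi hspec χ₂ h₂ c' hc'
    exact mul_left_cancel₀ hP0 (e1.trans e2.symm)
  obtain ⟨hd1, hpos1, -⟩ := Cfsg.Agent.Lib.Helper79.irr_charDegree (psi χ₁).2
  obtain ⟨hd2, hpos2, -⟩ := Cfsg.Agent.Lib.Helper79.irr_charDegree (psi χ₂).2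
  have k1 := key 1 h1reg
  rw [hd1, hd2, Complex.conj_natCast, Complex.conj_natCast] at k1
  have hdeg : Cfsg.charDegree (psi χ₁ : ↥(Subgroup.centralizer (P : Set G)) → ℂ) =
      Cfsg.charDegree (psi χ₂ : ↥(Subgroup.centralizer (P : Set G)) → ℂ) := by
    have k2 : Cfsg.charDegree (psi χ₁ : ↥(Subgroup.centralizer (P : Set G)) → ℂ) *
        Cfsg.charDegree (psi χ₁ : ↥(Subgroup.centralizer (P : Set G)) → ℂ) =
        Cfsg.charDegree (psi χ₂ : ↥(Subgroup.centralizer (P : Set G)) → ℂ) *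
        Cfsg.charDegree (psi χ₂ : ↥(Subgroup.centralizer (P : Set G)) → ℂ) := by
      exact_mod_cast k1
    exact Nat.mul_self_inj.mp k2
  have k3 := key c hc
  rw [hd1, hd2, hdeg] at k3
  have hd0 : ((Cfsg.charDegree (psi χ₂ : ↥(Subgroup.centralizer (P : Set G)) → ℂ) : ℕ) : ℂ) ≠ 0 := by
    exact_mod_cast hpos2.ne'
  have k4 := mul_left_cancel₀ hd0 k3
  have k5 := congrArg (starRingEnd ℂ) k4
  simpa using k5

end

end Cfsg.Agent.Lib.Helper79
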