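import Mathlib

set_option autoImplicit false

namespace Cfsg.Agent.Lib.Helper79.ClassProd

open Matrix

set_option linter.unusedSectionVars false

variable {F : Type*} [Field F] {n : Type*} [Fintype n] [DecidableEq n]

/-- trace of `v φᵀ M`. -/
theorem trace_vmv_mul (v φ : n → F) (M : Matrix n n F) :
    (vecMulVec v φ * M).trace = φ ⬝ᵥ (M *ᵥ v) := by
  rw [vecMulVec_mul, trace_vecMulVec, dotProduct_comm, dotProduct_mulVec]

/-- The trace of a transvection conjugate of `A` times `B`. -/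
theorem trace_tv (A B : Matrix n n F) (v φ : n → F) :
    ((1 + vecMulVec v φ) * A * (1 - vecMulVec v φ) * B).trace
      = (A * B).trace + φ ⬝ᵥ ((A * B) *ᵥ v) - φ ⬝ᵥ ((B * A) *ᵥ v)
        - (φ ⬝ᵥ (A *ᵥ v)) * (φ ⬝ᵥ (B *ᵥ v)) := by
  have e : (1 + vecMulVec v φ) * A * (1 - vecMulVec v φ) * B
      = A * B + vecMulVec v φ * (A * B) - A * (vecMulVec v φ * B)
        - vecMulVec v φ * (A * (vecMulVec v φ * B)) := by
    noncomm_ring
  rw [e, trace_sub, trace_sub, trace_add, trace_vmv_mul]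
  have e2 : (A * (vecMulVec v φ * B)).trace = φ ⬝ᵥ ((B * A) *ᵥ v) := by
    rw [trace_mul_comm, Matrix.mul_assoc, trace_vmv_mul]
  have e3 : (vecMulVec v φ * (A * (vecMulVec v φ * B))).trace
      = (φ ⬝ᵥ (A *ᵥ v)) * (φ ⬝ᵥ (B *ᵥ v)) := by
    rw [trace_vmv_mul, ← Matrix.mul_assoc, mul_vecMulVec, vecMulVec_mul, vecMulVec_mulVec]
    rw [dotProduct_smul]
    simp only [MulOpposite.smul_eq_mul_unop, MulOpposite.unop_op]
    rw [dotProduct_mulVec φ B v, dotProduct_mulVec φ A v]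
  rw [e2, e3]

/-- Values of the trace on a transvection family: every value is attained. -/
theorem core_values (A B : Matrix n n F) (v w e2 e3 : n → F)
    (hBv : B *ᵥ v = w)
    (h2v : e2 ⬝ᵥ v = 0) (h3v : e3 ⬝ᵥ v = 0)
    (h2a : e2 ⬝ᵥ (A *ᵥ v) = 1) (h3a : e3 ⬝ᵥ (A *ᵥ v) = 0)
    (h2w : e2 ⬝ᵥ w = 0) (h3w : e3 ⬝ᵥ w = 1) (y : F) :
    ∃ φ : n → F, φ ⬝ᵥ v = 0 ∧
      ((1 + vecMulVec v φ) * A * (1 - vecMulVec v φ) * B).trace = y := by
  set c2 : F := e2 ⬝ᵥ ((A * B) *ᵥ v) - e2 ⬝ᵥ ((B * A) *ᵥ v) with hc2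
  set c3 : F := e3 ⬝ᵥ ((A * B) *ᵥ v) - e3 ⬝ᵥ ((B * A) *ᵥ v) with hc3
  set τ : F := (A * B).trace with hτ
  set r : F := c2 + 1 with hr
  set s : F := τ + c2 * c3 + c3 - y with hs
  refine ⟨s • e2 + r • e3, ?_, ?_⟩
  · rw [add_dotProduct, smul_dotProduct, smul_dotProduct, h2v, h3v]; simp
  · rw [trace_tv]
    simp only [add_dotProduct, smul_dotProduct, hBv, h2a, h3a, h2w, h3w, smul_eq_mul]
    rw [← hτ]
    have e1 : s * e2 ⬝ᵥ ((A * B) *ᵥ v) + r * e3 ⬝ᵥ ((A * B) *ᵥ v)
        - (s * e2 ⬝ᵥ ((B * A) *ᵥ v) + r * e3 ⬝ᵥ ((B * A) *ᵥ v)) = s * c2 + r * c3 := by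
      rw [hc2, hc3]; ring
    linear_combination e1

/-- A functional (as a vector) vanishing on a subspace and equal to `1` at a point outside. -/
theorem exists_dual_vec (p : Submodule F (n → F)) (x : n → F) (hx : x ∉ p) :
    ∃ e : n → F, (∀ y ∈ p, e ⬝ᵥ y = 0) ∧ e ⬝ᵥ x = 1 := by
  obtain ⟨f, hf, hp⟩ := Submodule.exists_dual_map_eq_bot_of_notMem hx inferInstance
  have key : ∀ y : n → F,
      (fun i => (f x)⁻¹ * f (fun j => if i = j then 1 else 0)) ⬝ᵥ y = (f x)⁻¹ * f y := by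
    intro y
    rw [LinearMap.pi_apply_eq_sum_univ f y, dotProduct, Finset.mul_sum]
    refine Finset.sum_congr rfl fun i _ => ?_
    rw [smul_eq_mul]; ring
  refine ⟨fun i => (f x)⁻¹ * f (fun j => if i = j then 1 else 0), ?_, ?_⟩
  · intro y hy
    rw [key]
    have h0 : f y ∈ Submodule.map f p := Submodule.mem_map_of_mem hy
    rw [hp, Submodule.mem_bot] at h0
    rw [h0, mul_zero]
  · rw [key, inv_mul_cancel₀ hf]

/-- Two non-proportional vectors are linearly independent. -/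
theorem li_pair (x y : n → F) (hx : x ≠ 0) (h : ∀ c : F, y ≠ c • x) :
    LinearIndependent F ![x, y] := by
  rw [LinearIndependent.pair_iff]
  intro s t hst
  have ht : t = 0 := by
    by_contra ht
    apply h (-(t⁻¹ * s))
    have h2 : t • y = -(s • x) := eq_neg_of_add_eq_zero_right hst
    calc y = t⁻¹ • t • y := by rw [smul_smul, inv_mul_cancel₀ ht, one_smul]
      _ = (-(t⁻¹ * s)) • x := by rw [h2, smul_neg, smul_smul, neg_smul]
  subst ht
  rw [zero_smul, add_zero] at hst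
  rcases smul_eq_zero.mp hst with h0 | h0
  · exact ⟨h0, rfl⟩
  · exact absurd h0 hx

/-- An invertible matrix with prescribed images of an independent pair. -/
theorem exists_gl_map (x y v w : n → F)
    (h1 : LinearIndependent F ![x, y]) (h2 : LinearIndependent F ![v, w]) :
    ∃ M : Matrix n n F, M.det ≠ 0 ∧ M *ᵥ x = v ∧ M *ᵥ y = w := by
  let b1 := Module.Basis.span h1
  let b2 := Module.Basis.span h2
  let f := b1.equiv b2 (Equiv.refl _)
  obtain ⟨g, hg⟩ := Submodule.exists_linearEquiv_restrict_eq f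
  refine ⟨LinearMap.toMatrix' (g : (n → F) →ₗ[F] (n → F)), ?_, ?_, ?_⟩
  · rw [LinearMap.det_toMatrix']
    exact (LinearEquiv.isUnit_det' g).ne_zero
  · rw [LinearMap.toMatrix'_mulVec]
    have e := hg (b1 0)
    rw [Module.Basis.equiv_apply] at e
    have e1 : ((b1 0 : Submodule.span F (Set.range ![x, y])) : n → F) = x := by
      rw [Module.Basis.span_apply]; rfl
    have e2 : ((b2 ((Equiv.refl (Fin 2)) 0) : Submodule.span F (Set.range ![v, w])) : n → F) = v := by
      rw [Module.Basis.span_apply]; rfl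
    rw [e1, e2] at e
    exact e.symm
  · rw [LinearMap.toMatrix'_mulVec]
    have e := hg (b1 1)
    rw [Module.Basis.equiv_apply] at e
    have e1 : ((b1 1 : Submodule.span F (Set.range ![x, y])) : n → F) = y := by
      rw [Module.Basis.span_apply]; rfl
    have e2 : ((b2 ((Equiv.refl (Fin 2)) 1) : Submodule.span F (Set.range ![v, w])) : n → F) = w := by
      rw [Module.Basis.span_apply]; rfl
    rw [e1, e2] at e
    exact e.symm

/-- A vector outside the span of two vectors, in dimension at least three. -/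
theorem exists_not_mem_span_pair {k : ℕ} (v u : Fin (k + 3) → F) :
    ∃ w : Fin (k + 3) → F, w ∉ Submodule.span F ({v, u} : Set (Fin (k + 3) → F)) := by
  classical
  by_contra hcon
  push Not at hcon
  have htop : Submodule.span F ({v, u} : Set (Fin (k + 3) → F)) = ⊤ :=
    Submodule.eq_top_iff'.mpr hcon
  have h1 : Module.finrank F (Submodule.span F ({v, u} : Set (Fin (k + 3) → F))) ≤ 2 := by
    have h3 := finrank_span_finset_le_card (R := F) ({v, u} : Finset (Fin (k + 3) → F))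
    have h2 : ({v, u} : Finset (Fin (k + 3) → F)).card ≤ 2 := Finset.card_le_two
    have e : ((({v, u} : Finset (Fin (k + 3) → F)) : Set (Fin (k + 3) → F))) = {v, u} := by
      simp
    rw [e] at h3
    exact h3.trans h2
  rw [htop, finrank_top, Module.finrank_fin_fun] at h1
  omega

/-- A non-central element of `SL` has a vector that is not an eigenvector. -/
theorem exists_notEig {k : ℕ} (A : Matrix.SpecialLinearGroup (Fin (k + 3)) F)
    (hA : A ∉ Subgroup.center (Matrix.SpecialLinearGroup (Fin (k + 3)) F)) :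
    ∃ v : Fin (k + 3) → F, ∀ c : F, (A : Matrix (Fin (k + 3)) (Fin (k + 3)) F) *ᵥ v ≠ c • v := by
  by_contra hcon
  push Not at hcon
  apply hA
  rw [Matrix.SpecialLinearGroup.mem_center_iff]
  choose c hc using fun i : Fin (k + 3) => hcon (Pi.single i 1)
  have hent : ∀ i j, (A : Matrix (Fin (k + 3)) (Fin (k + 3)) F) j i = if j = i then c i else 0 := by
    intro i j
    have h := congrFun (hc i) j
    rw [Matrix.mulVec_single_one] at h
    rw [show (A : Matrix (Fin (k + 3)) (Fin (k + 3)) F) j i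
        = ((A : Matrix (Fin (k + 3)) (Fin (k + 3)) F).col i) j from rfl, h]
    simp [Pi.single_apply]
  have hceq : ∀ i j, c i = c j := by
    intro i j
    by_cases hij : i = j
    · rw [hij]
    obtain ⟨c', hc'⟩ := hcon (Pi.single i 1 + Pi.single j 1)
    have h1 := congrFun hc' i
    have h2 := congrFun hc' j
    rw [Matrix.mulVec_add, Matrix.mulVec_single_one, Matrix.mulVec_single_one] at h1 h2
    simp only [Pi.add_apply, Matrix.col_apply, hent, Pi.smul_apply, Pi.single_apply, smul_eq_mul,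
      if_true] at h1 h2
    have hji : j ≠ i := fun h => hij h.symm
    simp only [if_neg hij, if_neg hji, add_zero, zero_add, mul_one] at h1 h2
    rw [h1, h2]
  have hscal : (Matrix.scalar (Fin (k + 3)) (c 0) : Matrix (Fin (k + 3)) (Fin (k + 3)) F)
      = (A : Matrix (Fin (k + 3)) (Fin (k + 3)) F) := by
    ext i j
    rw [hent j i, Matrix.scalar_apply, Matrix.diagonal_apply, hceq j 0]
  refine ⟨c 0, ?_, hscal⟩
  have hdet := A.det_coe
  rw [← hscal, Matrix.scalar_apply, Matrix.det_diagonal, Finset.prod_const, Finset.card_univ] at hdet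
  exact hdet

/-- Determinant of `1 + u εᵀ`. -/
theorem det_one_add_vmv (u e : n → F) : (1 + vecMulVec u e).det = 1 + e ⬝ᵥ u := by
  rw [vecMulVec_eq Unit, det_one_add_replicateCol_mul_replicateRow]

/-- The transvection `1 + v φᵀ` as an element of `SL`. -/
noncomputable def tvSL (v φ : n → F) (h : φ ⬝ᵥ v = 0) : Matrix.SpecialLinearGroup n F :=
  ⟨1 + vecMulVec v φ, by rw [det_one_add_vmv, h, add_zero]⟩

theorem tvSL_val (v φ : n → F) (h : φ ⬝ᵥ v = 0) :
    ((tvSL v φ h : Matrix.SpecialLinearGroup n F) : Matrix n n F) = 1 + vecMulVec v φ := rfl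

theorem tvSL_inv_val (v φ : n → F) (h : φ ⬝ᵥ v = 0) :
    (((tvSL v φ h)⁻¹ : Matrix.SpecialLinearGroup n F) : Matrix n n F) = 1 - vecMulVec v φ := by
  have hneg : (-φ) ⬝ᵥ v = 0 := by rw [neg_dotProduct, h, neg_zero]
  have e : (tvSL v φ h)⁻¹ = tvSL v (-φ) hneg := by
    symm
    apply eq_inv_of_mul_eq_one_right
    apply Subtype.ext
    rw [Matrix.SpecialLinearGroup.coe_mul, tvSL_val, tvSL_val, Matrix.SpecialLinearGroup.coe_one]
    have e2 : vecMulVec v φ * vecMulVec v (-φ) = 0 := by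
      rw [vecMulVec_mul_vecMulVec, h, zero_smul]
      ext i j; simp [vecMulVec_apply]
    have e3 : vecMulVec v (-φ) = -vecMulVec v φ := by
      ext i j; simp [vecMulVec_apply]
    calc (1 + vecMulVec v φ) * (1 + vecMulVec v (-φ))
        = 1 + vecMulVec v φ + vecMulVec v (-φ) + vecMulVec v φ * vecMulVec v (-φ) := by
          noncomm_ring
      _ = 1 := by rw [e2, e3]; abel
  rw [e, tvSL_val]
  have e3 : vecMulVec v (-φ) = -vecMulVec v φ := by
    ext i j; simp [vecMulVec_apply]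
  rw [e3, sub_eq_add_neg]

/-- The configuration: a conjugate `B'` of `B` and a vector `v` with `v, A v, B' v` independent,
together with dual functionals. -/
theorem exists_config {k : ℕ} (A B : Matrix.SpecialLinearGroup (Fin (k + 3)) F)
    (hA : A ∉ Subgroup.center (Matrix.SpecialLinearGroup (Fin (k + 3)) F))
    (hB : B ∉ Subgroup.center (Matrix.SpecialLinearGroup (Fin (k + 3)) F)) :
    ∃ (S : Matrix.SpecialLinearGroup (Fin (k + 3)) F) (v w e2 e3 : Fin (k + 3) → F),
      ((S * B * S⁻¹ : Matrix.SpecialLinearGroup (Fin (k + 3)) F) : Matrix (Fin (k + 3)) (Fin (k + 3)) F) *ᵥ v = w ∧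
      e2 ⬝ᵥ v = 0 ∧ e3 ⬝ᵥ v = 0 ∧
      e2 ⬝ᵥ ((A : Matrix (Fin (k + 3)) (Fin (k + 3)) F) *ᵥ v) = 1 ∧
      e3 ⬝ᵥ ((A : Matrix (Fin (k + 3)) (Fin (k + 3)) F) *ᵥ v) = 0 ∧
      e2 ⬝ᵥ w = 0 ∧ e3 ⬝ᵥ w = 1 := by
  obtain ⟨v, hv⟩ := exists_notEig A hA
  obtain ⟨x, hx⟩ := exists_notEig B hB
  have hv0 : v ≠ 0 := by
    intro h; apply hv 0; rw [h, Matrix.mulVec_zero, smul_zero]
  have hx0 : x ≠ 0 := by
    intro h; apply hx 0; rw [h, Matrix.mulVec_zero, smul_zero]
  set u : Fin (k + 3) → F := (A : Matrix (Fin (k + 3)) (Fin (k + 3)) F) *ᵥ v with hu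
  set y : Fin (k + 3) → F := (B : Matrix (Fin (k + 3)) (Fin (k + 3)) F) *ᵥ x with hy
  -- first functional
  have hu1 : u ∉ Submodule.span F ({v} : Set (Fin (k + 3) → F)) := by
    intro h
    obtain ⟨c, hc⟩ := Submodule.mem_span_singleton.mp h
    exact hv c hc.symm
  obtain ⟨e2', he2'p, he2'u⟩ := exists_dual_vec _ u hu1
  have he2'v : e2' ⬝ᵥ v = 0 := he2'p v (Submodule.mem_span_singleton_self v)
  -- the third vector
  obtain ⟨w, hw⟩ := exists_not_mem_span_pair v u
  obtain ⟨e3, he3p, he3w⟩ := exists_dual_vec _ w hw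
  have he3v : e3 ⬝ᵥ v = 0 := he3p v (Submodule.subset_span (by simp))
  have he3u : e3 ⬝ᵥ u = 0 := he3p u (Submodule.subset_span (by simp))
  -- corrected second functional
  set e2 : Fin (k + 3) → F := e2' - (e2' ⬝ᵥ w) • e3 with he2
  have he2v : e2 ⬝ᵥ v = 0 := by
    rw [he2, sub_dotProduct, smul_dotProduct, he2'v, he3v]; simp
  have he2u : e2 ⬝ᵥ u = 1 := by
    rw [he2, sub_dotProduct, smul_dotProduct, he2'u, he3u]; simp
  have he2w : e2 ⬝ᵥ w = 0 := by
    rw [he2, sub_dotProduct, smul_dotProduct, he3w]; simp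
  -- the change of basis
  have hwv : ∀ c : F, w ≠ c • v := by
    intro c h
    apply hw
    rw [h]
    exact Submodule.smul_mem _ c (Submodule.subset_span (by simp))
  obtain ⟨M, hMdet, hMx, hMy⟩ := exists_gl_map x y v w (li_pair x y hx0 hx) (li_pair v w hv0 hwv)
  -- determinant correction
  set cc : F := M.det⁻¹ - 1 with hcc
  set D : Matrix (Fin (k + 3)) (Fin (k + 3)) F := 1 + vecMulVec (cc • u) e2 with hD
  have hDdet : D.det = M.det⁻¹ := by
    rw [hD, det_one_add_vmv, dotProduct_smul, he2u, hcc]; simp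
  have hDv : D *ᵥ v = v := by
    rw [hD, Matrix.add_mulVec, Matrix.one_mulVec, vecMulVec_mulVec, he2v]; simp
  have hDw : D *ᵥ w = w := by
    rw [hD, Matrix.add_mulVec, Matrix.one_mulVec, vecMulVec_mulVec, he2w]; simp
  have hSdet : (D * M).det = 1 := by
    rw [Matrix.det_mul, hDdet, inv_mul_cancel₀ hMdet]
  set S : Matrix.SpecialLinearGroup (Fin (k + 3)) F := ⟨D * M, hSdet⟩ with hS
  have hSx : (S : Matrix (Fin (k + 3)) (Fin (k + 3)) F) *ᵥ x = v := by
    show (D * M) *ᵥ x = v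
    rw [← Matrix.mulVec_mulVec, hMx, hDv]
  have hSy : (S : Matrix (Fin (k + 3)) (Fin (k + 3)) F) *ᵥ y = w := by
    show (D * M) *ᵥ y = w
    rw [← Matrix.mulVec_mulVec, hMy, hDw]
  have hSinv : ((S⁻¹ : Matrix.SpecialLinearGroup (Fin (k + 3)) F) : Matrix (Fin (k + 3)) (Fin (k + 3)) F) *ᵥ v = x := by
    rw [← hSx, Matrix.mulVec_mulVec, ← Matrix.SpecialLinearGroup.coe_mul, inv_mul_cancel,
      Matrix.SpecialLinearGroup.coe_one, Matrix.one_mulVec]
  refine ⟨S, v, w, e2, e3, ?_, he2v, he3v, he2u, he3u, he2w, he3w⟩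
  rw [Matrix.SpecialLinearGroup.coe_mul, Matrix.SpecialLinearGroup.coe_mul, ← Matrix.mulVec_mulVec,
    ← Matrix.mulVec_mulVec, hSinv, ← hy, hSy]

/-- Among the products of a conjugate of `A` with a conjugate of `B` there are elements of zero trace
and elements of non-zero trace. -/
theorem exists_trace_split {k : ℕ} (A B : Matrix.SpecialLinearGroup (Fin (k + 3)) F)
    (hA : A ∉ Subgroup.center (Matrix.SpecialLinearGroup (Fin (k + 3)) F))
    (hB : B ∉ Subgroup.center (Matrix.SpecialLinearGroup (Fin (k + 3)) F)) :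
    ∃ S g : Matrix.SpecialLinearGroup (Fin (k + 3)) F,
      ¬ (((A * (S * B * S⁻¹) : Matrix.SpecialLinearGroup (Fin (k + 3)) F) :
            Matrix (Fin (k + 3)) (Fin (k + 3)) F).trace = 0 ↔
          ((g * A * g⁻¹ * (S * B * S⁻¹) : Matrix.SpecialLinearGroup (Fin (k + 3)) F) :
            Matrix (Fin (k + 3)) (Fin (k + 3)) F).trace = 0) := by
  classical
  obtain ⟨S, v, w, e2, e3, hBv, h2v, h3v, h2a, h3a, h2w, h3w⟩ := exists_config A B hA hB
  set B' : Matrix.SpecialLinearGroup (Fin (k + 3)) F := S * B * S⁻¹ with hB'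
  set τ : F := ((A * B' : Matrix.SpecialLinearGroup (Fin (k + 3)) F) :
      Matrix (Fin (k + 3)) (Fin (k + 3)) F).trace with hτ
  obtain ⟨φ, hφv, hφ⟩ := core_values (A : Matrix (Fin (k + 3)) (Fin (k + 3)) F)
    (B' : Matrix (Fin (k + 3)) (Fin (k + 3)) F) v w e2 e3 hBv h2v h3v h2a h3a h2w h3w
    (if τ = 0 then 1 else 0)
  refine ⟨S, tvSL v φ hφv, ?_⟩
  have e : ((tvSL v φ hφv * A * (tvSL v φ hφv)⁻¹ * B' : Matrix.SpecialLinearGroup (Fin (k + 3)) F) :
      Matrix (Fin (k + 3)) (Fin (k + 3)) F).trace = if τ = 0 then 1 else 0 := by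
    rw [Matrix.SpecialLinearGroup.coe_mul, Matrix.SpecialLinearGroup.coe_mul, Matrix.SpecialLinearGroup.coe_mul,
      tvSL_val, tvSL_inv_val, hφ]
  rw [e]
  by_cases h0 : τ = 0
  · rw [if_pos h0]
    intro h
    exact one_ne_zero (h.mp h0)
  · rw [if_neg h0]
    intro h
    exact h0 (h.mpr rfl)

/-- Conjugate elements of `PSL` have lifts whose traces vanish simultaneously. -/
theorem trace_zero_iff_of_isConj {k : ℕ} (X Y : Matrix.SpecialLinearGroup (Fin (k + 3)) F)
    (h : IsConj (QuotientGroup.mk X : Matrix.ProjectiveSpecialLinearGroup (Fin (k + 3)) F)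
      (QuotientGroup.mk Y)) :
    (X : Matrix (Fin (k + 3)) (Fin (k + 3)) F).trace = 0 ↔
      (Y : Matrix (Fin (k + 3)) (Fin (k + 3)) F).trace = 0 := by
  obtain ⟨c, hc⟩ := isConj_iff.mp h
  obtain ⟨P, rfl⟩ := QuotientGroup.mk_surjective c
  have hc' : (QuotientGroup.mk (P * X * P⁻¹) : Matrix.ProjectiveSpecialLinearGroup (Fin (k + 3)) F)
      = QuotientGroup.mk Y := hc
  rw [QuotientGroup.eq, Matrix.SpecialLinearGroup.mem_center_iff] at hc'
  obtain ⟨r, hr, hrs⟩ := hc'
  have hr0 : r ≠ 0 := by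
    intro h0
    rw [h0, Fintype.card_fin, zero_pow (by omega)] at hr
    exact zero_ne_one hr
  have hY : (Y : Matrix (Fin (k + 3)) (Fin (k + 3)) F)
      = (P * X * P⁻¹ : Matrix.SpecialLinearGroup (Fin (k + 3)) F) * Matrix.scalar (Fin (k + 3)) r := by
    rw [hrs, ← Matrix.SpecialLinearGroup.coe_mul, mul_inv_cancel_left]
  have htr : (Y : Matrix (Fin (k + 3)) (Fin (k + 3)) F).trace
      = r * (X : Matrix (Fin (k + 3)) (Fin (k + 3)) F).trace := by
    rw [hY, Matrix.SpecialLinearGroup.coe_mul, Matrix.SpecialLinearGroup.coe_mul]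
    have e1 : ((P : Matrix (Fin (k + 3)) (Fin (k + 3)) F) * X * (P⁻¹ : Matrix.SpecialLinearGroup (Fin (k + 3)) F))
        * Matrix.scalar (Fin (k + 3)) r
        = r • ((P : Matrix (Fin (k + 3)) (Fin (k + 3)) F) * X * (P⁻¹ : Matrix.SpecialLinearGroup (Fin (k + 3)) F)) := by
      rw [Matrix.scalar_apply, ← Matrix.smul_eq_mul_diagonal]
    rw [e1, Matrix.trace_smul, smul_eq_mul, Matrix.trace_mul_comm, ← Matrix.mul_assoc,
      ← Matrix.SpecialLinearGroup.coe_mul, inv_mul_cancel, Matrix.SpecialLinearGroup.coe_one, Matrix.one_mul]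
  rw [htr]
  constructor
  · intro h; rw [h, mul_zero]
  · intro h
    rcases mul_eq_zero.mp h with h1 | h1
    · exact absurd h1 hr0
    · exact h1

/-- The product of two non-trivial classes of `PSL_d`, `d ≥ 3`, is not a single class. -/
theorem psl_main {k : ℕ} (a b : Matrix.ProjectiveSpecialLinearGroup (Fin (k + 3)) F) (ha : a ≠ 1)
    (hb : b ≠ 1) :
    ∃ g h : Matrix.ProjectiveSpecialLinearGroup (Fin (k + 3)) F,
      ¬ IsConj (a * b) (g * a * g⁻¹ * (h * b * h⁻¹)) := by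
  obtain ⟨A, rfl⟩ := QuotientGroup.mk_surjective a
  obtain ⟨B, rfl⟩ := QuotientGroup.mk_surjective b
  have hA : A ∉ Subgroup.center (Matrix.SpecialLinearGroup (Fin (k + 3)) F) :=
    fun h => ha ((QuotientGroup.eq_one_iff A).mpr h)
  have hB : B ∉ Subgroup.center (Matrix.SpecialLinearGroup (Fin (k + 3)) F) :=
    fun h => hb ((QuotientGroup.eq_one_iff B).mpr h)
  obtain ⟨S, g, hsg⟩ := exists_trace_split A B hA hB
  by_contra hcon
  push Not at hcon
  have h1 := hcon 1 (QuotientGroup.mk S)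
  have h2 := hcon (QuotientGroup.mk g) (QuotientGroup.mk S)
  rw [one_mul, inv_one, mul_one] at h1
  have h3 : IsConj
      (QuotientGroup.mk (A * (S * B * S⁻¹)) : Matrix.ProjectiveSpecialLinearGroup (Fin (k + 3)) F)
      (QuotientGroup.mk (g * A * g⁻¹ * (S * B * S⁻¹))) := h1.symm.trans h2
  exact hsg (trace_zero_iff_of_isConj _ _ h3)

end Cfsg.Agent.Lib.Helper79.ClassProd
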