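import Mathlib
import Cfsg.Prelude.Def_BlockLocal
import Cfsg.Agent.Lib.Helper79.KleinStruct
import Cfsg.Agent.Lib.Helper76.PRegChar
import Cfsg.Agent.Lib.Helper78.BlockOrth
import Cfsg.Agent.Lib.Helper27.VanishSing

/-!
# Perfect isometries between blocks with Klein four defect groups: the assembly

Two blocks with four characters and defect two which are both of "nilpotent type" (all
characters agree on `2`-regular elements and differences satisfy the congruences of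
`klein_nil_congr`), or both of "rank three type" (a sign structure on `2`-singular elements),
are perfectly isometric via any bijection.
-/

set_option autoImplicit false
set_option linter.unusedSectionVars false
set_option linter.style.haveILetI false

namespace Cfsg.Agent.Lib.Helper79

open Cfsg Cfsg.Agent.Lib.Helper16 Cfsg.Agent.Lib.Helper81

section Abstract

variable {M : Ideal Cfsg.AlgInt}

/-- vanishing of a sum of products in the two mixed cases -/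
theorem sum_mul_eq_zero_of_mixed {ι : Type*} (s : Finset ι) (a b : ι → ℂ) (a₀ b₀ : ℂ)
    (p q : Prop) (ha : p → ∀ i ∈ s, a i = a₀) (ha' : ¬ p → ∑ i ∈ s, a i = 0)
    (hb : q → ∀ i ∈ s, b i = b₀) (hb' : ¬ q → ∑ i ∈ s, b i = 0) :
    (p ↔ q) ∨ ∑ i ∈ s, a i * b i = 0 := by
  by_cases hp : p <;> by_cases hq : q
  · left; exact ⟨fun _ => hq, fun _ => hp⟩
  · right
    calc ∑ i ∈ s, a i * b i = ∑ i ∈ s, a₀ * b i :=
          Finset.sum_congr rfl (fun i hi => by rw [ha hp i hi])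
      _ = a₀ * ∑ i ∈ s, b i := by rw [Finset.mul_sum]
      _ = 0 := by rw [hb' hq, mul_zero]
  · right
    calc ∑ i ∈ s, a i * b i = ∑ i ∈ s, a i * b₀ :=
          Finset.sum_congr rfl (fun i hi => by rw [hb hq i hi])
      _ = (∑ i ∈ s, a i) * b₀ := by rw [Finset.sum_mul]
      _ = 0 := by rw [ha' hp, zero_mul]
  · left; exact ⟨fun h => absurd h hp, fun h => absurd h hq⟩

/-- local integrality, nilpotent type -/
theorem memLocalRing_sum_mul_nil (hMp : M.IsPrime) {ι : Type*} (s : Finset ι) (hs : s.card = 4)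
    (a b : ι → ℂ) (a₀ b₀ n : ℂ) (p q : Prop)
    (ha : p → ∀ i ∈ s, a i = a₀) (ha' : ¬ p → ∑ i ∈ s, a i = 0)
    (hb : q → ∀ i ∈ s, b i = b₀) (hb' : ¬ q → ∑ i ∈ s, b i = 0)
    (h1 : ∀ i ∈ s, MemLocalRing M (2 * (a i - a₀) / n))
    (h2 : ∀ i ∈ s, MemLocalRing M ((b i - b₀) / 2))
    (h3 : MemLocalRing M (4 * a₀ / n)) (h4 : MemLocalRing M b₀) :
    MemLocalRing M ((∑ i ∈ s, a i * b i) / n) := by
  have hid : (∑ i ∈ s, a i * b i) / n =
      ∑ i ∈ s, (2 * (a i - a₀) / n) * ((b i - b₀) / 2) + (a₀ / n) * (∑ i ∈ s, b i) +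
        b₀ * ((∑ i ∈ s, a i) / n) - (4 * a₀ / n) * b₀ := by
    have e1 : ∀ i, (2 * (a i - a₀) / n) * ((b i - b₀) / 2) =
        (a i * b i) / n - b₀ * (a i / n) - (a₀ / n) * b i + a₀ * b₀ / n := by
      intro i; ring
    simp only [e1, Finset.sum_add_distrib, Finset.sum_sub_distrib, ← Finset.sum_div,
      ← Finset.mul_sum, Finset.sum_const, hs]
    simp only [nsmul_eq_mul, Nat.cast_ofNat]
    ring
  rw [hid]
  have t1 : MemLocalRing M (∑ i ∈ s, (2 * (a i - a₀) / n) * ((b i - b₀) / 2)) :=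
    memLocalRing_sum hMp _ _ (fun i hi => memLocalRing_mul hMp (h1 i hi) (h2 i hi))
  have t2 : MemLocalRing M ((a₀ / n) * (∑ i ∈ s, b i)) := by
    by_cases hq : q
    · have : ∑ i ∈ s, b i = 4 * b₀ := by
        rw [Finset.sum_congr rfl (hb hq), Finset.sum_const, hs]
        simp
      rw [this]
      have e : a₀ / n * (4 * b₀) = (4 * a₀ / n) * b₀ := by ring
      rw [e]
      exact memLocalRing_mul hMp h3 h4
    · rw [hb' hq, mul_zero]
      exact memLocalRing_zero hMp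
  have t3 : MemLocalRing M (b₀ * ((∑ i ∈ s, a i) / n)) := by
    by_cases hp : p
    · have : ∑ i ∈ s, a i = 4 * a₀ := by
        rw [Finset.sum_congr rfl (ha hp), Finset.sum_const, hs]
        simp
      rw [this]
      exact memLocalRing_mul hMp h4 h3
    · rw [ha' hp, zero_div, mul_zero]
      exact memLocalRing_zero hMp
  exact memLocalRing_sub hMp (memLocalRing_add hMp (memLocalRing_add hMp t1 t2) t3)
    (memLocalRing_mul hMp h3 h4)

/-- local integrality, rank three type -/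
theorem memLocalRing_sum_mul_three (hMp : M.IsPrime) {ι : Type*} (s : Finset ι)
    (hs : s.card = 4) (a b : ι → ℂ) (a₀ b₀ n : ℂ) (q : Prop)
    (hb : q → ∀ i ∈ s, b i = b₀) (hb' : ¬ q → ∑ i ∈ s, b i = 0)
    (h1 : ∀ i ∈ s, MemLocalRing M ((a i - a₀) / n))
    (h2 : ∀ i ∈ s, MemLocalRing M (b i))
    (h3 : MemLocalRing M (4 * a₀ / n)) (h4 : MemLocalRing M b₀) :
    MemLocalRing M ((∑ i ∈ s, a i * b i) / n) := by
  have hid : (∑ i ∈ s, a i * b i) / n =
      ∑ i ∈ s, ((a i - a₀) / n) * b i + (a₀ / n) * (∑ i ∈ s, b i) := by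
    have e1 : ∀ i, ((a i - a₀) / n) * b i = (a i * b i) / n - (a₀ / n) * b i := by
      intro i; ring
    simp only [e1, Finset.sum_sub_distrib, ← Finset.sum_div, ← Finset.mul_sum]
    ring
  rw [hid]
  have t1 : MemLocalRing M (∑ i ∈ s, ((a i - a₀) / n) * b i) :=
    memLocalRing_sum hMp _ _ (fun i hi => memLocalRing_mul hMp (h1 i hi) (h2 i hi))
  have t2 : MemLocalRing M ((a₀ / n) * (∑ i ∈ s, b i)) := by
    by_cases hq : q
    · have : ∑ i ∈ s, b i = 4 * b₀ := by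
        rw [Finset.sum_congr rfl (hb hq), Finset.sum_const, hs]
        simp
      rw [this]
      have e : a₀ / n * (4 * b₀) = (4 * a₀ / n) * b₀ := by ring
      rw [e]
      exact memLocalRing_mul hMp h3 h4
    · rw [hb' hq, mul_zero]
      exact memLocalRing_zero hMp
  exact memLocalRing_add hMp t1 t2

end Abstract

section Concrete

variable {K : Type*} [Group K] [Fintype K] {M : Ideal Cfsg.AlgInt}

/-- `4 χ(x) / |C(x)|` is a local integer for `χ` in a block of defect at most two -/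
theorem memLocalRing_four_mul_div (hM : Cfsg.IsPModular 2 M) (b : Set (Cfsg.IrrCharacter K))
    (hd : Cfsg.blockDefect 2 b ≤ 2) (χ : Cfsg.IrrCharacter K) (hχ : χ ∈ b) (x : K) :
    MemLocalRing M (4 * (χ : K → ℂ) x /
      (Nat.card (Subgroup.centralizer ({x} : Set K)) : ℂ)) := by
  haveI : Fact (Nat.Prime 2) := ⟨Nat.prime_two⟩
  have hMp := isPrime_of_isPModular hM
  obtain ⟨k₂, m₂, hm₂, hcard2⟩ := Nat.exists_eq_pow_mul_and_not_dvd
    (Nat.card_pos (α := Subgroup.centralizer ({x} : Set K))).ne' 2 (by norm_num)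
  have hpd := Cfsg.Agent.Lib.Helper76.memLocalRing_pow_div_mul_irr hM χ x k₂
    (by rw [hcard2]; exact Dvd.intro _ rfl)
  have hle : (Nat.card K).factorization 2 -
      (Cfsg.charDegree (χ : K → ℂ)).factorization 2 ≤ 2 := by
    refine le_trans ?_ hd
    unfold Cfsg.blockDefect
    apply Nat.sub_le_sub_left
    exact Nat.sInf_le (Set.mem_image_of_mem _ hχ)
  obtain ⟨e, he⟩ : ∃ e : ℕ, e = (Nat.card K).factorization 2 -
      (Cfsg.charDegree (χ : K → ℂ)).factorization 2 := ⟨_, rfl⟩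
  rw [← he] at hpd hle
  have hm₂0 : (m₂ : ℂ) ≠ 0 := by
    intro h
    have : m₂ = 0 := by exact_mod_cast h
    rw [this] at hm₂
    exact hm₂ (dvd_zero 2)
  have h5 : 4 * (χ : K → ℂ) x / (Nat.card (Subgroup.centralizer ({x} : Set K)) : ℂ) =
      ((2 ^ (2 - e) : ℕ) : ℂ) * ((m₂ : ℂ)⁻¹ *
        (((2 ^ e : ℕ) : ℂ) / (2 : ℂ) ^ k₂ * (χ : K → ℂ) x)) := by
    rw [hcard2]
    have h6 : ((2 ^ (2 - e) : ℕ) : ℂ) * ((2 ^ e : ℕ) : ℂ) = 4 := by
      rw [← Nat.cast_mul, ← pow_add, Nat.sub_add_cancel hle]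
      norm_num
    have h7 : ((2 : ℂ) ^ k₂) ≠ 0 := pow_ne_zero _ (by norm_num)
    push_cast at h6 ⊢
    field_simp
    linear_combination (-(χ : K → ℂ) x) * h6
  rw [h5]
  have hpd' : MemLocalRing M (((2 ^ e : ℕ) : ℂ) / (2 : ℂ) ^ k₂ * (χ : K → ℂ) x) := by
    exact_mod_cast hpd
  exact memLocalRing_mul hMp (memLocalRing_natCast hMp _)
    (memLocalRing_mul hMp (memLocalRing_inv_natCast hM hm₂) hpd')

/-- the characters of a block which agree on `2`-regular elements sum to zero at every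
`2`-singular element -/
theorem sum_block_singular (hM : Cfsg.IsPModular 2 M) (b : Set (Cfsg.IrrCharacter K))
    (hb : Cfsg.IsPBlock M b)
    (hreg : ∀ χ ∈ b, ∀ χ' ∈ b, ∀ s : K, ¬ 2 ∣ orderOf s → (χ : K → ℂ) s = (χ' : K → ℂ) s)
    (x : K) (hx : 2 ∣ orderOf x) : ∑ᶠ χ ∈ b, (χ : K → ℂ) x = 0 := by
  classical
  haveI : Fact (Nat.Prime 2) := ⟨Nat.prime_two⟩
  have hMp := isPrime_of_isPModular hM
  have := Cfsg.Agent.Lib.Helper81.irr_finite K
  have hfin : b.Finite := Set.toFinite b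
  obtain ⟨χ₀, hχ₀⟩ := IsPBlock.nonempty hMp hb
  have h1 := Cfsg.Agent.Lib.Helper78.block_orth_regular_singular hM b hb (u := 1) (g := x⁻¹)
    (by simp) (by rwa [orderOf_inv])
  rw [inv_inv, finsum_mem_eq_finite_toFinset_sum _ hfin] at h1
  rw [finsum_mem_eq_finite_toFinset_sum _ hfin]
  have h2 : ∑ χ ∈ hfin.toFinset, (χ : K → ℂ) 1 * (χ : K → ℂ) x =
      (χ₀ : K → ℂ) 1 * ∑ χ ∈ hfin.toFinset, (χ : K → ℂ) x := by
    rw [Finset.mul_sum]
    refine Finset.sum_congr rfl fun χ hχ => ?_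
    rw [hreg χ ((Set.Finite.mem_toFinset hfin).mp hχ) χ₀ hχ₀ 1 (by simp)]
  rw [h2] at h1
  rcases mul_eq_zero.mp h1 with h | h
  · exact absurd h (Cfsg.Agent.Lib.Helper81.irr_one_ne_zero χ₀)
  · exact h

end Concrete

section Assembly

variable {G : Type*} [Group G] [Fintype G] {H : Type*} [Group H] [Fintype H]
  {M : Ideal Cfsg.AlgInt}

/-- reindexing along a bijection of blocks -/
theorem finsum_bijOn {B : Set (Cfsg.IrrCharacter G)} {c : Set (Cfsg.IrrCharacter H)}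
    {I : Cfsg.IrrCharacter H → Cfsg.IrrCharacter G} (hI : Set.BijOn I c B)
    (f : Cfsg.IrrCharacter G → ℂ) : ∑ᶠ η ∈ c, f (I η) = ∑ᶠ χ ∈ B, f χ := by
  rw [← hI.image_eq, finsum_mem_image hI.injOn]

/-- **Perfect isometry, nilpotent type.** -/
theorem perfect_of_nil (hM : Cfsg.IsPModular 2 M) (B : Set (Cfsg.IrrCharacter G))
    (hB : Cfsg.IsPBlock M B) (c : Set (Cfsg.IrrCharacter H)) (hc : Cfsg.IsPBlock M c)
    (hkc : Nat.card c = 4) (hdB : Cfsg.blockDefect 2 B ≤ 2) (hdc : Cfsg.blockDefect 2 c ≤ 2)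
    (hregB : ∀ χ ∈ B, ∀ χ' ∈ B, ∀ s : G, ¬ 2 ∣ orderOf s → (χ : G → ℂ) s = (χ' : G → ℂ) s)
    (hcongB : ∀ χ ∈ B, ∀ χ' ∈ B, ∀ x : G,
      MemLocalRing M (((χ : G → ℂ) x - (χ' : G → ℂ) x) / 2) ∧
      MemLocalRing M (2 * ((χ : G → ℂ) x - (χ' : G → ℂ) x) /
        (Nat.card (Subgroup.centralizer ({x} : Set G)) : ℂ)))
    (hregc : ∀ χ ∈ c, ∀ χ' ∈ c, ∀ s : H, ¬ 2 ∣ orderOf s → (χ : H → ℂ) s = (χ' : H → ℂ) s)
    (hcongc : ∀ χ ∈ c, ∀ χ' ∈ c, ∀ x : H,
      MemLocalRing M (((χ : H → ℂ) x - (χ' : H → ℂ) x) / 2) ∧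
      MemLocalRing M (2 * ((χ : H → ℂ) x - (χ' : H → ℂ) x) /
        (Nat.card (Subgroup.centralizer ({x} : Set H)) : ℂ)))
    (I : Cfsg.IrrCharacter H → Cfsg.IrrCharacter G) (hI : Set.BijOn I c B) :
    Cfsg.IsPerfectIsometry 2 M c B I (fun _ => 1) := by
  classical
  haveI : Fact (Nat.Prime 2) := ⟨Nat.prime_two⟩
  have hMp := isPrime_of_isPModular hM
  have := Cfsg.Agent.Lib.Helper81.irr_finite H
  have hfin : c.Finite := Set.toFinite c
  have hs : hfin.toFinset.card = 4 := by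
    rw [← hkc, ← Set.ncard_eq_toFinset_card c hfin, Nat.card_coe_set_eq]
  obtain ⟨η₀, hη₀⟩ := IsPBlock.nonempty hMp hc
  refine ⟨hI, fun η _ => Or.inl rfl, ?_⟩
  intro x y
  have hμ : Cfsg.signedBijectionKernel c I (fun _ => 1) x y =
      ∑ η ∈ hfin.toFinset, (I η : G → ℂ) x * (η : H → ℂ) y := by
    unfold Cfsg.signedBijectionKernel
    rw [finsum_mem_eq_finite_toFinset_sum _ hfin]
    refine Finset.sum_congr rfl fun η _ => ?_
    simp
  rw [hμ]
  have hmem : ∀ η ∈ hfin.toFinset, η ∈ c := fun η hη => (Set.Finite.mem_toFinset hfin).mp hη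
  have ha : Cfsg.IsPRegular 2 x → ∀ η ∈ hfin.toFinset,
      (I η : G → ℂ) x = (I η₀ : G → ℂ) x :=
    fun hx η hη => hregB _ (hI.mapsTo (hmem η hη)) _ (hI.mapsTo hη₀) x hx
  have ha' : ¬ Cfsg.IsPRegular 2 x → ∑ η ∈ hfin.toFinset, (I η : G → ℂ) x = 0 := by
    intro hx
    have hx' : 2 ∣ orderOf x := not_not.mp hx
    rw [← finsum_mem_eq_finite_toFinset_sum _ hfin,
      finsum_bijOn hI (fun χ => (χ : G → ℂ) x)]
    exact sum_block_singular hM B hB hregB x hx'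
  have hb : Cfsg.IsPRegular 2 y → ∀ η ∈ hfin.toFinset,
      (η : H → ℂ) y = (η₀ : H → ℂ) y :=
    fun hy η hη => hregc _ (hmem η hη) _ hη₀ y hy
  have hb' : ¬ Cfsg.IsPRegular 2 y → ∑ η ∈ hfin.toFinset, (η : H → ℂ) y = 0 := by
    intro hy
    rw [← finsum_mem_eq_finite_toFinset_sum _ hfin]
    exact sum_block_singular hM c hc hregc y (not_not.mp hy)
  refine ⟨?_, ?_, ?_⟩
  · exact memLocalRing_sum_mul_nil hMp _ hs (fun η => (I η : G → ℂ) x)
      (fun η => (η : H → ℂ) y) ((I η₀ : G → ℂ) x) ((η₀ : H → ℂ) y) _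
      (Cfsg.IsPRegular 2 x) (Cfsg.IsPRegular 2 y) ha ha' hb hb'
      (fun η hη => (hcongB _ (hI.mapsTo (hmem η hη)) _ (hI.mapsTo hη₀) x).2)
      (fun η hη => (hcongc _ (hmem η hη) _ hη₀ y).1)
      (memLocalRing_four_mul_div hM B hdB _ (hI.mapsTo hη₀) x)
      (memLocalRing_of_isIntegral hMp (irr_isIntegral η₀.2 y))
  · have e : ∑ η ∈ hfin.toFinset, (I η : G → ℂ) x * (η : H → ℂ) y =
        ∑ η ∈ hfin.toFinset, (η : H → ℂ) y * (I η : G → ℂ) x :=
      Finset.sum_congr rfl (fun η _ => mul_comm _ _)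
    rw [e]
    exact memLocalRing_sum_mul_nil hMp _ hs (fun η => (η : H → ℂ) y)
      (fun η => (I η : G → ℂ) x) ((η₀ : H → ℂ) y) ((I η₀ : G → ℂ) x) _
      (Cfsg.IsPRegular 2 y) (Cfsg.IsPRegular 2 x) hb hb' ha ha'
      (fun η hη => (hcongc _ (hmem η hη) _ hη₀ y).2)
      (fun η hη => (hcongB _ (hI.mapsTo (hmem η hη)) _ (hI.mapsTo hη₀) x).1)
      (memLocalRing_four_mul_div hM c hdc _ hη₀ y)
      (memLocalRing_of_isIntegral hMp (irr_isIntegral (I η₀).2 x))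
  · exact sum_mul_eq_zero_of_mixed _ (fun η => (I η : G → ℂ) x) (fun η => (η : H → ℂ) y)
      _ _ _ _ ha ha' hb hb'

/-- **Perfect isometry, rank three type.** -/
theorem perfect_of_rank3 (hM : Cfsg.IsPModular 2 M) (B : Set (Cfsg.IrrCharacter G))
    (hB : Cfsg.IsPBlock M B) (c : Set (Cfsg.IrrCharacter H)) (hc : Cfsg.IsPBlock M c)
    (hkc : Nat.card c = 4) (hdB : Cfsg.blockDefect 2 B ≤ 2) (hdc : Cfsg.blockDefect 2 c ≤ 2)
    (δ : Cfsg.IrrCharacter G → ℤ) (χ₀ : Cfsg.IrrCharacter G) (hχ₀ : χ₀ ∈ B)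
    (hδ : ∀ χ ∈ B, δ χ = 1 ∨ δ χ = -1)
    (hsing : ∀ χ ∈ B, ∀ x : G, 2 ∣ orderOf x →
      (χ : G → ℂ) x = (δ χ : ℂ) * (χ₀ : G → ℂ) x)
    (hsum : ∀ s : G, ¬ 2 ∣ orderOf s → ∑ᶠ χ ∈ B, (δ χ : ℂ) * (χ : G → ℂ) s = 0)
    (δ' : Cfsg.IrrCharacter H → ℤ) (η₀ : Cfsg.IrrCharacter H) (hη₀ : η₀ ∈ c)
    (hδ' : ∀ η ∈ c, δ' η = 1 ∨ δ' η = -1)
    (hsing' : ∀ η ∈ c, ∀ y : H, 2 ∣ orderOf y →
      (η : H → ℂ) y = (δ' η : ℂ) * (η₀ : H → ℂ) y)
    (hsum' : ∀ s : H, ¬ 2 ∣ orderOf s → ∑ᶠ η ∈ c, (δ' η : ℂ) * (η : H → ℂ) s = 0)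
    (I : Cfsg.IrrCharacter H → Cfsg.IrrCharacter G) (hI : Set.BijOn I c B) :
    Cfsg.IsPerfectIsometry 2 M c B I (fun η => δ (I η) * δ' η) := by
  classical
  haveI : Fact (Nat.Prime 2) := ⟨Nat.prime_two⟩
  have hMp := isPrime_of_isPModular hM
  have := Cfsg.Agent.Lib.Helper81.irr_finite H
  have hfin : c.Finite := Set.toFinite c
  have hs : hfin.toFinset.card = 4 := by
    rw [← hkc, ← Set.ncard_eq_toFinset_card c hfin, Nat.card_coe_set_eq]
  have hmem : ∀ η ∈ hfin.toFinset, η ∈ c := fun η hη => (Set.Finite.mem_toFinset hfin).mp hη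
  refine ⟨hI, ?_, ?_⟩
  · intro η hη
    show δ (I η) * δ' η = 1 ∨ δ (I η) * δ' η = -1
    rcases hδ _ (hI.mapsTo hη) with h | h <;> rcases hδ' η hη with h' | h' <;> rw [h, h'] <;>
      simp
  intro x y
  have hμ : Cfsg.signedBijectionKernel c I (fun η => δ (I η) * δ' η) x y =
      ∑ η ∈ hfin.toFinset, ((δ (I η) : ℂ) * (I η : G → ℂ) x) *
        ((δ' η : ℂ) * (η : H → ℂ) y) := by
    unfold Cfsg.signedBijectionKernel
    rw [finsum_mem_eq_finite_toFinset_sum _ hfin]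
    refine Finset.sum_congr rfl fun η _ => ?_
    push_cast
    ring
  rw [hμ]
  have hsq : ∀ χ ∈ B, (δ χ : ℂ) * (δ χ : ℂ) = 1 := by
    intro χ hχ
    rcases hδ χ hχ with h | h <;> rw [h] <;> simp
  have hsq' : ∀ η ∈ c, (δ' η : ℂ) * (δ' η : ℂ) = 1 := by
    intro η hη
    rcases hδ' η hη with h | h <;> rw [h] <;> simp
  have ha : 2 ∣ orderOf x → ∀ η ∈ hfin.toFinset,
      (δ (I η) : ℂ) * (I η : G → ℂ) x = (χ₀ : G → ℂ) x := by
    intro hx η hη
    rw [hsing _ (hI.mapsTo (hmem η hη)) x hx, ← mul_assoc, hsq _ (hI.mapsTo (hmem η hη)),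
      one_mul]
  have ha' : ¬ 2 ∣ orderOf x → ∑ η ∈ hfin.toFinset,
      (δ (I η) : ℂ) * (I η : G → ℂ) x = 0 := by
    intro hx
    rw [← finsum_mem_eq_finite_toFinset_sum _ hfin,
      finsum_bijOn hI (fun χ => (δ χ : ℂ) * (χ : G → ℂ) x)]
    exact hsum x hx
  have hb : 2 ∣ orderOf y → ∀ η ∈ hfin.toFinset,
      (δ' η : ℂ) * (η : H → ℂ) y = (η₀ : H → ℂ) y := by
    intro hy η hη
    rw [hsing' _ (hmem η hη) y hy, ← mul_assoc, hsq' _ (hmem η hη), one_mul]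
  have hb' : ¬ 2 ∣ orderOf y → ∑ η ∈ hfin.toFinset, (δ' η : ℂ) * (η : H → ℂ) y = 0 := by
    intro hy
    rw [← finsum_mem_eq_finite_toFinset_sum _ hfin]
    exact hsum' y hy
  -- the differences divided by the centralizer order
  have hL1 : ∀ η ∈ hfin.toFinset, MemLocalRing M (((δ (I η) : ℂ) * (I η : G → ℂ) x -
      (χ₀ : G → ℂ) x) / (Nat.card (Subgroup.centralizer ({x} : Set G)) : ℂ)) := by
    intro η hη
    have h := Cfsg.Agent.Lib.Helper27.VanishSing.vanish_singular_div_centralizer hM (I η) χ₀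
      (δ (I η)) (-1) (by
        intro z hz
        have := hsing _ (hI.mapsTo (hmem η hη)) z hz
        push_cast
        rw [this, ← mul_assoc, hsq _ (hI.mapsTo (hmem η hη))]
        ring) x
    have e : ((δ (I η) : ℂ) * (I η : G → ℂ) x - (χ₀ : G → ℂ) x) =
        ((δ (I η) : ℂ) * (I η).1 x + ((-1 : ℤ) : ℂ) * χ₀.1 x) := by
      push_cast; ring
    rw [e]
    exact h
  have hL1' : ∀ η ∈ hfin.toFinset, MemLocalRing M (((δ' η : ℂ) * (η : H → ℂ) y -
      (η₀ : H → ℂ) y) / (Nat.card (Subgroup.centralizer ({y} : Set H)) : ℂ)) := by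
    intro η hη
    have h := Cfsg.Agent.Lib.Helper27.VanishSing.vanish_singular_div_centralizer hM η η₀
      (δ' η) (-1) (by
        intro z hz
        have := hsing' _ (hmem η hη) z hz
        push_cast
        rw [this, ← mul_assoc, hsq' _ (hmem η hη)]
        ring) y
    have e : ((δ' η : ℂ) * (η : H → ℂ) y - (η₀ : H → ℂ) y) =
        ((δ' η : ℂ) * η.1 y + ((-1 : ℤ) : ℂ) * η₀.1 y) := by
      push_cast; ring
    rw [e]
    exact h
  have hint : ∀ η : Cfsg.IrrCharacter H, MemLocalRing M ((δ' η : ℂ) * (η : H → ℂ) y) :=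
    fun η => memLocalRing_mul hMp (memLocalRing_intCast hMp _)
      (memLocalRing_of_isIntegral hMp (irr_isIntegral η.2 y))
  have hint' : ∀ η : Cfsg.IrrCharacter H,
      MemLocalRing M ((δ (I η) : ℂ) * (I η : G → ℂ) x) :=
    fun η => memLocalRing_mul hMp (memLocalRing_intCast hMp _)
      (memLocalRing_of_isIntegral hMp (irr_isIntegral (I η).2 x))
  refine ⟨?_, ?_, ?_⟩
  · exact memLocalRing_sum_mul_three hMp _ hs (fun η => (δ (I η) : ℂ) * (I η : G → ℂ) x)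
      (fun η => (δ' η : ℂ) * (η : H → ℂ) y) ((χ₀ : G → ℂ) x) ((η₀ : H → ℂ) y) _
      (2 ∣ orderOf y) hb hb' hL1 (fun η _ => hint η)
      (memLocalRing_four_mul_div hM B hdB _ hχ₀ x)
      (memLocalRing_of_isIntegral hMp (irr_isIntegral η₀.2 y))
  · have e : ∑ η ∈ hfin.toFinset, ((δ (I η) : ℂ) * (I η : G → ℂ) x) *
        ((δ' η : ℂ) * (η : H → ℂ) y) =
        ∑ η ∈ hfin.toFinset, ((δ' η : ℂ) * (η : H → ℂ) y) *
          ((δ (I η) : ℂ) * (I η : G → ℂ) x) :=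
      Finset.sum_congr rfl (fun η _ => mul_comm _ _)
    rw [e]
    exact memLocalRing_sum_mul_three hMp _ hs (fun η => (δ' η : ℂ) * (η : H → ℂ) y)
      (fun η => (δ (I η) : ℂ) * (I η : G → ℂ) x) ((η₀ : H → ℂ) y) ((χ₀ : G → ℂ) x) _
      (2 ∣ orderOf x) ha ha' hL1' (fun η _ => hint' η)
      (memLocalRing_four_mul_div hM c hdc _ hη₀ y)
      (memLocalRing_of_isIntegral hMp (irr_isIntegral χ₀.2 x))
  · rcases sum_mul_eq_zero_of_mixed _ (fun η => (δ (I η) : ℂ) * (I η : G → ℂ) x)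
      (fun η => (δ' η : ℂ) * (η : H → ℂ) y) _ _ _ _ ha ha' hb hb' with h | h
    · left
      exact not_congr h
    · right
      exact h

end Assembly

end Cfsg.Agent.Lib.Helper79
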